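import Cfsg.Agent.Lib.Lie.RankOneClass.Induction

/-!
Owner: helper5. The normal subgroup generated by `Q` and `t`, as a setup without extensions.
-/

set_option autoImplicit false
set_option linter.unusedSectionVars false

namespace CfsgLib.Lie.RankOneClass

open MulAction CfsgLib.Lie.RankOne CfsgLib.OddTransitive.RankOne

universe u v

variable {G : Type u} {Ω : Type v} [Group G] [MulAction G Ω] [Finite G] [FaithfulSMul G Ω] {a : Ω} {t : G}
  {Q : Subgroup G}

/-- The group generated by `Q` and `t`. -/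
abbrev core (t : G) (Q : Subgroup G) : Subgroup G := Subgroup.closure ((Q : Set G) ∪ {t})

theorem Q_le_core : Q ≤ core t Q := fun _ hy => Subgroup.subset_closure (Or.inl hy)

theorem t_mem_core : t ∈ core t Q := Subgroup.subset_closure (Or.inr rfl)

theorem closure_core_eq_top :
    Subgroup.closure ((Q.subgroupOf (core t Q) : Set ↥(core t Q)) ∪ {⟨t, t_mem_core⟩}) = ⊤ := by
  rw [eq_top_iff]
  refine le_of_eq_of_le (Subgroup.closure_closure_coe_preimage (k := (Q : Set G) ∪ {t})).symm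
    (Subgroup.closure_mono fun x hx => ?_)
  rcases hx with h | h
  · exact Or.inl (Subgroup.mem_subgroupOf.2 h)
  · exact Or.inr (Subtype.ext h)

theorem noExt_core : NoExt (⟨t, t_mem_core⟩ : ↥(core t Q)) (Q.subgroupOf (core t Q)) := fun L _ hQ ht => by
  rw [eq_top_iff, ← closure_core_eq_top, Subgroup.closure_le]
  rintro x (hx | hx)
  · exact hQ hx
  · rw [Set.mem_singleton_iff] at hx
    exact hx ▸ ht

variable (hS : Cfsg.IsRankOneSetup G Ω a t Q)
  (h2 : ∃ x y : G, x ≠ 1 ∧ y ≠ 1 ∧ x ≠ y ∧ x * x = 1 ∧ y * y = 1 ∧ x * y = y * x)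
include hS h2

/-- The three cases for the core. -/
theorem core_cases :
    (∃ (F : Type) (_ : Field F) (_ : Fintype F), (∃ n : ℕ, 2 ≤ n ∧ Fintype.card F = 2 ^ n) ∧
      Nonempty (↥(core t Q) ≃* Matrix.ProjectiveSpecialLinearGroup (Fin 2) F)) ∨
    Cfsg.Lie.IsoSuzuki (↥(core t Q)) ∨
    (let t' : ↥(core t Q) := ⟨t, t_mem_core⟩
     let Q' : Subgroup ↥(core t Q) := Q.subgroupOf (core t Q)
     FaithfulSMul ↥(core t Q) Ω ∧ Cfsg.IsRankOneSetup ↥(core t Q) Ω a t' Q' ∧
      (∃ x y : ↥(core t Q), x ≠ 1 ∧ y ≠ 1 ∧ x ≠ y ∧ x * x = 1 ∧ y * y = 1 ∧ x * y = y * x) ∧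
      Nat.card Q' = qq (↥(core t Q)) a ^ 3 ∧
      (∃ w ∈ Wg a t', w ≠ 1) ∧
      ∀ w ∈ Wg a t', w ≠ 1 → ∀ y ∈ Q', w * y = y * w →
        y = 1 ∨ y ∈ Cfsg.involutionsIn (stabilizer (↥(core t Q)) a : Set ↥(core t Q))) := by
  haveI := faithful_subgroup hS (core t Q)
  have hS' := setup_subgroup hS (core t Q) Q_le_core t_mem_core
  have hn := (closure_normal_odd hS h2).1
  have h2' := two_rank_subgroup hS (core t Q) hn t_mem_core h2
  rcases trichotomy hS' h2' noExt_core (centShape_of_setup hS' h2') with h | ⟨-, -, h⟩ | ⟨-, h, hw, hC⟩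
  · rw [Nat.card_congr (Subgroup.subgroupOfEquivOfLe Q_le_core).toEquiv,
      qq_subgroup hS (core t Q) hn t_mem_core] at h
    exact Or.inl (exists_psl_of_card_eq hS h2 h)
  · exact Or.inr (Or.inl h)
  · exact Or.inr (Or.inr ⟨inferInstance, hS', h2', h, hw, hC⟩)

end CfsgLib.Lie.RankOneClass
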