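import Cfsg.Agent.S1136
import Cfsg.Agent.S0205
import Cfsg.Agent.S0324
import Cfsg.Agent.S0325
import Cfsg.Agent.Lib.OddGated29.Klein
import Cfsg.Agent.Lib.Lie.Suzuki.Group
import Cfsg.Prelude.Def_Involutions

/-!
Owner: helper5. A simple group with a strongly embedded subgroup which has a normal subgroup regular
on the other cosets.
-/

set_option autoImplicit false
set_option linter.unusedSectionVars false

namespace CfsgLib.Lie.RankOneClass

open MulAction

/-- A Suzuki group has the Suzuki order. -/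
theorem isSuzuki_of_isoSuzuki {G : Type*} [Group G] [IsSimpleGroup G] (h : Cfsg.Lie.IsoSuzuki G) :
    Cfsg.IsSuzuki G := by
  obtain ⟨F, _, _, m, hm, hF, ⟨e⟩⟩ := h
  haveI : CharP F 2 := CfsgLib.Lie.Suzuki.charTwo_of_card hF
  refine ⟨inferInstance, m, hm, ?_⟩
  rw [Nat.card_congr e.toEquiv, ← Nat.card_congr (CfsgLib.Lie.Suzuki.equivLie hm hF).toEquiv,
    Cfsg.Agent.S0324.result hm hF]

variable {G : Type*} [Group G] [Finite G] [IsSimpleGroup G]

/-- The rank one setup on the cosets. -/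
theorem exists_setup (H : Subgroup G) (hH : Cfsg.IsStronglyEmbedded H) (Q : Subgroup G)
    (hQH : Q ≤ H) (hQn : (Q.subgroupOf H).Normal)
    (htrans : ∀ g₁ g₂ : G, g₁ ∉ H → g₂ ∉ H → ∃ u ∈ Q, g₂⁻¹ * (u * g₁) ∈ H)
    (hreg : ∀ g : G, g ∉ H → ∀ u ∈ Q, g⁻¹ * (u * g) ∈ H → u = 1) :
    ∃ t : G, Cfsg.IsRankOneSetup G (G ⧸ H) ((1 : G) : G ⧸ H) t Q ∧ FaithfulSMul G (G ⧸ H) ∧
      Even (Nat.card G) ∧
      ∃ x y : G, x ≠ 1 ∧ y ≠ 1 ∧ x ≠ y ∧ x * x = 1 ∧ y * y = 1 ∧ x * y = y * x := by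
  classical
  obtain ⟨hHtop, hHeven, hHodd⟩ := hH
  haveI : Fact (Nat.Prime 2) := ⟨Nat.prime_two⟩
  obtain ⟨⟨s, hsH⟩, hso⟩ := exists_prime_orderOf_dvd_card' 2 hHeven.two_dvd
  rw [Subgroup.orderOf_mk] at hso
  obtain ⟨t, htt, ht1, htH⟩ : ∃ t : G, t * t = 1 ∧ t ≠ 1 ∧ t ∉ H := by
    by_contra hcon
    push Not at hcon
    set N := Subgroup.normalClosure ({s} : Set G)
    rcases (inferInstance : N.Normal).eq_bot_or_eq_top with h | h
    · have : s ∈ N := Subgroup.subset_normalClosure rfl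
      rw [h, Subgroup.mem_bot] at this
      rw [this, orderOf_one] at hso
      exact absurd hso (by norm_num)
    · refine hHtop (eq_top_iff.2 ?_)
      rw [← h]
      show Subgroup.closure (Group.conjugatesOfSet ({s} : Set G)) ≤ H
      rw [Subgroup.closure_le]
      intro x hx
      obtain ⟨y, hy, hc⟩ := Group.mem_conjugatesOfSet_iff.1 hx
      rw [Set.mem_singleton_iff] at hy
      subst hy
      obtain ⟨g, rfl⟩ := isConj_iff.1 hc
      refine hcon _ ?_ fun e => ?_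
      · rw [show g * y * g⁻¹ * (g * y * g⁻¹) = g * (y * y) * g⁻¹ by group, ← pow_two, ← hso,
          pow_orderOf_eq_one, mul_one, mul_inv_cancel]
      · rw [conj_eq_one_iff] at e
        rw [e, orderOf_one] at hso
        exact absurd hso (by norm_num)
  set a : G ⧸ H := ((1 : G) : G ⧸ H) with ha
  have hmk : ∀ g : G, g • a = (g : G ⧸ H) := fun g => by
    rw [ha, MulAction.Quotient.smul_coe, smul_eq_mul, mul_one]
  have hstab : stabilizer G a = H := MulAction.stabilizer_quotient H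
  have hne : ∀ g : G, (g : G ⧸ H) ≠ a ↔ g ∉ H := fun g => by
    rw [ha, Ne, QuotientGroup.eq, mul_one, inv_mem_iff]
  have hQtr : ∀ x y : G ⧸ H, x ≠ a → y ≠ a → ∃ u ∈ Q, u • x = y := by
    intro x y hx hy
    obtain ⟨g₁, rfl⟩ := QuotientGroup.mk_surjective x
    obtain ⟨g₂, rfl⟩ := QuotientGroup.mk_surjective y
    obtain ⟨u, hu, h⟩ := htrans g₁ g₂ ((hne g₁).1 hx) ((hne g₂).1 hy)
    exact ⟨u, hu, (QuotientGroup.eq.2 h).symm⟩
  have hQfree : ∀ x : G ⧸ H, x ≠ a → ∀ u ∈ Q, u • x = x → u = 1 := by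
    intro x hx u hu hux
    obtain ⟨g, rfl⟩ := QuotientGroup.mk_surjective x
    exact hreg g ((hne g).1 hx) u hu (QuotientGroup.eq.1 hux.symm)
  have hta : t • a ≠ a := by rw [hmk]; exact (hne t).2 htH
  have hQconj : ∀ h ∈ stabilizer G a, ∀ x ∈ Q, h * x * h⁻¹ ∈ Q := fun h hh x hx => by
    rw [hstab] at hh
    have := hQn.conj_mem ⟨x, hQH hx⟩ (Subgroup.mem_subgroupOf.2 hx) ⟨h, hh⟩
    simpa [Subgroup.mem_subgroupOf] using this
  haveI : IsPretransitive G (G ⧸ H) := inferInstance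
  have htwo : IsMultiplyPretransitive G (G ⧸ H) 2 := by
    refine is_two_pretransitive_iff.2 fun {b₁ b₂ c₁ c₂} hb hc => ?_
    obtain ⟨g, hg⟩ := exists_smul_eq G b₁ a
    obtain ⟨g', hg'⟩ := exists_smul_eq G c₁ a
    obtain ⟨u, hu, hux⟩ := hQtr (g • b₂) (g' • c₂)
      (fun e => hb (smul_left_cancel g (hg.trans e.symm)))
      (fun e => hc (smul_left_cancel g' (hg'.trans e.symm)))
    have hua : u • a = a := by
      have : u ∈ stabilizer G a := hstab.symm ▸ hQH hu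
      exact this
    refine ⟨g'⁻¹ * u * g, ?_, ?_⟩
    · rw [mul_smul, mul_smul, hg, hua, ← hg', inv_smul_smul]
    · rw [mul_smul, mul_smul, hux, inv_smul_smul]
  set D := stabilizer G a ⊓ stabilizer G (t • a) with hD
  have hDodd : Odd (Nat.card D) := by
    have e : D = H ⊓ H.map (MulAut.conj t).toMonoidHom := by
      rw [hD, stabilizer_smul_eq_stabilizer_map_conj, hstab]
    rw [e]
    exact hHodd t htH
  have hinf : Q ⊓ stabilizer G (t • a) = ⊥ := by
    rw [eq_bot_iff]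
    rintro x ⟨hx, hx'⟩
    exact Subgroup.mem_bot.2 (hQfree _ hta x hx hx')
  have hdec : ∀ h ∈ stabilizer G a, ∃ y ∈ Q, ∃ d ∈ D, h = y * d := by
    intro h hh
    have h1 : h • (t • a) ≠ a := fun e => hta (smul_left_cancel h (e.trans (show h • a = a from hh).symm))
    obtain ⟨u, hu, hue⟩ := hQtr _ _ hta h1
    refine ⟨u, hu, u⁻¹ * h, Subgroup.mem_inf.2 ⟨mul_mem (inv_mem (hstab.symm ▸ hQH hu)) hh, ?_⟩, by group⟩
    show (u⁻¹ * h) • (t • a) = t • a
    rw [mul_smul, ← hue, inv_smul_smul]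
  have hcard : Nat.card (stabilizer G a) = Nat.card Q * Nat.card D := by
    rw [← Nat.card_prod]
    refine (Nat.card_eq_of_bijective (fun p : Q × D => (⟨(p.1 : G) * p.2,
      mul_mem (hstab.symm ▸ hQH p.1.2) (Subgroup.mem_inf.1 p.2.2).1⟩ : stabilizer G a))
      ⟨fun p p' e => ?_, fun h => ?_⟩).symm
    · have e' : (p.1 : G) * p.2 = p'.1 * p'.2 := congrArg Subtype.val e
      have h2 : (p'.1 : G)⁻¹ * p.1 = p'.2 * (p.2 : G)⁻¹ := by
        rw [eq_mul_inv_iff_mul_eq, mul_assoc, e', inv_mul_cancel_left]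
      have h3 := hQfree _ hta _ (mul_mem (inv_mem p'.1.2) p.1.2) (by
        rw [h2]; exact (Subgroup.mem_inf.1 (mul_mem p'.2.2 (inv_mem p.2.2))).2)
      have h4 : (p.1 : G) = p'.1 := (inv_mul_eq_one.1 h3).symm
      rw [h4] at e'
      exact Prod.ext (Subtype.ext h4) (Subtype.ext (mul_left_cancel e'))
    · obtain ⟨y, hy, d, hd, he⟩ := hdec h h.2
      exact ⟨(⟨y, hy⟩, ⟨d, hd⟩), Subtype.ext he.symm⟩
  have hQeven : Even (Nat.card Q) := by
    rw [hstab] at hcard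
    rw [hcard, Nat.even_mul] at hHeven
    exact hHeven.resolve_right (Nat.not_even_iff_odd.2 hDodd)
  have hS : Cfsg.IsRankOneSetup G (G ⧸ H) a t Q :=
    { two_transitive := htwo
      mul_self := htt
      ne_one := ht1
      not_mem := hta
      le := hstab.symm ▸ hQH
      conj_mem := hQconj
      inf_eq_bot := hinf
      sup_eq := le_antisymm (sup_le (hstab.symm ▸ hQH) inf_le_left) fun h hh => by
        obtain ⟨y, hy, d, hd, rfl⟩ := hdec h hh
        exact Subgroup.mul_mem_sup hy hd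
      even_card := hQeven
      odd_card := hDodd }
  haveI : FaithfulSMul G (G ⧸ H) := by
    refine ⟨fun {g g'} h => ?_⟩
    have h1 : g'⁻¹ * g ∈ H.normalCore := by
      rw [Subgroup.normalCore_eq_ker, MonoidHom.mem_ker]
      refine Equiv.ext fun x => ?_
      show (g'⁻¹ * g) • x = x
      rw [mul_smul, h x, inv_smul_smul]
    rcases (inferInstance : H.normalCore.Normal).eq_bot_or_eq_top with e | e
    · rw [e, Subgroup.mem_bot, inv_mul_eq_one] at h1
      exact h1.symm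
    · exact absurd (top_le_iff.1 (e ▸ H.normalCore_le)) hHtop
  have hGeven : Even (Nat.card G) := by
    rw [even_iff_two_dvd] at hHeven ⊢
    exact hHeven.trans (Subgroup.card_subgroup_dvd_card H)
  have hncyc : ¬ IsCyclic G := fun hc => by
    letI : CommGroup G := hc.commGroup
    rcases (inferInstance : H.Normal).eq_bot_or_eq_top with e | e
    · rw [e, Subgroup.mem_bot] at hsH
      rw [hsH, orderOf_one] at hso
      exact absurd hso (by norm_num)
    · exact hHtop e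
  obtain ⟨V, hV⟩ := CfsgLib.OddGated29.exists_kleinFour_of_simple hncyc
    fun h => Cfsg.Agent.S0205.result h
  haveI := hV
  have h2 : ∃ x y : G, x ≠ 1 ∧ y ≠ 1 ∧ x ≠ y ∧ x * x = 1 ∧ y * y = 1 ∧ x * y = y * x := by
    obtain ⟨⟨x, hx⟩, hx1⟩ : ∃ x : V, x ≠ 1 := by
      haveI : Nontrivial V := Finite.one_lt_card_iff_nontrivial.1 (by rw [IsKleinFour.card_four]; norm_num)
      exact exists_ne 1
    obtain ⟨⟨y, hy⟩, hy1, hyx⟩ : ∃ y : V, y ≠ 1 ∧ y ≠ ⟨x, hx⟩ := by
      by_contra hcon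
      push Not at hcon
      have hle : Nat.card V ≤ Nat.card Bool := Nat.card_le_card_of_surjective
        (fun b : Bool => if b then (1 : V) else ⟨x, hx⟩) fun z => by
          by_cases hz : z = 1
          · exact ⟨true, hz.symm⟩
          · exact ⟨false, (hcon z hz).symm⟩
      rw [IsKleinFour.card_four, Nat.card_eq_fintype_card, Fintype.card_bool] at hle
      omega
    refine ⟨x, y, fun e => hx1 (Subtype.ext e), fun e => hy1 (Subtype.ext e),
      fun e => hyx (Subtype.ext e.symm), ?_, ?_, ?_⟩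
    · exact congrArg Subtype.val (IsKleinFour.mul_self (⟨x, hx⟩ : V))
    · exact congrArg Subtype.val (IsKleinFour.mul_self (⟨y, hy⟩ : V))
    · have h1 := IsKleinFour.mul_self ((⟨x, hx⟩ : V) * ⟨y, hy⟩)
      have hxx := IsKleinFour.mul_self (⟨x, hx⟩ : V)
      have hyy := IsKleinFour.mul_self (⟨y, hy⟩ : V)
      have h3 : (⟨x, hx⟩ : V) * ⟨y, hy⟩ = ⟨y, hy⟩ * ⟨x, hx⟩ := by
        rw [← inv_eq_of_mul_eq_one_right h1, mul_inv_rev, inv_eq_of_mul_eq_one_right hxx,
          inv_eq_of_mul_eq_one_right hyy]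
      exact congrArg Subtype.val h3
  exact ⟨t, hS, inferInstance, hGeven, h2⟩

/-- The classification in the form of a strongly embedded subgroup. -/
theorem classify_regular (H : Subgroup G) (hH : Cfsg.IsStronglyEmbedded H) (Q : Subgroup G)
    (hQH : Q ≤ H) (hQn : (Q.subgroupOf H).Normal)
    (htrans : ∀ g₁ g₂ : G, g₁ ∉ H → g₂ ∉ H → ∃ u ∈ Q, g₂⁻¹ * (u * g₁) ∈ H)
    (hreg : ∀ g : G, g ∉ H → ∀ u ∈ Q, g⁻¹ * (u * g) ∈ H → u = 1) :
    (∃ (F : Type) (_ : Field F) (_ : Fintype F), (∃ n : ℕ, 2 ≤ n ∧ Fintype.card F = 2 ^ n) ∧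
        Nonempty (G ≃* Matrix.ProjectiveSpecialLinearGroup (Fin 2) F)) ∨
      Cfsg.IsSuzuki G ∨
      (∃ (F : Type) (_ : Field F) (_ : Fintype F) (n : ℕ), 2 ≤ n ∧ Fintype.card F = (2 ^ n) ^ 2 ∧
        Nonempty (G ≃* Cfsg.PSU 3 F (2 ^ n))) := by
  classical
  obtain ⟨t, hS, hF, hGeven, h2⟩ := exists_setup H hH Q hQH hQn htrans hreg
  obtain ⟨L, hLn, hLodd, hcases⟩ := Cfsg.Agent.S1136.result hS h2
  have hLtop : L = ⊤ := by
    refine hLn.eq_bot_or_eq_top.resolve_left fun h => ?_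
    rw [h, Subgroup.index_bot] at hLodd
    exact Nat.not_even_iff_odd.2 hLodd hGeven
  subst hLtop
  rcases hcases with ⟨F, iF, iFt, hn, ⟨e⟩⟩ | h | ⟨F, iF, iFt, n, hn, hF, ⟨e⟩⟩
  · exact Or.inl ⟨F, iF, iFt, hn, ⟨Subgroup.topEquiv.symm.trans e⟩⟩
  · obtain ⟨F, iF, iFt, m, hm, hF, ⟨e⟩⟩ := h
    exact Or.inr (Or.inl (isSuzuki_of_isoSuzuki ⟨F, iF, iFt, m, hm, hF, ⟨Subgroup.topEquiv.symm.trans e⟩⟩))
  · exact Or.inr (Or.inr ⟨F, iF, iFt, n, hn, hF, ⟨Subgroup.topEquiv.symm.trans e⟩⟩)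

end CfsgLib.Lie.RankOneClass
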