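import Cfsg.Agent.Lib.Lie.RankOneClass.Descend

/-!
Owner: helper5. The centraliser of an element of `V` on its fixed points is a rank one setup.
-/

set_option autoImplicit false
set_option linter.unusedSectionVars false

namespace CfsgLib.Lie.RankOneClass

open MulAction CfsgLib.Lie.RankOne

variable {G Ω : Type*} [Group G] [MulAction G Ω]

/-- The fixed points of `x`. -/
abbrev FixPt (Ω : Type*) [MulAction G Ω] (x : G) : Type _ := {c : Ω // x • c = c}

/-- The centraliser of `x` acting on the fixed points of `x`. -/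
def fixPerm (Ω : Type*) [MulAction G Ω] (x : G) :
    ↥(Subgroup.centralizer ({x} : Set G)) →* Equiv.Perm (FixPt Ω x) where
  toFun g :=
    { toFun := fun c => ⟨(g : G) • (c : Ω), by
        rw [← mul_smul, ← Subgroup.mem_centralizer_singleton_iff.1 g.2, mul_smul, c.2]⟩
      invFun := fun c => ⟨(g : G)⁻¹ • (c : Ω), by
        rw [← mul_smul, ← Subgroup.mem_centralizer_singleton_iff.1 (inv_mem g.2), mul_smul, c.2]⟩
      left_inv := fun c => Subtype.ext (inv_smul_smul (g : G) (c : Ω))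
      right_inv := fun c => Subtype.ext (smul_inv_smul (g : G) (c : Ω)) }
  map_one' := Equiv.ext fun c => Subtype.ext (one_smul G (c : Ω))
  map_mul' g h := Equiv.ext fun c => Subtype.ext (mul_smul (g : G) (h : G) (c : Ω))

/-- The group induced by the centraliser of `x` on the fixed points of `x`. -/
abbrev CentFix (Ω : Type*) [MulAction G Ω] (x : G) : Type _ :=
  ↥(Subgroup.centralizer ({x} : Set G)) ⧸ (fixPerm Ω x).ker

instance centFixAction (x : G) : MulAction (CentFix Ω x) (FixPt Ω x) :=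
  MulAction.compHom (FixPt Ω x) (QuotientGroup.kerLift (fixPerm Ω x))

/-- The projection. -/
abbrev centProj (Ω : Type*) [MulAction G Ω] (x : G) :
    ↥(Subgroup.centralizer ({x} : Set G)) →* CentFix Ω x :=
  QuotientGroup.mk' (fixPerm Ω x).ker

theorem centProj_smul (x : G) (g : ↥(Subgroup.centralizer ({x} : Set G))) (c : FixPt Ω x) :
    ((centProj Ω x g • c : FixPt Ω x) : Ω) = (g : G) • (c : Ω) := rfl

theorem centProj_eq_one (x : G) (g : ↥(Subgroup.centralizer ({x} : Set G))) :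
    centProj Ω x g = 1 ↔ ∀ c : Ω, x • c = c → (g : G) • c = c := by
  rw [QuotientGroup.mk'_apply, QuotientGroup.eq_one_iff, MonoidHom.mem_ker]
  constructor
  · intro h c hc
    exact congrArg Subtype.val (DFunLike.congr_fun h ⟨c, hc⟩ :)
  · exact fun h => Equiv.ext fun c => Subtype.ext (h c c.2)

instance centFix_faithful (x : G) : FaithfulSMul (CentFix Ω x) (FixPt Ω x) :=
  ⟨fun h => QuotientGroup.kerLift_injective _ (Equiv.ext h)⟩

variable [Finite G] [FaithfulSMul G Ω] {a : Ω} {t : G} {Q : Subgroup G}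

local notation "𝔇" => ((stabilizer G a ⊓ stabilizer G (t • a)) : Subgroup G)
local notation "𝔍" => Cfsg.involutionsIn (stabilizer G a : Set G)

variable (hS : Cfsg.IsRankOneSetup G Ω a t Q) {x : G} (hx : x ∈ Vg a t)
include hS hx

theorem base_fixed : x • a = a := (mem_D.1 (mem_Vg.1 hx).1).1

theorem t_mem_centralizer : t ∈ Subgroup.centralizer ({x} : Set G) :=
  Subgroup.mem_centralizer_singleton_iff.2 (mem_Vg.1 hx).2.symm

theorem cent_ker_Q {y : ↥(Subgroup.centralizer ({x} : Set G))} (hy : (y : G) ∈ Q)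
    (h : centProj Ω x y = 1) : (y : G) = 1 :=
  eq_one_of_fix_ta hS hy ((centProj_eq_one x y).1 h _ (mem_D.1 (mem_Vg.1 hx).1).2)

theorem cent_card_Q :
    Nat.card ↥((Q.subgroupOf (Subgroup.centralizer ({x} : Set G))).map (centProj Ω x)) =
      Nat.card ↥(Q ⊓ Subgroup.centralizer ({x} : Set G)) := by
  refine (Nat.card_eq_of_bijective (fun y : ↥(Q ⊓ Subgroup.centralizer ({x} : Set G)) =>
    (⟨centProj Ω x ⟨y, y.2.2⟩, ⟨_, Subgroup.mem_subgroupOf.2 y.2.1, rfl⟩⟩ :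
      ↥((Q.subgroupOf (Subgroup.centralizer ({x} : Set G))).map (centProj Ω x))))
    ⟨fun y y' h => ?_, ?_⟩).symm
  · have h' : centProj Ω x (⟨y, y.2.2⟩⁻¹ * ⟨y', y'.2.2⟩) = 1 := by
      rw [map_mul, map_inv, inv_mul_eq_one]
      exact congrArg Subtype.val h
    exact Subtype.ext (inv_mul_eq_one.1 (cent_ker_Q hS hx (mul_mem (inv_mem (Subgroup.mem_inf.1 y.2).1) (Subgroup.mem_inf.1 y'.2).1) h'))
  · rintro ⟨_, g, hg, rfl⟩
    exact ⟨⟨(g : G), Subgroup.mem_subgroupOf.1 hg, g.2⟩, rfl⟩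

theorem cent_lift_stab {g : ↥(Subgroup.centralizer ({x} : Set G))} (hg : (g : G) • a = a) :
    ∃ y d : ↥(Subgroup.centralizer ({x} : Set G)), (y : G) ∈ Q ∧ (d : G) ∈ 𝔇 ∧ g = y * d := by
  obtain ⟨y, hy, d, hd, he⟩ := stab_eq_mul hS (show (g : G) ∈ stabilizer G a from hg)
  have hxb := (mem_D.1 (mem_Vg.1 hx).1).2
  have hgc := Subgroup.mem_centralizer_singleton_iff.1 g.2
  have hyx : x * y = y * x := (fix_smul_iff hS (mem_Vg.1 hx).1 hy).1 (by
    have e : (g : G) • (t • a) = y • (t • a) := by rw [he, mul_smul, (mem_D.1 hd).2]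
    rw [← e, ← mul_smul, ← hgc, mul_smul, hxb])
  have hyc : y ∈ Subgroup.centralizer ({x} : Set G) :=
    Subgroup.mem_centralizer_singleton_iff.2 hyx.symm
  have hdc : d ∈ Subgroup.centralizer ({x} : Set G) := by
    rw [show d = y⁻¹ * g by rw [he, inv_mul_cancel_left]]
    exact mul_mem (inv_mem hyc) g.2
  exact ⟨⟨y, hyc⟩, ⟨d, hdc⟩, hy, hd, Subtype.ext he⟩

theorem cent_even : Even (Nat.card ↥(Q ⊓ Subgroup.centralizer ({x} : Set G))) := by
  obtain ⟨s, r, hs, -, -, hV⟩ := exists_s0 hS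
  have hsm : s ∈ Q ⊓ Subgroup.centralizer ({x} : Set G) := ⟨J_mem_Q hS hs,
    Subgroup.mem_centralizer_singleton_iff.2 ((hV x (mem_Vg.1 hx).1).1 hx).symm⟩
  have h := orderOf_dvd_natCard (⟨s, hsm⟩ : ↥(Q ⊓ Subgroup.centralizer ({x} : Set G)))
  rw [Subgroup.orderOf_mk, orderOf_eq_prime (p := 2) (by rw [sq, hs.2.2]) hs.2.1] at h
  exact even_iff_two_dvd.2 h

/-- The centraliser setup. -/
theorem cent_setup : Cfsg.IsRankOneSetup (CentFix Ω x) (FixPt Ω x) ⟨a, base_fixed hS hx⟩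
    (centProj Ω x ⟨t, t_mem_centralizer hS hx⟩)
    ((Q.subgroupOf (Subgroup.centralizer ({x} : Set G))).map (centProj Ω x)) := by
  have hXD : ({x} : Set G) ⊆ (𝔇 : Set G) := Set.singleton_subset_iff.2 (mem_Vg.1 hx).1
  have h3 := third_of_centralizes hS (X := {x}) (fun y hy => by
    rw [Set.mem_singleton_iff.1 hy]; exact (mem_Vg.1 hx).2)
  refine
    { two_transitive := MulAction.is_two_pretransitive_iff.2 fun {b₁ b₂ c₁ c₂} hb hc => ?_
      mul_self := by rw [← map_mul]; exact (congrArg _ (Subtype.ext hS.mul_self)).trans (map_one _)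
      ne_one := fun h => t_smul_ne hS ((centProj_eq_one x _).1 h a (base_fixed hS hx))
      not_mem := fun h => t_smul_ne hS (congrArg Subtype.val h)
      le := ?_
      conj_mem := ?_
      inf_eq_bot := ?_
      sup_eq := ?_
      even_card := by rw [cent_card_Q hS hx]; exact cent_even hS hx
      odd_card := ?_ }
  · have key : ∀ u v : FixPt Ω x, u ≠ v → ∃ g : ↥(Subgroup.centralizer ({x} : Set G)),
        (g : G) • a = (u : Ω) ∧ (g : G) • (t • a) = (v : Ω) := by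
      intro u v huv
      obtain ⟨g, hg, e1, e2⟩ := centralizer_two_transitive hS hXD h3
        (c₁ := (u : Ω)) (c₂ := (v : Ω)) (fun y hy => by rw [Set.mem_singleton_iff.1 hy]; exact u.2)
        (fun y hy => by rw [Set.mem_singleton_iff.1 hy]; exact v.2) (fun e => huv (Subtype.ext e))
      exact ⟨⟨g, hg⟩, e1, e2⟩
    obtain ⟨g, g1, g2⟩ := key b₁ b₂ hb
    obtain ⟨g', g1', g2'⟩ := key c₁ c₂ hc
    refine ⟨centProj Ω x (g' * g⁻¹), Subtype.ext ?_, Subtype.ext ?_⟩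
    · rw [centProj_smul, ← g1, Subgroup.coe_mul, mul_smul, Subgroup.coe_inv, inv_smul_smul, g1']
    · rw [centProj_smul, ← g2, Subgroup.coe_mul, mul_smul, Subgroup.coe_inv, inv_smul_smul, g2']
  · rintro _ ⟨y, hy, rfl⟩
    exact Subtype.ext (Q_fix hS (Subgroup.mem_subgroupOf.1 hy))
  · rintro h hh _ ⟨y, hy, rfl⟩
    obtain ⟨g, rfl⟩ := QuotientGroup.mk'_surjective _ h
    exact ⟨g * y * g⁻¹, Subgroup.mem_subgroupOf.2 (hS.conj_mem g (congrArg Subtype.val hh) y
      (Subgroup.mem_subgroupOf.1 hy)), by simp [map_mul]⟩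
  · rw [eq_bot_iff]
    rintro _ ⟨⟨y, hy, rfl⟩, h2⟩
    have h3 := congrArg Subtype.val h2
    rw [centProj_smul, centProj_smul] at h3
    have := eq_one_of_fix_ta hS (Subgroup.mem_subgroupOf.1 hy) h3
    rw [Subgroup.mem_bot, show y = 1 from Subtype.ext this, map_one]
  · refine le_antisymm (sup_le ?_ inf_le_left) fun h hh => ?_
    · rintro _ ⟨y, hy, rfl⟩
      exact Subtype.ext (Q_fix hS (Subgroup.mem_subgroupOf.1 hy))
    obtain ⟨g, rfl⟩ := QuotientGroup.mk'_surjective _ h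
    obtain ⟨y, d, hy, hd, rfl⟩ := cent_lift_stab hS hx (congrArg Subtype.val hh)
    rw [map_mul]
    exact Subgroup.mul_mem_sup ⟨y, Subgroup.mem_subgroupOf.2 hy, rfl⟩
      (Subgroup.mem_inf.2 ⟨Subtype.ext (mem_D.1 hd).1, Subtype.ext (mem_D.1 hd).2⟩)
  · have e : (stabilizer (CentFix Ω x) (⟨a, base_fixed hS hx⟩ : FixPt Ω x) ⊓
        stabilizer (CentFix Ω x) (centProj Ω x ⟨t, t_mem_centralizer hS hx⟩ •
          (⟨a, base_fixed hS hx⟩ : FixPt Ω x)) : Subgroup (CentFix Ω x)) =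
        ((𝔇).subgroupOf (Subgroup.centralizer ({x} : Set G))).map (centProj Ω x) := by
      refine le_antisymm (fun h hh => ?_) ?_
      · obtain ⟨g, rfl⟩ := QuotientGroup.mk'_surjective _ h
        exact ⟨g, Subgroup.mem_subgroupOf.2 (mem_D.2
          ⟨congrArg Subtype.val hh.1, congrArg Subtype.val hh.2⟩), rfl⟩
      · rintro _ ⟨d, hd, rfl⟩
        exact Subgroup.mem_inf.2 ⟨Subtype.ext (mem_D.1 (Subgroup.mem_subgroupOf.1 hd)).1,
          Subtype.ext (mem_D.1 (Subgroup.mem_subgroupOf.1 hd)).2⟩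
    rw [e]
    exact (hS.odd_card.of_dvd_nat (Subgroup.card_comap_dvd_of_injective _ _ Subtype.val_injective)).of_dvd_nat
      (Subgroup.card_map_dvd _ _)

theorem cent_card_lt (hx1 : x ≠ 1) : Nat.card (CentFix Ω x) < Nat.card G := by
  have h1 : (fixPerm Ω x).ker ≠ ⊥ := fun h => hx1 (by
    have hxc : x ∈ Subgroup.centralizer ({x} : Set G) := Subgroup.mem_centralizer_singleton_iff.2 rfl
    have hm : (⟨x, hxc⟩ : ↥(Subgroup.centralizer ({x} : Set G))) ∈ (fixPerm Ω x).ker :=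
      MonoidHom.mem_ker.2 (Equiv.ext fun c => Subtype.ext c.2)
    rw [h, Subgroup.mem_bot] at hm
    exact congrArg Subtype.val hm)
  have h3 := Subgroup.card_eq_card_quotient_mul_card_subgroup (fixPerm Ω x).ker
  have h4 : 2 ≤ Nat.card (fixPerm Ω x).ker := Subgroup.one_lt_card_iff_ne_bot _ |>.2 h1
  have h5 : Nat.card ↥(Subgroup.centralizer ({x} : Set G)) ≤ Nat.card G :=
    Nat.le_of_dvd Nat.card_pos (Subgroup.card_subgroup_dvd_card _)
  have h6 : 0 < Nat.card (CentFix Ω x) := Nat.card_pos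
  have h7 : Nat.card (CentFix Ω x) * 2 ≤ Nat.card ↥(Subgroup.centralizer ({x} : Set G)) := by
    rw [h3]; exact Nat.mul_le_mul_left _ h4
  omega

/-- An involution of the image fixing `a` lifts to an involution of `G_a`. -/
theorem cent_involution {h : CentFix Ω x}
    (hh : h ∈ Cfsg.involutionsIn (stabilizer (CentFix Ω x) (⟨a, base_fixed hS hx⟩ : FixPt Ω x) :
      Set (CentFix Ω x))) :
    ∃ s : ↥(Subgroup.centralizer ({x} : Set G)), (s : G) ∈ 𝔍 ∧ centProj Ω x s = h := by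
  have hQ := involution_mem_Q (cent_setup hS hx) hh.1 hh.2.2
  obtain ⟨y, hy, rfl⟩ := hQ
  refine ⟨y, ⟨hS.le (Subgroup.mem_subgroupOf.1 hy), fun e => hh.2.1 ?_, ?_⟩, rfl⟩
  · rw [show y = 1 from Subtype.ext e, map_one]
  · have := cent_ker_Q hS hx (y := y * y)
      (mul_mem (Subgroup.mem_subgroupOf.1 hy) (Subgroup.mem_subgroupOf.1 hy))
      (by rw [map_mul]; exact hh.2.2)
    exact this

theorem cent_qq : qq (CentFix Ω x) (⟨a, base_fixed hS hx⟩ : FixPt Ω x) =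
    Nat.card {s : G // s ∈ 𝔍 ∧ x * s = s * x} + 1 := by
  rw [qq]
  refine congrArg (· + 1) (Nat.card_eq_of_bijective
    (fun s : {s : G // s ∈ 𝔍 ∧ x * s = s * x} =>
      (⟨centProj Ω x ⟨s, Subgroup.mem_centralizer_singleton_iff.2 s.2.2.symm⟩,
        Subtype.ext (s.2.1.1 : (s : G) • a = a), fun e => s.2.1.2.1
          (cent_ker_Q hS hx (J_mem_Q hS s.2.1) e), by
        rw [← map_mul]; exact (congrArg _ (Subtype.ext s.2.1.2.2)).trans (map_one _)⟩ :
        Cfsg.involutionsIn (stabilizer (CentFix Ω x) (⟨a, base_fixed hS hx⟩ : FixPt Ω x) :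
          Set (CentFix Ω x)))) ⟨fun s s' e => ?_, fun h => ?_⟩).symm
  · have e' := congrArg Subtype.val e
    dsimp only at e'
    rw [← inv_mul_eq_one, ← map_inv, ← map_mul] at e'
    exact Subtype.ext (inv_mul_eq_one.1 (cent_ker_Q hS hx
      (mul_mem (inv_mem (J_mem_Q hS s.2.1)) (J_mem_Q hS s'.2.1)) e'))
  · obtain ⟨s, hs, he⟩ := cent_involution hS hx h.2
    exact ⟨⟨s, hs, (Subgroup.mem_centralizer_singleton_iff.1 s.2).symm⟩, Subtype.ext he⟩

theorem cent_two_rank (hJ : 2 ≤ Nat.card {s : G // s ∈ 𝔍 ∧ x * s = s * x})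
    (h2 : ∃ x y : G, x ≠ 1 ∧ y ≠ 1 ∧ x ≠ y ∧ x * x = 1 ∧ y * y = 1 ∧ x * y = y * x) :
    ∃ p q : CentFix Ω x, p ≠ 1 ∧ q ≠ 1 ∧ p ≠ q ∧ p * p = 1 ∧ q * q = 1 ∧ p * q = q * p := by
  have h0 : (0 : ℕ) < Nat.card {s : G // s ∈ 𝔍 ∧ x * s = s * x} := by omega
  obtain ⟨⟨s, hs, hsx⟩⟩ := (Nat.card_pos_iff.1 h0).1
  obtain ⟨⟨s', hs', hsx'⟩, hne⟩ : ∃ u : {s : G // s ∈ 𝔍 ∧ x * s = s * x}, u ≠ ⟨s, hs, hsx⟩ := by
    by_contra hcon
    push Not at hcon
    have : Nat.card {s : G // s ∈ 𝔍 ∧ x * s = s * x} ≤ 1 :=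
      Finite.card_le_one_iff_subsingleton.2 ⟨fun u v => (hcon u).trans (hcon v).symm⟩
    omega
  have hm : ∀ s : G, x * s = s * x → s ∈ Subgroup.centralizer ({x} : Set G) := fun s h =>
    Subgroup.mem_centralizer_singleton_iff.2 h.symm
  have hcomm : s * s' = s' * s := J_central hS h2 hs (J_mem_Q hS hs')
  refine ⟨centProj Ω x ⟨s, hm s hsx⟩, centProj Ω x ⟨s', hm s' hsx'⟩,
    fun e => hs.2.1 (cent_ker_Q hS hx (J_mem_Q hS hs) e),
    fun e => hs'.2.1 (cent_ker_Q hS hx (J_mem_Q hS hs') e), fun e => hne ?_, ?_, ?_, ?_⟩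
  · rw [← inv_mul_eq_one, ← map_inv, ← map_mul] at e
    exact Subtype.ext (inv_mul_eq_one.1 (cent_ker_Q hS hx
      (mul_mem (inv_mem (J_mem_Q hS hs)) (J_mem_Q hS hs')) e)).symm
  · rw [← map_mul]; exact (congrArg _ (Subtype.ext hs.2.2)).trans (map_one _)
  · rw [← map_mul]; exact (congrArg _ (Subtype.ext hs'.2.2)).trans (map_one _)
  · rw [← map_mul, ← map_mul]
    exact congrArg _ (Subtype.ext hcomm)

/-- The shape of the centraliser setup, read in `G`. -/
theorem cent_shape (h : Shape (⟨a, base_fixed hS hx⟩ : FixPt Ω x)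
    (centProj Ω x ⟨t, t_mem_centralizer hS hx⟩)
    ((Q.subgroupOf (Subgroup.centralizer ({x} : Set G))).map (centProj Ω x))) :
    let qx := Nat.card {s : G // s ∈ 𝔍 ∧ x * s = s * x} + 1
    let N := Nat.card ↥(Q ⊓ Subgroup.centralizer ({x} : Set G))
    N = qx ∨ (¬ (∀ u ∈ Q, ∀ v ∈ Q, u * x = x * u → v * x = x * v → u * v = v * u) ∧
      (N = qx ^ 2 ∨ (N = qx ^ 3 ∧ ∃ g ∈ Vg a t, g * x = x * g ∧ (∃ c : Ω, x • c = c ∧ g • c ≠ c) ∧
        ∀ s ∈ 𝔍, x * s = s * x → g * s = s * g))) := by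
  intro qx N
  rw [Shape, cent_card_Q hS hx, cent_qq hS hx] at h
  refine h.imp id fun ⟨hnc, hc⟩ => ⟨fun hcom => hnc ?_, hc.imp id fun ⟨hN, w, hw, hw1⟩ => ⟨hN, ?_⟩⟩
  · rintro _ ⟨u, hu, rfl⟩ _ ⟨v, hv, rfl⟩
    rw [← map_mul, ← map_mul]
    exact congrArg _ (Subtype.ext (hcom u (Subgroup.mem_subgroupOf.1 hu) v
      (Subgroup.mem_subgroupOf.1 hv) (Subgroup.mem_centralizer_singleton_iff.1 u.2)
      (Subgroup.mem_centralizer_singleton_iff.1 v.2)))
  · obtain ⟨g, rfl⟩ := QuotientGroup.mk'_surjective _ w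
    obtain ⟨hwD, hwc⟩ := mem_Wg.1 hw
    obtain ⟨s₀, r, hs₀, -, -, hV⟩ := exists_s0 hS
    have hgD : (g : G) ∈ 𝔇 := mem_D.2 ⟨congrArg Subtype.val hwD.1, congrArg Subtype.val hwD.2⟩
    have hgs : ∀ s ∈ 𝔍, x * s = s * x → (g : G) * s = s * g := by
      intro s hs hsx
      set s' : ↥(Subgroup.centralizer ({x} : Set G)) :=
        ⟨s, Subgroup.mem_centralizer_singleton_iff.2 hsx.symm⟩ with hs'
      have hmem : centProj Ω x s' ∈ Cfsg.involutionsIn
          (stabilizer (CentFix Ω x) (⟨a, base_fixed hS hx⟩ : FixPt Ω x) : Set (CentFix Ω x)) :=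
        ⟨Subtype.ext (hs.1 : s • a = a), fun e => hs.2.1 (cent_ker_Q hS hx (J_mem_Q hS hs) e), by
          rw [← map_mul]; exact (congrArg _ (Subtype.ext hs.2.2)).trans (map_one _)⟩
      have e := hwc _ hmem
      have e' : centProj Ω x ((g * s' * g⁻¹)⁻¹ * s') = 1 := by
        rw [map_mul, map_inv, map_mul, map_mul, map_inv, e, mul_inv_cancel_right, inv_mul_cancel]
      have := cent_ker_Q hS hx (y := (g * s' * g⁻¹)⁻¹ * s')
        (mul_mem (inv_mem (hS.conj_mem g (mem_D.1 hgD).1 s (J_mem_Q hS hs))) (J_mem_Q hS hs)) e'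
      rw [Subgroup.coe_mul, Subgroup.coe_inv, inv_mul_eq_one] at this
      exact mul_inv_eq_iff_eq_mul.1 this
    have hgs₀ := hgs s₀ hs₀ ((hV x (mem_Vg.1 hx).1).1 hx)
    refine ⟨g, (hV _ hgD).2 hgs₀, Subgroup.mem_centralizer_singleton_iff.1 g.2, ?_, hgs⟩
    by_contra hcon
    push Not at hcon
    exact hw1 ((centProj_eq_one x g).2 hcon)

end CfsgLib.Lie.RankOneClass
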