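import Cfsg.Agent.Lib.Lie.RankOneClass.CentPow
import Cfsg.Agent.Lib.Lie.RankOneClass.CentSetup

/-!
Owner: helper5. When `W` is trivial and `V` is not, the order of `Q` is not the cube of `q`.
-/

set_option autoImplicit false
set_option linter.unusedSectionVars false

namespace CfsgLib.Lie.RankOneClass

open MulAction CfsgLib.Lie.RankOne CfsgLib.OddTransitive.RankOne

/-- A transitive group whose elements fixing two points are central has few other elements
without fixed points. -/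
theorem card_no_fix {C X : Type*} [Group C] [Finite C] [MulAction C X] [Finite X] (Z : Subgroup C)
    (hZc : ∀ z ∈ Z, ∀ g : C, z * g = g * z) (htr : ∀ x y : X, ∃ g : C, g • x = y) (x₀ : X)
    (hZfix : ∀ z ∈ Z, z • x₀ = x₀)
    (hpair : ∀ g : C, ∀ x y : X, x ≠ y → g • x = x → g • y = y → g ∈ Z) :
    Nat.card {g : C // g ∈ Z ∨ ∀ x : X, g • x ≠ x} +
      Nat.card X * (Nat.card (stabilizer C x₀) - Nat.card Z) = Nat.card C := by
  classical
  haveI := Fintype.ofFinite C
  haveI := Fintype.ofFinite X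
  have hZall : ∀ z ∈ Z, ∀ x : X, z • x = x := fun z hz x => by
    obtain ⟨g, rfl⟩ := htr x₀ x
    rw [← mul_smul, hZc z hz g, mul_smul, hZfix z hz]
  set A := Finset.univ.filter fun g : C => g ∈ Z ∨ ∀ x : X, g • x ≠ x with hA
  set B : X → Finset C := fun x => Finset.univ.filter fun g : C => g • x = x ∧ g ∉ Z with hB
  have hBdis : ((Finset.univ : Finset X) : Set X).PairwiseDisjoint B := fun x _ y _ hxy =>
    Finset.disjoint_left.2 fun g hg hg' => (Finset.mem_filter.1 hg).2.2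
      (hpair g x y hxy (Finset.mem_filter.1 hg).2.1 (Finset.mem_filter.1 hg').2.1)
  have hAc : Aᶜ = Finset.univ.biUnion B := by
    ext g
    simp only [hA, hB, Finset.mem_compl, Finset.mem_filter, Finset.mem_univ, true_and, not_or,
      not_forall, not_not, Finset.mem_biUnion]
    exact ⟨fun ⟨h1, x, hx⟩ => ⟨x, hx, h1⟩, fun ⟨x, hx, h1⟩ => ⟨h1, x, hx⟩⟩
  have hBc : ∀ x, (B x).card = Nat.card (stabilizer C x₀) - Nat.card Z := by
    intro x
    obtain ⟨g, rfl⟩ := htr x₀ x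
    have hst : Nat.card (stabilizer C (g • x₀)) = Nat.card (stabilizer C x₀) :=
      Nat.card_congr (MulAction.stabilizerEquivStabilizer (a := g • x₀) (b := x₀) (g := g⁻¹)
        (inv_smul_smul g x₀).symm).toEquiv
    have hfilt : B (g • x₀) = (Finset.univ.filter fun h : C => h • (g • x₀) = g • x₀) \
        (Finset.univ.filter fun h : C => h ∈ Z) := by
      ext h
      simp only [hB, Finset.mem_filter, Finset.mem_univ, true_and, Finset.mem_sdiff]
    have hsub : (Finset.univ.filter fun h : C => h ∈ Z) ⊆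
        Finset.univ.filter fun h : C => h • (g • x₀) = g • x₀ := fun h hh => by
      simp only [Finset.mem_filter, Finset.mem_univ, true_and] at hh ⊢
      exact hZall h hh _
    rw [hfilt, Finset.card_sdiff_of_subset hsub, ← Fintype.card_subtype, ← Fintype.card_subtype,
      ← Nat.card_eq_fintype_card, ← Nat.card_eq_fintype_card]
    exact congrArg (· - Nat.card Z) hst
  have h1 := Finset.card_add_card_compl A
  rw [hAc, Finset.card_biUnion hBdis, Finset.sum_congr rfl fun x _ => hBc x, Finset.sum_const,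
    Finset.card_univ, smul_eq_mul] at h1
  rw [Nat.card_eq_fintype_card (α := C), Nat.card_eq_fintype_card (α := X),
    Nat.card_eq_fintype_card, Fintype.card_subtype]
  exact h1

variable {G Ω : Type*} [Group G] [MulAction G Ω] [Finite G] [FaithfulSMul G Ω] {a : Ω} {t : G}
  {Q : Subgroup G} {F : Type} [Field F] [Fintype F] (C : Coord a t F)

local notation "𝔇" => ((stabilizer G a ⊓ stabilizer G (t • a)) : Subgroup G)
local notation "𝔎" => Cfsg.invertedBy (stabilizer G a ⊓ stabilizer G (t • a)) t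
local notation "𝔍" => Cfsg.involutionsIn (stabilizer G a : Set G)

variable (hS : Cfsg.IsRankOneSetup G Ω a t Q)
  (h2 : ∃ x y : G, x ≠ 1 ∧ y ≠ 1 ∧ x ≠ y ∧ x * x = 1 ∧ y * y = 1 ∧ x * y = y * x)
  (hN : NoExt t Q) (hCS : CentShape a t Q)
include hS h2 hN hCS C

/-- The case `N = q ^ 3` needs a nontrivial `W`. -/
theorem exists_Wg_of_cube (hN3 : Nat.card Q = qq G a ^ 3) (hV : Vg a t ≠ ⊥) :
    ∃ w ∈ Wg a t, w ≠ 1 := by
  classical
  by_contra hcon
  push Not at hcon
  obtain ⟨v, hv, p, hp, hvo⟩ : ∃ v ∈ Vg a t, ∃ p : ℕ, p.Prime ∧ orderOf v = p := by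
    obtain ⟨v, hv, hv1⟩ := (Vg a t).bot_or_exists_ne_one.resolve_left hV
    obtain ⟨r, hr, m, hm⟩ := Nat.exists_prime_and_dvd (orderOf_eq_one_iff.not.2 hv1)
    have hm0 : m ≠ 0 := fun h => (orderOf_pos v).ne' (by rw [hm, h, mul_zero])
    refine ⟨v ^ m, pow_mem hv m, r, hr, ?_⟩
    rw [orderOf_pow_of_dvd hm0 ⟨r, by rw [hm, mul_comm]⟩, hm, Nat.mul_div_cancel _ (Nat.pos_of_ne_zero hm0)]
  haveI := Fact.mk hp
  have hv1 : v ≠ 1 := fun h => by rw [h, orderOf_one] at hvo; exact hp.ne_one hvo.symm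
  have hvW : v ∉ Wg a t := fun h => hv1 (hcon v h)
  obtain ⟨hao, hq⟩ := C.card_eq_qx_pow hS hv hp hvo fun h => hvW ((C.aut_Vg_eq_one hS hv).1 h)
  have hcent : Nat.card ↥(Q ⊓ Subgroup.centralizer ({v} : Set G)) = qx a v ^ 3 := by
    refine Nat.pow_left_injective hp.ne_zero ?_
    show _ ^ p = (qx a v ^ 3) ^ p
    rw [← card_Q_eq_cent_pow C hS h2 hN hCS hv hp hvo hvW, hN3, hq, ← pow_mul, ← pow_mul, mul_comm]
  obtain ⟨m, hm1, hm⟩ := C.qx_pow_two hS h2 hv
  by_cases h4 : 4 ≤ qx a v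
  · rcases hCS v hv hv1 h4 with h | ⟨-, h | ⟨-, g, hg, -, ⟨c, hc, hgc⟩, hgJ⟩⟩
    · have := Nat.pow_right_injective (by omega : 2 ≤ qx a v)
        (hcent.symm.trans (h.trans (pow_one (qx a v)).symm))
      omega
    · have := Nat.pow_right_injective (by omega : 2 ≤ qx a v) (hcent.symm.trans h)
      omega
    · obtain ⟨i, hi⟩ := Subgroup.mem_zpowers_iff.1 (C.autV_mem_zpowers hS h2 hv hg hgJ)
      have hmem : (v ^ i)⁻¹ * g ∈ Vg a t := mul_mem (inv_mem (zpow_mem hv i)) hg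
      have h1 : C.autV hmem = 1 := by
        have e : (⟨(v ^ i)⁻¹ * g, (Subgroup.mem_inf.1 (mem_Vg.1 hmem).1).1⟩ : ↥(stabilizer G a)) =
            (⟨v, (Subgroup.mem_inf.1 (mem_Vg.1 hv).1).1⟩ ^ i)⁻¹ *
              ⟨g, (Subgroup.mem_inf.1 (mem_Vg.1 hg).1).1⟩ := Subtype.ext (by simp)
        rw [Coord.autV, e, map_mul, map_inv, map_zpow]
        exact inv_mul_eq_one.2 hi
      have h3 := hcon _ ((C.aut_Vg_eq_one hS hmem).1 h1)
      rw [inv_mul_eq_one] at h3
      refine hgc ?_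
      rw [← h3]
      have hsm : v • c = c := hc
      exact (Subgroup.zpow_mem (stabilizer G c) hsm i :)
  -- the case `q_v = 2`
  have hq2 : qx a v = 2 := by
    rcases Nat.lt_or_ge m 2 with h | h
    · rw [hm, show m = 1 by omega, pow_one]
    · exact absurd (hm ▸ le_trans (by norm_num) (Nat.pow_le_pow_right (by norm_num) h)) h4
  rw [hq2] at hcent hq
  obtain ⟨-, -, hA⟩ := C.of_qx_two hS h2 hv hp hvo hq2
  have hp3 : p = 3 := by
    have h1 := C.aut_pow_degree hS h2 hN hv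
    have h3 : p ∣ Nat.card Q + 1 := hao ▸ orderOf_dvd_of_pow_eq_one h1
    rw [hN3, hq, ← pow_mul, mul_comm, pow_mul] at h3
    have h8 : ((2 : ℕ) ^ 3) ^ p ≡ 2 ^ 3 [MOD p] := by
      rw [← ZMod.natCast_eq_natCast_iff, Nat.cast_pow, ZMod.pow_card]
    have h9 : p ∣ 3 ^ 2 := by
      have := (Nat.ModEq.dvd_iff (h8.add_right 1) dvd_rfl).1 h3
      norm_num at this ⊢
      exact this
    exact (Nat.prime_dvd_prime_iff_eq hp Nat.prime_three).1 (hp.dvd_of_dvd_pow h9)
  subst hp3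
  rw [show (2 : ℕ) ^ 3 = 8 by norm_num] at hq hcent
  rw [hq] at hN3
  norm_num at hN3
  -- the group `V` has order three
  have hWbot : ∀ u, ∀ hu : u ∈ Vg a t, C.autV hu = 1 → u = 1 := fun u hu h =>
    hcon u ((C.aut_Vg_eq_one hS hu).1 h)
  have hVeq : Vg a t = Subgroup.zpowers v := by
    let ψ : ↥(Vg a t) →* ↥C.aut.range :=
      (C.aut.comp (Subgroup.inclusion (fun u hu => (Subgroup.mem_inf.1 (mem_Vg.1 hu).1).1 :
        Vg a t ≤ stabilizer G a))).codRestrict _ fun e => ⟨_, rfl⟩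
    have hψ : Function.Injective ψ := (injective_iff_map_eq_one ψ).2 fun e he =>
      Subtype.ext (hWbot e e.2 (congrArg Subtype.val he))
    haveI : Finite ↥C.aut.range := Finite.of_surjective _ C.aut.rangeRestrict_surjective
    refine (Subgroup.eq_of_le_of_card_ge (Subgroup.zpowers_le.2 hv) ?_).symm
    rw [Nat.card_zpowers, hvo, ← hA]
    exact Nat.card_le_card_of_injective ψ hψ
  have hD : Nat.card 𝔇 = 21 := by
    rw [card_D hS, hVeq, Nat.card_zpowers, hvo]
    have : qq G a = Nat.card 𝔍 + 1 := rfl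
    rw [show Nat.card 𝔍 = 7 by omega]
  have hG : Nat.card G = 512 * 21 * 513 := by rw [card_group hS, hN3, hD]
  set Cv := Subgroup.centralizer ({v} : Set G) with hCv
  have hvC : v ∈ Cv := Subgroup.mem_centralizer_singleton_iff.2 rfl
  set vC : ↥Cv := ⟨v, hvC⟩ with hvCdef
  have hcomm : ∀ g : ↥Cv, vC * g = g * vC := fun g =>
    Subtype.ext (Subgroup.mem_centralizer_singleton_iff.1 g.2).symm
  -- the centraliser in `D`
  have hDcent : ∀ d ∈ 𝔇, d * v = v * d → d ∈ Subgroup.zpowers v := by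
    intro d hd hdv
    obtain ⟨u, hu, k, hk, rfl⟩ := exists_split hS hd
    obtain ⟨l, rfl⟩ := C.k_surj k hk
    have h1 : (v * u * v⁻¹) * (v * C.k l * v⁻¹) = u * C.k l := by
      calc (v * u * v⁻¹) * (v * C.k l * v⁻¹) = v * (u * C.k l) * v⁻¹ := by group
        _ = u * C.k l := by rw [← hdv, mul_inv_cancel_right]
    rw [C.k_conj_Vg hS hv] at h1
    have h3 := C.k_inj (split_unique hS (mul_mem (mul_mem hv hu) (inv_mem hv)) hu (C.k_mem _) hk h1).2
    have h5 := C.orderOf_dvd_of_fix hS hv (congrArg Units.val h3)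
    rw [hq2, Nat.dvd_one, orderOf_eq_one_iff] at h5
    rw [h5, C.k_one, mul_one, ← hVeq]
    exact hu
  haveI : Finite Ω := (card_points hS).1
  -- the fixed points
  have hset := cent_setup hS hv
  obtain ⟨-, hXcard⟩ := card_points hset
  rw [cent_card_Q hS hv, hcent] at hXcard
  set x₀ : FixPt Ω v := ⟨a, base_fixed hS hv⟩ with hx₀
  letI : MulAction ↥Cv (FixPt Ω v) := MulAction.compHom (FixPt Ω v) (centProj Ω v)
  have hsmul : ∀ (g : ↥Cv) (c : FixPt Ω v), ((g • c : FixPt Ω v) : Ω) = (g : G) • (c : Ω) := fun g c => rfl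
  have htr : ∀ x y : FixPt Ω v, ∃ g : ↥Cv, g • x = y := fun x y => by
    obtain ⟨h, hh⟩ := transitive' hset x y
    obtain ⟨g, rfl⟩ := QuotientGroup.mk'_surjective _ h
    exact ⟨g, hh⟩
  set Z := Subgroup.zpowers vC with hZ
  have hZc : ∀ z ∈ Z, ∀ g : ↥Cv, z * g = g * z := fun z hz g => by
    obtain ⟨i, rfl⟩ := Subgroup.mem_zpowers_iff.1 hz
    exact (Commute.zpow_left (hcomm g : Commute vC g) i).eq
  have hZfix : ∀ z ∈ Z, z • x₀ = x₀ := fun z hz => by
    obtain ⟨i, rfl⟩ := Subgroup.mem_zpowers_iff.1 hz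
    have : vC • x₀ = x₀ := Subtype.ext (base_fixed hS hv)
    exact (Subgroup.zpow_mem (stabilizer ↥Cv x₀) this i :)
  have hmemZ : ∀ g : ↥Cv, (g : G) ∈ Subgroup.zpowers v → g ∈ Z := fun g hg => by
    obtain ⟨i, hi⟩ := Subgroup.mem_zpowers_iff.1 hg
    exact Subgroup.mem_zpowers_iff.2 ⟨i, Subtype.ext (by rw [SubgroupClass.coe_zpow]; exact hi)⟩
  have hpair : ∀ g : ↥Cv, ∀ x y : FixPt Ω v, x ≠ y → g • x = x → g • y = y → g ∈ Z := by
    intro g x y hxy hgx hgy
    have hta : (⟨t • a, (mem_D.1 (mem_Vg.1 hv).1).2⟩ : FixPt Ω v) ≠ x₀ := fun e =>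
      t_smul_ne hS (congrArg Subtype.val e)
    obtain ⟨h, hhx, hhy⟩ := pairs hset hxy hta.symm
    obtain ⟨u, rfl⟩ := QuotientGroup.mk'_surjective _ h
    have e1 : (u * g * u⁻¹) • x₀ = x₀ := by
      rw [show x₀ = u • x from hhx.symm, mul_smul, mul_smul, inv_smul_smul, hgx]
    have e2 : (u * g * u⁻¹) • (⟨t • a, (mem_D.1 (mem_Vg.1 hv).1).2⟩ : FixPt Ω v) =
        ⟨t • a, (mem_D.1 (mem_Vg.1 hv).1).2⟩ := by
      rw [show (⟨t • a, (mem_D.1 (mem_Vg.1 hv).1).2⟩ : FixPt Ω v) = u • y from hhy.symm, mul_smul,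
        mul_smul, inv_smul_smul, hgy]
    have h1 := hmemZ (u * g * u⁻¹) (hDcent _ (mem_D.2 ⟨congrArg Subtype.val e1, congrArg Subtype.val e2⟩)
      (Subgroup.mem_centralizer_singleton_iff.1 (u * g * u⁻¹).2))
    have h3 : g = u * g * u⁻¹ := by
      have := hZc _ h1 u
      calc g = u⁻¹ * ((u * g * u⁻¹) * u) := by group
        _ = u⁻¹ * (u * (u * g * u⁻¹)) := by rw [this]
        _ = u * g * u⁻¹ := by group
    exact h3 ▸ h1
  -- the stabiliser of `a`
  have hcardZ : Nat.card Z = 3 := by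
    rw [hZ, Nat.card_zpowers, ← Subgroup.orderOf_coe]
    exact hvo
  have hstabdec : ∀ g : ↥Cv, g • x₀ = x₀ → ∃ y : ↥Cv, ∃ z ∈ Z, (y : G) ∈ Q ∧ g = y * z := by
    intro g hg
    obtain ⟨y, d, hy, hd, rfl⟩ := cent_lift_stab hS hv (congrArg Subtype.val hg)
    exact ⟨y, d, hmemZ d (hDcent _ hd (Subgroup.mem_centralizer_singleton_iff.1 d.2)), hy, rfl⟩
  have hstab : Nat.card (stabilizer ↥Cv x₀) = 24 := by
    have e : Nat.card (↥(Q ⊓ Cv) × ↥Z) = 24 := by rw [Nat.card_prod, hcent, hcardZ]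
    rw [← e]
    refine (Nat.card_eq_of_bijective (fun p : ↥(Q ⊓ Cv) × ↥Z =>
      (⟨⟨(p.1 : G), p.1.2.2⟩ * p.2.1, ?_⟩ : stabilizer ↥Cv x₀)) ⟨fun p p' h => ?_, fun g => ?_⟩).symm
    · refine mul_mem ?_ (hZfix _ p.2.2)
      exact Subtype.ext (Q_fix hS p.1.2.1)
    · have h' : (p.1 : G) * ((p.2.1 : ↥Cv) : G) = p'.1 * ((p'.2.1 : ↥Cv) : G) :=
        congrArg (fun z => (((z : stabilizer ↥Cv x₀) : ↥Cv) : G)) h
      have hz : ∀ z : ↥Z, ((z.1 : ↥Cv) : G) ∈ 𝔇 := fun z => by
        obtain ⟨i, hi⟩ := Subgroup.mem_zpowers_iff.1 z.2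
        rw [← hi, SubgroupClass.coe_zpow]
        exact zpow_mem (mem_Vg.1 hv).1 i
      have h3 : (p'.1 : G)⁻¹ * p.1 = ((p'.2.1 : ↥Cv) : G) * ((p.2.1 : ↥Cv) : G)⁻¹ := by
        rw [eq_mul_inv_iff_mul_eq, mul_assoc, h', inv_mul_cancel_left]
      have h5 := eq_one_of_fix_ta hS (mul_mem (inv_mem p'.1.2.1) p.1.2.1) (by
        rw [h3]; exact (mem_D.1 (mul_mem (hz p'.2) (inv_mem (hz p.2)))).2)
      have h6 : (p.1 : G) = p'.1 := (inv_mul_eq_one.1 h5).symm
      rw [h6] at h'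
      exact Prod.ext (Subtype.ext h6) (Subtype.ext (Subtype.ext (mul_left_cancel h')))
    · obtain ⟨y, z, hz, hy, he⟩ := hstabdec g g.2
      exact ⟨(⟨(y : G), hy, y.2⟩, ⟨z, hz⟩), Subtype.ext he.symm⟩
  have hCcard : Nat.card ↥Cv = 216 := by
    haveI : IsPretransitive ↥Cv (FixPt Ω v) := ⟨htr⟩
    rw [← Subgroup.card_mul_index (stabilizer ↥Cv x₀), MulAction.index_stabilizer_of_transitive,
      hXcard, hstab]
  have hA27 : Nat.card {g : ↥Cv // g ∈ Z ∨ ∀ x : FixPt Ω v, g • x ≠ x} = 27 := by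
    have h := card_no_fix Z hZc htr x₀ hZfix hpair
    rw [hXcard, hstab, hcardZ, hCcard] at h
    omega
  -- the Sylow three-subgroup of the centraliser
  haveI : Fact (Nat.Prime 3) := ⟨Nat.prime_three⟩
  obtain ⟨R, hR⟩ := Sylow.exists_subgroup_card_pow_prime 3 (n := 3) (G := ↥Cv) (by rw [hCcard]; norm_num)
  norm_num at hR
  have hRA : ∀ S' : Subgroup ↥Cv, Nat.card S' = 27 →
      (S' : Set ↥Cv) = {g | g ∈ Z ∨ ∀ x : FixPt Ω v, g • x ≠ x} := by
    intro S' hS'
    refine Set.eq_of_subset_of_ncard_le (fun g hg => ?_) (le_of_eq ?_) (Set.toFinite _)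
    · by_contra hcon'
      simp only [Set.mem_setOf_eq, not_or, not_forall, not_not] at hcon'
      obtain ⟨hgZ, x, hx⟩ := hcon'
      obtain ⟨u, hu⟩ := htr x x₀
      have hgs : (u * g * u⁻¹) • x₀ = x₀ := by
        rw [← hu, mul_smul, mul_smul, inv_smul_smul, hx]
      obtain ⟨y, z, hz, hy, he⟩ := hstabdec _ hgs
      have hyo : orderOf y ∣ 8 := by
        have h1 : (y : G) ∈ Q ⊓ Cv := ⟨hy, y.2⟩
        rw [← Subgroup.orderOf_coe, ← hcent]
        exact Subgroup.orderOf_dvd_natCard _ h1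
      have hg27 : (u * g * u⁻¹) ^ 27 = 1 := by
        rw [conj_pow, orderOf_dvd_iff_pow_eq_one.1 (hS' ▸ Subgroup.orderOf_dvd_natCard S' hg), mul_one,
          mul_inv_cancel]
      have hz27 : z ^ 27 = 1 := by
        have : z ^ 3 = 1 := orderOf_dvd_iff_pow_eq_one.1 (hcardZ ▸ Subgroup.orderOf_dvd_natCard Z hz)
        rw [show 27 = 3 * 9 by norm_num, pow_mul, this, one_pow]
      have hcz : Commute y z := (hZc z hz y).symm
      rw [he, hcz.mul_pow, hz27, mul_one] at hg27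
      have hy1 : y = 1 := by
        rw [← orderOf_eq_one_iff]
        exact Nat.eq_one_of_dvd_coprimes (by norm_num : Nat.Coprime 8 27) hyo
          (orderOf_dvd_of_pow_eq_one hg27)
      rw [hy1, one_mul] at he
      refine hgZ ?_
      have : g = z := by
        calc g = u⁻¹ * (u * g * u⁻¹) * u := by group
          _ = u⁻¹ * z * u := by rw [he]
          _ = z := by rw [mul_assoc, hZc z hz u, inv_mul_cancel_left]
      rw [this]; exact hz
    · rw [← Nat.card_coe_set_eq, ← Nat.card_coe_set_eq]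
      exact hA27.trans hS'.symm
  have hRset := hRA R hR
  set R₁ := R.map Cv.subtype with hR₁
  have hR₁card : Nat.card R₁ = 27 := by rw [hR₁, Subgroup.card_subtype, hR]
  set N := Subgroup.normalizer (R₁ : Set G) with hNdef
  have hR₁mem : ∀ x ∈ R₁, ∃ g : ↥Cv, g ∈ R ∧ (g : G) = x := fun x hx => by
    obtain ⟨g, hg, rfl⟩ := hx
    exact ⟨g, hg, rfl⟩
  have hvR : v ∈ R₁ := by
    refine ⟨vC, ?_, rfl⟩
    have : vC ∈ (R : Set ↥Cv) := by rw [hRset]; exact Or.inl (Subgroup.mem_zpowers _)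
    exact this
  have hCN : Cv ≤ N := by
    intro g hg
    have hconjR : R.map (MulAut.conj (⟨g, hg⟩ : ↥Cv)).toMonoidHom = R := by
      refine SetLike.coe_injective ((hRA _ ?_).trans hRset.symm)
      rw [Subgroup.card_map_of_injective (MulEquiv.injective _), hR]
    rw [hNdef, Subgroup.mem_normalizer_iff]
    intro x
    constructor
    · intro hx
      obtain ⟨h, hh, rfl⟩ := hR₁mem x hx
      have : (⟨g, hg⟩ * h * (⟨g, hg⟩ : ↥Cv)⁻¹ : ↥Cv) ∈ R := hconjR ▸ ⟨h, hh, rfl⟩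
      exact ⟨_, this, rfl⟩
    · intro hx
      obtain ⟨h, hh, he⟩ := hR₁mem _ hx
      rw [← hconjR] at hh
      obtain ⟨w, hw, hwe⟩ := hh
      refine ⟨w, hw, ?_⟩
      have : g * (w : G) * g⁻¹ = g * x * g⁻¹ := by
        rw [← he, ← hwe]; rfl
      exact mul_left_cancel (mul_right_cancel this)
  -- the conjugates of `v` under the normaliser
  letI : MulAction ↥N G := MulAction.compHom G (MulAut.conj.comp N.subtype)
  have hconj : ∀ (n : ↥N) (x : G), n • x = (n : G) * x * (n : G)⁻¹ := fun n x => rfl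
  set X := MulAction.orbit ↥N v with hX
  have hNX : Nat.card ↥N = Nat.card X * 216 := by
    rw [← Subgroup.card_mul_index (stabilizer ↥N v), MulAction.index_stabilizer, mul_comm,
      Nat.card_coe_set_eq]
    congr 1
    rw [← hCcard]
    refine Nat.card_eq_of_bijective (fun n => (⟨((n : ↥N) : G), ?_⟩ : ↥Cv))
      ⟨fun n n' h => Subtype.ext (Subtype.ext (congrArg Subtype.val h :)), fun g => ?_⟩
    · have h : (n : ↥N) • v = v := n.2
      rw [hconj] at h
      exact Subgroup.mem_centralizer_singleton_iff.2 (mul_inv_eq_iff_eq_mul.1 h)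
    · refine ⟨⟨⟨(g : G), hCN g.2⟩, ?_⟩, rfl⟩
      show (g : G) * v * (g : G)⁻¹ = v
      rw [Subgroup.mem_centralizer_singleton_iff.1 g.2, mul_inv_cancel_right]
  have hXR : ∀ x ∈ X, x ∈ R₁ := by
    rintro _ ⟨n, rfl⟩
    exact (Subgroup.mem_normalizer_iff.1 n.2 v).1 hvR
  have hvinv : v⁻¹ ∉ X := by
    rintro ⟨n, hn⟩
    change n • v = v⁻¹ at hn
    rw [hconj] at hn
    have hm' : ((n : G)⁻¹)⁻¹ * v * (n : G)⁻¹ ∈ stabilizer G a := by
      rw [inv_inv, hn]; exact inv_mem (mem_D.1 (mem_Vg.1 hv).1).1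
    have h1 := C.aut_fusion hS h2 hv hm'
    have e : (⟨((n : G)⁻¹)⁻¹ * v * (n : G)⁻¹, hm'⟩ : ↥(stabilizer G a)) =
        (⟨v, (Subgroup.mem_inf.1 (mem_Vg.1 hv).1).1⟩)⁻¹ := Subtype.ext (show ((n : G)⁻¹)⁻¹ * v * (n : G)⁻¹ = v⁻¹ by rw [inv_inv, hn])
    rw [e, map_inv] at h1
    have h3 : C.autV hv ^ 2 = 1 := by
      rw [pow_two]; nth_rw 1 [Coord.autV, ← h1]; exact inv_mul_cancel _
    have := Nat.le_of_dvd (by norm_num) (orderOf_dvd_of_pow_eq_one h3)
    omega
  have hX1 : (1 : G) ∉ X := by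
    rintro ⟨n, hn⟩
    change n • v = 1 at hn
    rw [hconj] at hn
    exact hv1 (conj_eq_one_iff.1 hn)
  have hXle : Nat.card X ≤ 25 := by
    have hss : X ⊆ ((R₁ : Set G) \ {1, v⁻¹}) := fun x hx => ⟨hXR x hx, by
      rintro (rfl | rfl)
      · exact hX1 hx
      · exact hvinv hx⟩
    have h1 := Set.ncard_le_ncard hss (Set.toFinite _)
    have h3 : ({1, v⁻¹} : Set G) ⊆ (R₁ : Set G) := by
      rintro x (rfl | rfl)
      · exact one_mem _
      · exact inv_mem hvR
    rw [Set.ncard_diff h3 (Set.toFinite _), Set.ncard_pair (fun e => hv1 (inv_eq_one.1 e.symm)),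
      ← Nat.card_coe_set_eq, ← Nat.card_coe_set_eq] at h1
    rw [SetLike.coe_sort_coe, hR₁card] at h1
    exact h1
  -- `C_Q(v)` is semiregular on the other conjugates
  have hXmod : Nat.card X % 8 = 1 := by
    let T := Q ⊓ Cv
    letI : MulAction ↥T X := MulAction.compHom X (Subgroup.inclusion (inf_le_right.trans hCN : T ≤ N))
    have hfree : ∀ (y : ↥T) (x : X), y • x = x → y = 1 ∨ (x : G) = v := by
      intro y x hyx
      by_cases hy1 : y = 1
      · exact Or.inl hy1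
      refine Or.inr ?_
      have hyx' : (y : G) * (x : G) * (y : G)⁻¹ = x := congrArg Subtype.val hyx
      obtain ⟨g, hg, hgx⟩ := hR₁mem _ (hXR x x.2)
      have hy1' : (y : G) ≠ 1 := fun h => hy1 (Subtype.ext h)
      have hfix : (x : G) • a = a := by
        refine (fix_iff hS y.2.1 hy1').1 ?_
        rw [← mul_smul, mul_inv_eq_iff_eq_mul.1 hyx', mul_smul, Q_fix hS y.2.1]
      have hgA : g ∈ (R : Set ↥Cv) := hg
      rw [hRset] at hgA
      have hgZ : g ∈ Z := hgA.resolve_right fun h => h x₀ (Subtype.ext (by rw [hsmul, hgx]; exact hfix))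
      obtain ⟨i, hi⟩ := mem_powers_iff_mem_zpowers.2 hgZ
      have hx' : (x : G) = v ^ (i % 3) := by
        rw [← hgx, ← hi, SubmonoidClass.coe_pow]
        exact (hvo ▸ (pow_mod_orderOf v i)).symm
      have hcases : i % 3 = 0 ∨ i % 3 = 1 ∨ i % 3 = 2 := by omega
      rcases hcases with h | h | h <;> rw [h] at hx'
      · exact absurd (by rw [← (pow_zero v), ← hx']; exact x.2) hX1
      · rw [hx', pow_one]
      · refine absurd ?_ hvinv
        rw [show v⁻¹ = v ^ 2 from inv_eq_of_mul_eq_one_right (by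
          rw [← pow_succ', show 2 + 1 = orderOf v from hvo.symm]; exact pow_orderOf_eq_one v), ← hx']
        exact x.2
    haveI := Fintype.ofFinite X
    haveI := Fintype.ofFinite ↥T
    haveI := Fintype.ofFinite (orbitRel.Quotient ↥T X)
    have hT8 : Nat.card ↥T = 8 := hcent
    have hvX : v ∈ X := MulAction.mem_orbit_self v
    have horb : ∀ x : X, (x : G) ≠ v → Nat.card (MulAction.orbit ↥T x) = 8 := by
      intro x hx
      have h0 : stabilizer ↥T x = ⊥ := by
        rw [eq_bot_iff]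
        intro y hy
        exact Subgroup.mem_bot.2 ((hfree y x hy).resolve_right hx)
      have h1 := Subgroup.card_mul_index (stabilizer ↥T x)
      rw [h0, Subgroup.card_bot, one_mul, ← h0, MulAction.index_stabilizer, hT8] at h1
      rw [Nat.card_coe_set_eq]; exact h1
    have horbv : Nat.card (MulAction.orbit ↥T (⟨v, hvX⟩ : X)) = 1 := by
      rw [Nat.card_eq_one_iff_unique]
      refine ⟨⟨fun u w => ?_⟩, ⟨⟨⟨v, hvX⟩, MulAction.mem_orbit_self _⟩⟩⟩
      have key : ∀ u : MulAction.orbit ↥T (⟨v, hvX⟩ : X), ((u : X) : G) = v := by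
        rintro ⟨_, y, rfl⟩
        show (y : G) * v * (y : G)⁻¹ = v
        rw [Subgroup.mem_centralizer_singleton_iff.1 y.2.2, mul_inv_cancel_right]
      exact Subtype.ext (Subtype.ext ((key u).trans (key w).symm))
    rw [Nat.card_congr (MulAction.selfEquivSigmaOrbits ↥T X), Nat.card_sigma]
    rw [← Finset.add_sum_erase _ _ (Finset.mem_univ (Quotient.mk'' ⟨v, hvX⟩ : orbitRel.Quotient ↥T X))]
    have hdv : 8 ∣ ∑ ω ∈ Finset.univ.erase (Quotient.mk'' ⟨v, hvX⟩ : orbitRel.Quotient ↥T X),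
        Nat.card (MulAction.orbit ↥T ω.out) := by
      refine Finset.dvd_sum fun ω hω => ?_
      rw [horb ω.out fun h => Finset.ne_of_mem_erase hω ?_]
      rw [← Quotient.out_eq' ω]
      exact congrArg _ (Subtype.ext h)
    have hfirst : Nat.card (MulAction.orbit ↥T (Quotient.mk'' ⟨v, hvX⟩ : orbitRel.Quotient ↥T X).out) = 1 := by
      have h := MulAction.orbitRel.Quotient.orbit_eq_orbit_out
        (Quotient.mk'' ⟨v, hvX⟩ : orbitRel.Quotient ↥T X) Quotient.out_eq'
      rw [← h]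
      exact horbv
    obtain ⟨j, hj⟩ := hdv
    rw [hfirst, hj]
    omega
  -- arithmetic
  have hNdvd : Nat.card ↥N ∣ 512 * 21 * 513 := hG ▸ Subgroup.card_subgroup_dvd_card N
  have h81 : 3 ^ (3 + 1) ∣ Nat.card ↥N :=
    Sylow.prime_pow_dvd_card_normalizer (by rw [hG]; norm_num) (by rw [hR₁card]; norm_num)
  rw [hNX] at hNdvd h81
  have hc : Nat.card X = 1 ∨ Nat.card X = 9 ∨ Nat.card X = 17 ∨ Nat.card X = 25 := by omega
  rcases hc with h | h | h | h <;> rw [h] at hNdvd h81 <;> revert hNdvd h81 <;> norm_num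

/-- With a nontrivial `W` and `N = q ^ 3`, elements of `W` only centralise involutions of `Q`. -/
theorem Wg_cent_of_cube (hN3 : Nat.card Q = qq G a ^ 3) :
    ∀ w ∈ Wg a t, w ≠ 1 → ∀ y ∈ Q, w * y = y * w → y = 1 ∨ y ∈ 𝔍 := by
  classical
  haveI : Fact (Nat.Prime 2) := ⟨Nat.prime_two⟩
  intro w hw hw1
  obtain ⟨n, hn, hqn⟩ := exists_pow_two hS h2
  have hq4 : 4 ≤ qq G a := by rw [hqn]; exact le_trans (by norm_num) (Nat.pow_le_pow_right (by norm_num) hn)
  have hwV : w ∈ Vg a t := Wg_le_Vg hS hw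
  have hqw : qx a w = qq G a := qx_of_Wg hS h2 hw
  have hcase := hCS w hwV hw1 (by rw [hqw]; exact hq4)
  rw [hqw] at hcase
  have hJC : involutionGroup hS h2 ≤ Q ⊓ Subgroup.centralizer ({w} : Set G) := by
    rintro x (rfl | hx)
    · exact one_mem _
    · exact ⟨J_mem_Q hS hx, Subgroup.mem_centralizer_singleton_iff.2 ((mem_Wg.1 hw).2 x hx).symm⟩
  intro y hy hc
  have hyC : y ∈ Q ⊓ Subgroup.centralizer ({w} : Set G) :=
    ⟨hy, Subgroup.mem_centralizer_singleton_iff.2 hc.symm⟩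
  have hnfix : ¬ ∀ u ∈ Q, w * u = u * w := fun h => hw1 (FaithfulSMul.eq_of_smul_eq_smul (α := Ω) fun c => by
    rw [one_smul]
    by_cases hca : c = a
    · rw [hca]; exact base_fixed hS hwV
    · obtain ⟨u, hu, rfl⟩ := exists_smul_eq_ta hS hca
      exact (fix_smul_iff hS (mem_Vg.1 hwV).1 hu).2 (h u hu))
  rcases hcase with h | ⟨hna, h | ⟨h, -⟩⟩
  · have he := Subgroup.eq_of_le_of_card_ge hJC (by rw [card_ZJ hS h2, h])
    rw [← he] at hyC
    exact hyC
  · exfalso
    set M := Q ⊓ Subgroup.centralizer ({w} : Set G) with hM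
    obtain ⟨P⟩ := exists_qdec hS h2
    have hO : Nat.card P.O = 1 := by
      have h3 : Nat.card P.O ∣ 2 ^ (n * 3) := by
        rw [pow_mul, ← hqn, ← hN3, P.card_eq]; exact Dvd.intro_left _ rfl
      exact Nat.eq_one_of_dvd_coprimes (Nat.Coprime.pow_left _ P.odd.coprime_two_left) h3 dvd_rfl
    have hSQ : P.S = Q := by
      refine le_antisymm P.S_le fun u hu => ?_
      obtain ⟨s, hs, o, ho, rfl⟩ := P.prod u hu
      rw [Subgroup.eq_bot_of_card_eq P.O hO, Subgroup.mem_bot] at ho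
      rw [ho, mul_one]; exact hs
    have hnaS : ¬ ∀ u ∈ P.S, ∀ u' ∈ P.S, u * u' = u' * u := fun hab => hna fun u hu u' hu' _ _ =>
      hab u (hSQ.symm ▸ hu) u' (hSQ.symm ▸ hu')
    obtain ⟨hsq, hcm, -⟩ := (P.S_cases hS h2).resolve_left hnaS
    rw [hSQ] at hsq hcm
    -- a root in the centraliser of every involution
    obtain ⟨x₀, hx₀M, hx₀⟩ : ∃ x₀ ∈ M, x₀ * x₀ ∈ 𝔍 := by
      by_contra hcon'
      push Not at hcon'
      refine hna fun u hu u' hu' huw hu'w => ?_
      have hum : ∀ r ∈ M, r * r = 1 := fun r hr => (hsq r hr.1).resolve_right (hcon' r hr)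
      have hu1 : u ∈ M := ⟨hu, Subgroup.mem_centralizer_singleton_iff.2 huw⟩
      have hu2 : u' ∈ M := ⟨hu', Subgroup.mem_centralizer_singleton_iff.2 hu'w⟩
      have h1 := inv_eq_of_mul_eq_one_right (hum _ (mul_mem hu1 hu2))
      rw [← h1, mul_inv_rev, inv_eq_of_mul_eq_one_right (hum u hu1), inv_eq_of_mul_eq_one_right (hum u' hu2)]
    have hroot : ∀ s ∈ 𝔍, ∃ r ∈ M, r * r = s := by
      intro s hs
      obtain ⟨k, ⟨hk, he⟩, -⟩ := exists_unique_K hS hx₀ hs
      have hwk : Commute w k := Wg_commute_K hS h2 hw hk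
      have hwx : Commute w x₀ := (Subgroup.mem_centralizer_singleton_iff.1 hx₀M.2).symm
      refine ⟨k⁻¹ * x₀ * k, ⟨?_, Subgroup.mem_centralizer_singleton_iff.2 ?_⟩, by rw [← he]; group⟩
      · have := Q_conj hS (inv_mem hk.1) hx₀M.1
        rwa [inv_inv] at this
      · exact ((hwk.inv_right.mul_right hwx).mul_right hwk).eq.symm
    -- `u⁻¹ uʷ` centralises `M`
    have hz : ∀ u ∈ Q, u⁻¹ * (w⁻¹ * u * w) ∈ M := by
      intro u hu
      set u' := w⁻¹ * u * w with hu'
      have hu'Q : u' ∈ Q := by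
        have := Q_conj hS (inv_mem (mem_Vg.1 hwV).1) hu
        rwa [inv_inv] at this
      set z := u⁻¹ * u' with hzdef
      have hzQ : z ∈ Q := mul_mem (inv_mem hu) hu'Q
      have hzc : ∀ r ∈ M, z * r = r * z := by
        intro r hr
        have hwr : w⁻¹ * r * w = r := by
          rw [mul_assoc, Subgroup.mem_centralizer_singleton_iff.1 hr.2, inv_mul_cancel_left]
        have hcZ := hcm u hu r hr.1
        have e : u'⁻¹ * r⁻¹ * u' * r = u⁻¹ * r⁻¹ * u * r := by
          have hfixz : w⁻¹ * (u⁻¹ * r⁻¹ * u * r) * w = u⁻¹ * r⁻¹ * u * r := by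
            rcases hcZ with h1 | h1
            · rw [h1, mul_one, inv_mul_cancel]
            · rw [mul_assoc, ← (mem_Wg.1 hw).2 _ h1, inv_mul_cancel_left]
          calc u'⁻¹ * r⁻¹ * u' * r = (w⁻¹ * u * w)⁻¹ * (w⁻¹ * r * w)⁻¹ * (w⁻¹ * u * w) * (w⁻¹ * r * w) := by
                rw [hwr, hu']
            _ = w⁻¹ * (u⁻¹ * r⁻¹ * u * r) * w := by group
            _ = _ := hfixz
        set c := u⁻¹ * r⁻¹ * u * r with hcdef
        have hcc : ∀ g ∈ Q, g * c = c * g := fun g hg => by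
          rcases hcZ with h1 | h1
          · rw [h1, mul_one, one_mul]
          · exact (J_central hS h2 h1 hg).symm
        have h3 : u * r = r * u * c := by rw [hcdef]; group
        have h4 : u' * r = r * u' * c := by rw [← e]; group
        calc z * r = u⁻¹ * (u' * r) := by rw [hzdef]; group
          _ = u⁻¹ * r * u' * c := by rw [h4]; group
          _ = u⁻¹ * (r * u) * (u⁻¹ * u') * c := by group
          _ = u⁻¹ * (u * r * c⁻¹) * z * c := by rw [h3, hzdef]; group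
          _ = r * (c⁻¹ * (z * c)) := by group
          _ = r * z := by rw [hcc z hzQ, inv_mul_cancel_left]
      rcases hsq z hzQ with h1 | h1
      · exact hJC (eq_one_or_J hS hzQ h1)
      · obtain ⟨r, hr, hrr⟩ := hroot _ h1
        have hcr : Commute z r := hzc r hr
        have h2' : (z * r⁻¹) * (z * r⁻¹) = 1 := by
          rw [← pow_two, hcr.inv_right.mul_pow, pow_two, pow_two, ← hrr]
          group
        have := hJC (eq_one_or_J hS (mul_mem hzQ (inv_mem hr.1)) h2')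
        have h5 := mul_mem this hr
        rwa [inv_mul_cancel_right] at h5
    refine hnfix fun u hu => ?_
    have hzw : Commute w (u⁻¹ * (w⁻¹ * u * w)) :=
      (Subgroup.mem_centralizer_singleton_iff.1 (hz u hu).2).symm
    set z := u⁻¹ * (w⁻¹ * u * w) with hzdef
    have hi : ∀ i : ℕ, (w ^ i)⁻¹ * u * w ^ i = u * z ^ i := by
      intro i
      induction i with
      | zero => simp
      | succ i ih =>
        calc (w ^ (i + 1))⁻¹ * u * w ^ (i + 1) = w⁻¹ * ((w ^ i)⁻¹ * u * w ^ i) * w := by rw [pow_succ]; group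
          _ = (w⁻¹ * u * w) * (w⁻¹ * (z ^ i * w)) := by rw [ih]; group
          _ = (u * z) * (w⁻¹ * (w * z ^ i)) := by
            rw [(hzw.pow_right i).eq, hzdef]; group
          _ = u * z ^ (i + 1) := by rw [pow_succ']; group
    have hzo := hi (orderOf w)
    rw [pow_orderOf_eq_one, inv_one, one_mul, mul_one, left_eq_mul] at hzo
    have hzM : z ∈ Q := (hz u hu).1
    have hzd : orderOf z ∣ Nat.card Q := Subgroup.orderOf_dvd_natCard Q hzM
    have hz1 : z = 1 := by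
      rw [← orderOf_eq_one_iff]
      refine Nat.eq_one_of_dvd_coprimes ?_ hzd (orderOf_dvd_of_pow_eq_one hzo)
      rw [hN3, hqn, ← pow_mul]
      exact Nat.Coprime.pow_left _ (D_odd hS (mem_Vg.1 hwV).1).coprime_two_left
    rw [hzdef, inv_mul_eq_one] at hz1
    calc w * u = w * (w⁻¹ * u * w) := by rw [← hz1]
      _ = u * w := by group
  · exfalso
    have he := Subgroup.eq_of_le_of_card_ge (inf_le_left : Q ⊓ Subgroup.centralizer ({w} : Set G) ≤ Q)
      (by rw [h, hN3])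
    exact hnfix fun u hu => (Subgroup.mem_centralizer_singleton_iff.1
      ((he.symm ▸ hu : u ∈ Q ⊓ Subgroup.centralizer ({w} : Set G)).2)).symm

end CfsgLib.Lie.RankOneClass
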