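import Cfsg.Agent.Lib.Lie.RankOneClass.CoordFacts
import Cfsg.Agent.S1134
import Mathlib.GroupTheory.Transfer

/-!
Owner: helper5. Transfer into the field automorphisms.
-/

set_option autoImplicit false
set_option linter.unusedSectionVars false

namespace CfsgLib.Lie.RankOneClass

open MulAction CfsgLib.Lie.RankOne

variable {G Ω : Type*} [Group G] [MulAction G Ω] [Finite G] [FaithfulSMul G Ω] {a : Ω} {t : G}
  {Q : Subgroup G} {F : Type} [Field F] [Fintype F] (C : Coord a t F)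
  (hS : Cfsg.IsRankOneSetup G Ω a t Q)
  (h2 : ∃ x y : G, x ≠ 1 ∧ y ≠ 1 ∧ x ≠ y ∧ x * x = 1 ∧ y * y = 1 ∧ x * y = y * x)

local notation "𝔇" => ((stabilizer G a ⊓ stabilizer G (t • a)) : Subgroup G)

namespace Coord

include hS h2

/-- The automorphism of an element of `V` is invariant under fusion. -/
theorem aut_fusion {w : G} (hw : w ∈ Vg a t) {g : G} (hg : g⁻¹ * w * g ∈ stabilizer G a) :
    C.aut ⟨g⁻¹ * w * g, hg⟩ = C.aut ⟨w, (Subgroup.mem_inf.1 (mem_Vg.1 hw).1).1⟩ := by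
  classical
  by_cases hw1 : w = 1
  · refine congrArg C.aut (Subtype.ext ?_)
    show g⁻¹ * w * g = w
    rw [hw1, mul_one, inv_mul_cancel]
  obtain ⟨c, hca, hcb, hc⟩ := third_of_centralizes hS (X := {w}) (fun y hy => by
    rw [Set.mem_singleton_iff.1 hy]; exact (mem_Vg.1 hw).2)
  have hwc := hc w rfl
  have hwa := (mem_D.1 (mem_Vg.1 hw).1).1
  have hwb := (mem_D.1 (mem_Vg.1 hw).1).2
  set h := g⁻¹ * w * g with hh
  have hfix : ∀ p : Ω, w • p = p → h • (g⁻¹ • p) = g⁻¹ • p := fun p hp => by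
    rw [hh, mul_smul, mul_smul, smul_inv_smul, hp]
  have two : ∃ p q : Ω, p ≠ a ∧ q ≠ a ∧ p ≠ q ∧ h • p = p ∧ h • q = q := by
    by_cases h1 : g⁻¹ • a = a
    · exact ⟨_, _, fun e => t_smul_ne hS (smul_left_cancel g⁻¹ (e.trans h1.symm)),
        fun e => hca (smul_left_cancel g⁻¹ (e.trans h1.symm)),
        fun e => hcb (smul_left_cancel g⁻¹ e).symm, hfix _ hwb, hfix _ hwc⟩
    by_cases h3 : g⁻¹ • (t • a) = a
    · exact ⟨_, _, h1, fun e => hcb (smul_left_cancel g⁻¹ (e.trans h3.symm)),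
        fun e => hca (smul_left_cancel g⁻¹ e).symm, hfix _ hwa, hfix _ hwc⟩
    · exact ⟨_, _, h1, h3, fun e => t_smul_ne hS (smul_left_cancel g⁻¹ e).symm, hfix _ hwa,
        hfix _ hwb⟩
  obtain ⟨p, q, hpa, hqa, hpq, hp, hq⟩ := two
  obtain ⟨y, hy, hd, hyp⟩ := exists_conj_D hS hg hpa hp
  obtain ⟨x, hx, hxq⟩ := exists_smul_eq_ta hS (c := y⁻¹ • q) (fun e => hqa (by
    rw [← smul_inv_smul y q, e, Q_fix hS hy]))
  have hx1 : x ≠ 1 := fun e => hpq (by
    rw [e, one_smul] at hxq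
    rw [← hyp, hxq, smul_inv_smul])
  have hcomm := (fix_smul_iff hS hd hx).1 (by
    rw [hxq, mul_smul, mul_smul, smul_inv_smul, hq])
  obtain ⟨k, hk, hv'⟩ := conj_mem_Vg hS hd hx hx1 hcomm
  obtain ⟨u, hu, hue⟩ := Cfsg.Agent.S1134.result hS h2 {w}
    (Set.singleton_subset_iff.2 hw) (k * y⁻¹ * g⁻¹) (by
      rw [Set.image_singleton, Set.singleton_subset_iff]
      rw [show k * y⁻¹ * g⁻¹ * w * (k * y⁻¹ * g⁻¹)⁻¹ = k * (y⁻¹ * h * y) * k⁻¹ by rw [hh]; group]
      exact hv')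
  rw [Set.image_singleton, Set.image_singleton, Set.singleton_eq_singleton_iff] at hue
  have huS : u ∈ stabilizer G a := (mem_D.1 (mem_Vg.1 hu).1).1
  have hwS : w ∈ stabilizer G a := hwa
  have e1 : C.aut (⟨u, huS⟩ * ⟨w, hwS⟩ * ⟨u, huS⟩⁻¹) = C.aut ⟨w, hwS⟩ := by
    rw [map_mul, map_mul, map_inv, aut_comm (C.aut ⟨u, huS⟩) (C.aut ⟨w, hwS⟩), mul_inv_cancel_right]
  have hkS : k ∈ stabilizer G a := (mem_D.1 hk).1
  have hyS : y ∈ stabilizer G a := hS.le hy
  generalize hkk : (⟨k, hkS⟩ * ⟨y, hyS⟩⁻¹ : ↥(stabilizer G a)) = K0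
  have e2 : C.aut (K0 * ⟨h, hg⟩ * K0⁻¹) = C.aut ⟨h, hg⟩ := by
    rw [map_mul, map_mul, map_inv, aut_comm (C.aut K0) (C.aut ⟨h, hg⟩), mul_inv_cancel_right]
  rw [← e2]
  refine Eq.trans ?_ e1
  refine congrArg C.aut (Subtype.ext ?_)
  subst hkk
  show k * y⁻¹ * h * (k * y⁻¹)⁻¹ = u * w * u⁻¹
  rw [hue, hh]
  group

/-- Without proper extensions the automorphisms have order dividing the degree. -/
theorem aut_pow_degree (hN : NoExt t Q) {v : G} (hv : v ∈ Vg a t) :
    C.aut ⟨v, (Subgroup.mem_inf.1 (mem_Vg.1 hv).1).1⟩ ^ (Nat.card Q + 1) = 1 := by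
  classical
  letI : CommGroup (F ≃+* F) := { (inferInstance : Group (F ≃+* F)) with mul_comm := Coord.aut_comm }
  haveI := hS.two_transitive
  haveI : IsPretransitive G Ω := MulAction.isPretransitive_of_is_two_pretransitive
  let φ : ↥(stabilizer G a) →* (F ≃+* F) := C.aut
  set τ := MonoidHom.transfer φ with hτ
  letI : Fintype (G ⧸ stabilizer G a) := Fintype.ofFinite _
  have comp := fun g => MonoidHom.transfer_eq_prod_quotient_orbitRel_zpowers_quot φ g
  have hQ : ∀ x ∈ Q, τ x = 1 := by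
    intro x hx
    rw [hτ, comp]
    refine Finset.prod_eq_one fun q _ => ?_
    set m := Function.minimalPeriod (x • ·) q.out
    set g := q.out.out
    have hmem : g⁻¹ * x ^ m * g ∈ stabilizer G a :=
      QuotientGroup.out_conj_pow_minimalPeriod_mem (stabilizer G a) x q.out
    by_cases hxm : x ^ m = 1
    · refine (congrArg φ (Subtype.ext ?_)).trans (map_one φ)
      show g⁻¹ * x ^ m * g = 1
      rw [hxm, mul_one, inv_mul_cancel]
    · have hga : g • a = a := by
        refine (fix_iff hS (pow_mem hx m) hxm).1 ?_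
        have h1 : (g⁻¹ * x ^ m * g) • a = a := hmem
        rw [mul_smul, mul_smul, inv_smul_eq_iff] at h1
        exact h1
      have hxQ : g⁻¹ * x ^ m * g ∈ Q := by
        have := hS.conj_mem g⁻¹ (inv_mem (show g ∈ stabilizer G a from hga)) _ (pow_mem hx m)
        rwa [inv_inv] at this
      exact C.aut_Q hS h2 hxQ
  have ht : τ t = 1 := by
    rw [hτ, comp]
    refine Finset.prod_eq_one fun q _ => ?_
    set m := Function.minimalPeriod (t • ·) q.out
    set g := q.out.out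
    have hmem : g⁻¹ * t ^ m * g ∈ stabilizer G a :=
      QuotientGroup.out_conj_pow_minimalPeriod_mem (stabilizer G a) t q.out
    refine C.aut_Q hS h2 (involution_mem_Q hS hmem ?_)
    have : t ^ m * t ^ m = 1 := by rw [← (Commute.refl t).mul_pow, hS.mul_self, one_pow]
    calc g⁻¹ * t ^ m * g * (g⁻¹ * t ^ m * g) = g⁻¹ * (t ^ m * t ^ m) * g := by group
      _ = 1 := by rw [this, mul_one, inv_mul_cancel]
  have hker := hN τ.ker inferInstance (fun x hx => hQ x hx) ht
  have h1 : τ v = 1 := MonoidHom.mem_ker.1 (hker ▸ Subgroup.mem_top v)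
  rw [hτ, comp] at h1
  have hva := (Subgroup.mem_inf.1 (mem_Vg.1 hv).1).1
  rw [← (card_points hS).2, ← MulAction.index_stabilizer_of_transitive G a,
    Subgroup.index_eq_sum_minimalPeriod (stabilizer G a) v, ← Finset.prod_pow_eq_pow_sum]
  refine Eq.trans (Finset.prod_congr rfl fun q _ => ?_) h1
  rw [← map_pow]
  refine Eq.trans ?_ (C.aut_fusion hS h2 (pow_mem hv (Function.minimalPeriod (v • ·) q.out))
    (g := q.out.out) (QuotientGroup.out_conj_pow_minimalPeriod_mem (stabilizer G a) v q.out)).symm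
  exact congrArg C.aut (Subtype.ext rfl)

end Coord

end CfsgLib.Lie.RankOneClass
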