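import Cfsg.Agent.Lib.Lie.RankOneClass.Galois
import Cfsg.Agent.Lib.Lie.RankOneClass.Transfer
import Cfsg.Agent.Lib.Core.Carter
import Cfsg.Agent.S1132
import Cfsg.Agent.S1138

/-!
Owner: helper5. The structure of the regular normal subgroup of the point stabiliser.
-/

set_option autoImplicit false
set_option linter.unusedSectionVars false

namespace CfsgLib.Lie.RankOneClass

open MulAction CfsgLib.Lie.RankOne CfsgLib.OddTransitive.RankOne

variable {G Ω : Type*} [Group G] [MulAction G Ω]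

/-- The inductive hypothesis: the shapes of the centralisers of the elements of `V`. -/
def CentShape (a : Ω) (t : G) (Q : Subgroup G) : Prop :=
  ∀ x ∈ Vg a t, x ≠ 1 → 4 ≤ qx a x →
    Nat.card ↥(Q ⊓ Subgroup.centralizer ({x} : Set G)) = qx a x ∨
      (¬ (∀ u ∈ Q, ∀ v ∈ Q, u * x = x * u → v * x = x * v → u * v = v * u) ∧
        (Nat.card ↥(Q ⊓ Subgroup.centralizer ({x} : Set G)) = qx a x ^ 2 ∨
          (Nat.card ↥(Q ⊓ Subgroup.centralizer ({x} : Set G)) = qx a x ^ 3 ∧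
            ∃ g ∈ Vg a t, g * x = x * g ∧ (∃ c : Ω, x • c = c ∧ g • c ≠ c) ∧
              ∀ s ∈ Cfsg.involutionsIn (stabilizer G a : Set G), x * s = s * x → g * s = s * g)))

/-- A decomposition of `Q` into its two-part and its part of odd order. -/
structure QDec (Q : Subgroup G) where
  /-- the two-part -/
  S : Subgroup G
  /-- the part of odd order -/
  O : Subgroup G
  S_le : S ≤ Q
  O_le : O ≤ Q
  isTwo : IsPGroup 2 S
  odd : Odd (Nat.card O)
  comm : ∀ s ∈ S, ∀ o ∈ O, s * o = o * s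
  prod : ∀ y ∈ Q, ∃ s ∈ S, ∃ o ∈ O, y = s * o

/-- The number of elements of `Q` fixed by an element of prime order normalising it. -/
theorem card_centralized_modEq [Finite G] {Q : Subgroup G} {d : G} {p : ℕ} (hp : p.Prime)
    (hd : orderOf d = p) (hn : ∀ y ∈ Q, d * y * d⁻¹ ∈ Q) :
    Nat.card ↥(Q ⊓ Subgroup.centralizer ({d} : Set G)) ≡ Nat.card Q [MOD p] := by
  classical
  haveI := Fact.mk hp
  haveI := Fintype.ofFinite ↥Q
  have hn' : ∀ y ∈ Q, d⁻¹ * y * d ∈ Q := by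
    intro y hy
    have hfin : d⁻¹ = d ^ (p - 1) := by
      refine inv_eq_of_mul_eq_one_right ?_
      rw [← pow_succ', Nat.sub_add_cancel hp.one_le, ← hd, pow_orderOf_eq_one]
    have hk : ∀ k : ℕ, d ^ k * y * (d ^ k)⁻¹ ∈ Q := by
      intro k
      induction k with
      | zero => simpa using hy
      | succ k ih =>
        have h1 := hn _ ih
        rwa [show d * (d ^ k * y * (d ^ k)⁻¹) * d⁻¹ = d ^ (k + 1) * y * (d ^ (k + 1))⁻¹ by
          rw [pow_succ']; group] at h1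
    have h1 := hk (p - 1)
    rwa [← hfin, inv_inv] at h1
  let σ : Equiv.Perm ↥Q :=
    { toFun := fun y => ⟨d * y * d⁻¹, hn y y.2⟩
      invFun := fun y => ⟨d⁻¹ * y * d, hn' y y.2⟩
      left_inv := fun y => Subtype.ext (show d⁻¹ * (d * y * d⁻¹) * d = y by group)
      right_inv := fun y => Subtype.ext (show d * (d⁻¹ * y * d) * d⁻¹ = y by group) }
  have hσk : ∀ (k : ℕ) (y : ↥Q), ((σ ^ k) y : G) = d ^ k * y * (d ^ k)⁻¹ := by
    intro k
    induction k with
    | zero => simp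
    | succ k ih =>
      intro y
      rw [pow_succ', Equiv.Perm.mul_apply]
      show d * ((σ ^ k) y : G) * d⁻¹ = _
      rw [ih, pow_succ']
      group
  have hσ : σ ^ p ^ 1 = 1 := by
    refine Equiv.ext fun y => Subtype.ext ?_
    rw [pow_one, hσk, ← hd, pow_orderOf_eq_one, Equiv.Perm.one_apply]
    group
  have h := Equiv.Perm.card_compl_support_modEq (p := p) (n := 1) hσ
  rw [Nat.card_eq_fintype_card (α := ↥Q)]
  refine Eq.trans ?_ h
  refine congrArg (· % p) ?_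
  rw [← Nat.card_eq_finsetCard]
  refine Nat.card_eq_of_bijective (fun y => ⟨⟨(y : G), (Subgroup.mem_inf.1 y.2).1⟩, ?_⟩)
    ⟨fun y y' e => Subtype.ext (congrArg (fun z => ((z : ↥Q) : G)) (congrArg Subtype.val e) :), fun y => ?_⟩
  · have hy := Subgroup.mem_centralizer_singleton_iff.1 (Subgroup.mem_inf.1 y.2).2
    simp only [Finset.mem_compl, Equiv.Perm.mem_support, not_not]
    exact Subtype.ext (show d * (y : G) * d⁻¹ = y by rw [← hy, mul_inv_cancel_right])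
  · have hy := y.2
    simp only [Finset.mem_compl, Equiv.Perm.mem_support, not_not] at hy
    have hy' : d * ((y : ↥Q) : G) * d⁻¹ = ((y : ↥Q) : G) := congrArg Subtype.val hy
    exact ⟨⟨((y : ↥Q) : G), Subgroup.mem_inf.2 ⟨(y : ↥Q).2,
      Subgroup.mem_centralizer_singleton_iff.2 (mul_inv_eq_iff_eq_mul.1 hy').symm⟩⟩, rfl⟩

namespace QDec

variable [Finite G] {Q : Subgroup G} (P : QDec Q)

theorem inf_bot {x : G} (h1 : x ∈ P.S) (h2 : x ∈ P.O) : x = 1 := by
  haveI : Fact (Nat.Prime 2) := ⟨Nat.prime_two⟩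
  obtain ⟨i, hi⟩ := IsPGroup.iff_orderOf.1 P.isTwo ⟨x, h1⟩
  rw [Subgroup.orderOf_mk] at hi
  have h3 : orderOf x ∣ Nat.card P.O := P.O.orderOf_dvd_natCard h2
  rw [← orderOf_eq_one_iff, hi]
  refine Nat.eq_one_of_dvd_coprimes (Nat.Coprime.pow_left i ?_) dvd_rfl (hi ▸ h3)
  exact P.odd.coprime_two_left

theorem unique {s s' o o' : G} (hs : s ∈ P.S) (hs' : s' ∈ P.S) (ho : o ∈ P.O) (ho' : o' ∈ P.O)
    (h : s * o = s' * o') : s = s' ∧ o = o' := by
  have h1 : s'⁻¹ * s = o' * o⁻¹ := by rw [eq_mul_inv_iff_mul_eq, mul_assoc, h, inv_mul_cancel_left]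
  have h2 := P.inf_bot (mul_mem (inv_mem hs') hs) (by rw [h1]; exact mul_mem ho' (inv_mem ho))
  have h3 := (inv_mul_eq_one.1 h2).symm
  subst h3
  exact ⟨rfl, mul_left_cancel h⟩

theorem mem_S {y : G} (hy : y ∈ Q) {i : ℕ} (hi : y ^ 2 ^ i = 1) : y ∈ P.S := by
  haveI : Fact (Nat.Prime 2) := ⟨Nat.prime_two⟩
  obtain ⟨s, hs, o, ho, rfl⟩ := P.prod y hy
  have hc : Commute s o := P.comm s hs o ho
  rw [hc.mul_pow] at hi
  have h1 := P.inf_bot (pow_mem hs (2 ^ i)) (by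
    rw [eq_inv_of_mul_eq_one_left hi]; exact inv_mem (pow_mem ho _))
  rw [h1, one_mul] at hi
  have h2 : o = 1 := by
    rw [← orderOf_eq_one_iff]
    exact Nat.eq_one_of_dvd_coprimes (Nat.Coprime.pow_left i P.odd.coprime_two_left)
      (orderOf_dvd_of_pow_eq_one hi) (P.O.orderOf_dvd_natCard ho)
  rw [h2, mul_one]
  exact hs

theorem mem_O {y : G} (hy : y ∈ Q) (ho : Odd (orderOf y)) : y ∈ P.O := by
  haveI : Fact (Nat.Prime 2) := ⟨Nat.prime_two⟩
  obtain ⟨s, hs, o, hoO, rfl⟩ := P.prod y hy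
  have hc : Commute s o := P.comm s hs o hoO
  obtain ⟨i, hi⟩ := IsPGroup.iff_orderOf.1 P.isTwo ⟨s, hs⟩
  rw [Subgroup.orderOf_mk] at hi
  have hco : (orderOf s).Coprime (orderOf o) := by
    rw [hi]
    exact Nat.Coprime.pow_left i ((P.odd.of_dvd_nat (P.O.orderOf_dvd_natCard hoO)).coprime_two_left)
  rw [hc.orderOf_mul_eq_mul_orderOf_of_coprime hco] at ho
  have h1 : i = 0 := by
    by_contra h0
    refine (Nat.not_even_iff_odd.2 ho) (Nat.even_mul.2 (Or.inl ?_))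
    rw [hi]
    exact (Nat.even_pow.2 ⟨even_two, h0⟩)
  rw [h1, pow_zero, orderOf_eq_one_iff] at hi
  rw [hi, one_mul]
  exact hoO

theorem card_eq : Nat.card Q = Nat.card P.S * Nat.card P.O := by
  rw [← Nat.card_prod]
  refine (Nat.card_eq_of_bijective (fun p : P.S × P.O =>
    (⟨(p.1 : G) * p.2, mul_mem (P.S_le p.1.2) (P.O_le p.2.2)⟩ : Q)) ⟨fun p p' h => ?_, fun y => ?_⟩).symm
  · obtain ⟨h1, h2⟩ := P.unique p.1.2 p'.1.2 p.2.2 p'.2.2 (congrArg Subtype.val h)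
    exact Prod.ext (Subtype.ext h1) (Subtype.ext h2)
  · obtain ⟨s, hs, o, ho, he⟩ := P.prod y y.2
    exact ⟨(⟨s, hs⟩, ⟨o, ho⟩), Subtype.ext he.symm⟩

theorem exists_card_S : ∃ i, Nat.card P.S = 2 ^ i := by
  haveI : Fact (Nat.Prime 2) := ⟨Nat.prime_two⟩
  exact P.isTwo.exists_card_eq

theorem conj_S {d : G} (hd : ∀ y ∈ Q, d * y * d⁻¹ ∈ Q) {s : G} (hs : s ∈ P.S) :
    d * s * d⁻¹ ∈ P.S := by
  haveI : Fact (Nat.Prime 2) := ⟨Nat.prime_two⟩
  obtain ⟨i, hi⟩ := IsPGroup.iff_orderOf.1 P.isTwo ⟨s, hs⟩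
  rw [Subgroup.orderOf_mk] at hi
  refine P.mem_S (hd s (P.S_le hs)) (i := i) ?_
  rw [conj_pow, ← hi, pow_orderOf_eq_one, mul_one, mul_inv_cancel]

theorem conj_O {d : G} (hd : ∀ y ∈ Q, d * y * d⁻¹ ∈ Q) {o : G} (ho : o ∈ P.O) :
    d * o * d⁻¹ ∈ P.O := by
  refine P.mem_O (hd o (P.O_le ho)) ?_
  rw [show orderOf (d * o * d⁻¹) = orderOf o from
    orderOf_injective (MulAut.conj d).toMonoidHom (MulEquiv.injective _) o]
  exact P.odd.of_dvd_nat (P.O.orderOf_dvd_natCard ho)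

/-- An element centralising a product centralises both parts. -/
theorem commute_parts {d s o : G} (hd : ∀ y ∈ Q, d * y * d⁻¹ ∈ Q) (hs : s ∈ P.S) (ho : o ∈ P.O)
    (h : d * (s * o) = s * o * d) : d * s = s * d ∧ d * o = o * d := by
  obtain ⟨h1, h2⟩ := P.unique (P.conj_S hd hs) hs (P.conj_O hd ho) ho
    (show d * s * d⁻¹ * (d * o * d⁻¹) = s * o by
      rw [show d * s * d⁻¹ * (d * o * d⁻¹) = d * (s * o) * d⁻¹ by group, h, mul_inv_cancel_right])
  exact ⟨mul_inv_eq_iff_eq_mul.1 h1, mul_inv_eq_iff_eq_mul.1 h2⟩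

end QDec

variable [Finite G] [FaithfulSMul G Ω] {a : Ω} {t : G} {Q : Subgroup G}

local notation "𝔇" => ((stabilizer G a ⊓ stabilizer G (t • a)) : Subgroup G)
local notation "𝔎" => Cfsg.invertedBy (stabilizer G a ⊓ stabilizer G (t • a)) t
local notation "𝔍" => Cfsg.involutionsIn (stabilizer G a : Set G)

variable (hS : Cfsg.IsRankOneSetup G Ω a t Q)
  (h2 : ∃ x y : G, x ≠ 1 ∧ y ≠ 1 ∧ x ≠ y ∧ x * x = 1 ∧ y * y = 1 ∧ x * y = y * x)

theorem card_ZJ : Nat.card ↥(involutionGroup hS h2) = qq G a := by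
  classical
  haveI := Fintype.ofFinite G
  rw [qq]
  have h1 : (1 : G) ∉ 𝔍 := fun h => h.2.1 rfl
  have h3 := Set.ncard_insert_of_notMem h1 (Set.toFinite _)
  rw [← Nat.card_coe_set_eq, ← Nat.card_coe_set_eq] at h3
  rw [← h3]
  exact Nat.card_congr (Equiv.subtypeEquivRight fun x => Iff.rfl)

include hS h2

theorem exists_qdec : Nonempty (QDec Q) := by
  haveI := Q_nilpotent hS h2
  haveI : Fact (Nat.Prime 2) := ⟨Nat.prime_two⟩
  obtain ⟨O, S, hO, hSle, hco, hp, hc, -, hprod, -⟩ := CfsgLib.Core.Carter.nilpotent_split (C := Q) 2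
  refine ⟨⟨S, O, hSle, hO, hp, Nat.coprime_two_right.1 hco, fun s hs o ho => (hc o ho s hs).symm,
    fun y hy => ?_⟩⟩
  obtain ⟨o, ho, s, hs, rfl⟩ := hprod y hy
  exact ⟨s, hs, o, ho, hc o ho s hs⟩

theorem QDec.ZJ_le (P : QDec Q) : involutionGroup hS h2 ≤ P.S := by
  rintro x (rfl | hx)
  · exact one_mem _
  · exact P.mem_S (J_mem_Q hS hx) (i := 1) (by rw [pow_one, pow_two]; exact hx.2.2)

omit h2 in
theorem eq_one_or_J {x : G} (hx : x ∈ Q) (hxx : x * x = 1) : x = 1 ∨ x ∈ 𝔍 := by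
  by_cases h : x = 1
  · exact Or.inl h
  · exact Or.inr ⟨hS.le hx, h, hxx⟩

/-- The two-part is abelian or of the shape of a Suzuki two-group. -/
theorem QDec.S_cases (P : QDec Q) : (∀ x ∈ P.S, ∀ y ∈ P.S, x * y = y * x) ∨
    ((∀ x ∈ P.S, x * x ∈ involutionGroup hS h2) ∧
      (∀ x ∈ P.S, ∀ y ∈ P.S, x⁻¹ * y⁻¹ * x * y ∈ involutionGroup hS h2) ∧
      (Nat.card P.S = qq G a ^ 2 ∨ Nat.card P.S = qq G a ^ 3)) := by
  classical
  haveI : Fact (Nat.Prime 2) := ⟨Nat.prime_two⟩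
  by_cases hab : ∀ x ∈ P.S, ∀ y ∈ P.S, x * y = y * x
  · exact Or.inl hab
  right
  have hSyl : ¬ 2 ∣ (P.S.subgroupOf Q).index := by
    have h1 : P.S.relIndex Q * Nat.card P.S = Nat.card Q := by
      rw [← Nat.card_congr (Subgroup.subgroupOfEquivOfLe P.S_le).toEquiv, Subgroup.relIndex,
        mul_comm, Subgroup.card_mul_index]
    rw [P.card_eq, mul_comm (Nat.card P.S)] at h1
    rw [← Subgroup.relIndex, Nat.eq_of_mul_eq_mul_right Nat.card_pos h1, ← even_iff_two_dvd,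
      Nat.not_even_iff_odd]
    exact P.odd
  have hpg : IsPGroup 2 ↥(P.S.subgroupOf Q) := P.isTwo.of_equiv (Subgroup.subgroupOfEquivOfLe P.S_le).symm
  set T := hpg.toSylow hSyl
  have hT : (T : Subgroup ↥Q) = P.S.subgroupOf Q := rfl
  rcases Cfsg.Agent.S1132.result hS h2 T with hc | hs
  · refine absurd (fun x hx y hy => ?_) hab
    have h1 := hc.is_comm.comm (⟨⟨x, P.S_le hx⟩, by rw [hT, Subgroup.mem_subgroupOf]; exact hx⟩ : (T : Subgroup ↥Q))
      ⟨⟨y, P.S_le hy⟩, by rw [hT, Subgroup.mem_subgroupOf]; exact hy⟩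
    exact congrArg Subtype.val (congrArg Subtype.val h1)
  obtain ⟨hsq, hcm, hcard, hexp⟩ := Cfsg.Agent.S1138.result hs
  let ι : ↥(T : Subgroup ↥Q) → G := fun x => ((x : ↥Q) : G)
  have hι : ∀ x ∈ P.S, ∃ x' : ↥(T : Subgroup ↥Q), ι x' = x := fun x hx =>
    ⟨⟨⟨x, P.S_le hx⟩, by rw [hT, Subgroup.mem_subgroupOf]; exact hx⟩, rfl⟩
  have hsqJ : ∀ x ∈ P.S, x * x ∈ involutionGroup hS h2 := fun x hx => by
    obtain ⟨x', rfl⟩ := hι x hx
    have h4 := Monoid.pow_exponent_eq_one x'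
    rw [hexp] at h4
    refine eq_one_or_J hS (mul_mem (P.S_le hx) (P.S_le hx)) ?_
    have h5 : (ι x') ^ 4 = 1 := congrArg (fun z => ((z : ↥Q) : G)) (congrArg Subtype.val h4)
    rw [← h5, pow_succ, pow_succ, pow_succ, pow_one]
    group
  -- a central element of the two-part lies in the group of involutions
  have hcenter : ∀ z ∈ P.S, (∀ x ∈ P.S, x * z = z * x) → z ∈ involutionGroup hS h2 := by
    intro z hz hzc
    refine eq_one_or_J hS (P.S_le hz) ?_
    by_contra hzz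
    have hzJ : z * z ∈ 𝔍 := (hsqJ z hz).resolve_left hzz
    refine hab fun x hx y hy => ?_
    have hmemc : ∀ u ∈ P.S, ∀ w ∈ P.S, u * w = w * u := fun u hu => by
      intro w hw
      rcases hsqJ u hu with h1 | h1
      · rcases eq_one_or_J hS (P.S_le hu) h1 with rfl | huJ
        · rw [one_mul, mul_one]
        · exact J_central hS h2 huJ (P.S_le hw)
      · obtain ⟨k, ⟨hk, he⟩, -⟩ := exists_unique_K hS hzJ h1
        have hdQ : ∀ y ∈ Q, k⁻¹ * y * (k⁻¹)⁻¹ ∈ Q := fun y hy => Q_conj hS (inv_mem hk.1) hy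
        have hdQ' : ∀ y ∈ Q, k * y * k⁻¹ ∈ Q := fun y hy => Q_conj hS hk.1 hy
        set z' := k⁻¹ * z * k with hz'
        have hz'S : z' ∈ P.S := by
          have := P.conj_S hdQ hz
          rwa [inv_inv] at this
        have hz'c : ∀ x ∈ P.S, x * z' = z' * x := fun x hx => by
          have h3 := hzc _ (P.conj_S hdQ' hx)
          calc x * z' = k⁻¹ * ((k * x * k⁻¹) * z) * k := by rw [hz']; group
            _ = k⁻¹ * (z * (k * x * k⁻¹)) * k := by rw [h3]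
            _ = z' * x := by rw [hz']; group
        have he' : z' * z' = u * u := by
          rw [← he, hz']
          group
        have hinv : (u * z'⁻¹) * (u * z'⁻¹) = 1 := by
          have hcz : Commute u z'⁻¹ := (Commute.inv_right (hz'c u hu))
          rw [mul_assoc u, ← mul_assoc z'⁻¹ u, ← hcz.eq, mul_assoc u, ← mul_assoc u u, ← he']
          group
        rcases eq_one_or_J hS (P.S_le (mul_mem hu (inv_mem hz'S))) hinv with h3 | h3
        · rw [mul_inv_eq_one.1 h3]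
          exact (hz'c w hw).symm
        · have h4 := J_central hS h2 h3 (P.S_le hw)
          calc u * w = u * z'⁻¹ * (z' * w) := by group
            _ = u * z'⁻¹ * (w * z') := by rw [hz'c w hw]
            _ = (u * z'⁻¹ * w) * z' := by group
            _ = (w * (u * z'⁻¹)) * z' := by rw [h4]
            _ = w * u := by group
    exact hmemc x hx y hy
  refine ⟨hsqJ, fun x hx y hy => ?_, ?_⟩
  · obtain ⟨x', rfl⟩ := hι x hx
    obtain ⟨y', rfl⟩ := hι y hy
    have h := Subgroup.mem_center_iff.1 (hcm x' y')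
    refine hcenter _ (mul_mem (mul_mem (mul_mem (inv_mem hx) (inv_mem hy)) hx) hy) fun u hu => ?_
    obtain ⟨u', rfl⟩ := hι u hu
    exact congrArg (fun z => ((z : ↥Q) : G)) (congrArg Subtype.val (h u'))
  · have hc1 : Nat.card (Subgroup.center ↥(T : Subgroup ↥Q)) = qq G a := by
      rw [← card_ZJ hS h2]
      refine Nat.card_eq_of_bijective (fun z => ⟨ι z.1, ?_⟩) ⟨fun z z' h => ?_, fun z => ?_⟩
      · have hzS : ι z.1 ∈ P.S := Subgroup.mem_subgroupOf.1 (hT ▸ z.1.2)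
        refine hcenter _ hzS fun u hu => ?_
        obtain ⟨u', rfl⟩ := hι u hu
        exact congrArg (fun z => ((z : ↥Q) : G)) (congrArg Subtype.val (Subgroup.mem_center_iff.1 z.2 u'))
      · exact Subtype.ext (Subtype.ext (Subtype.ext (congrArg Subtype.val h :)))
      · obtain ⟨z', hz'⟩ := hι z (P.ZJ_le hS h2 z.2)
        refine ⟨⟨z', Subgroup.mem_center_iff.2 fun u => Subtype.ext (Subtype.ext ?_)⟩, Subtype.ext hz'⟩
        show ι u * ι z' = ι z' * ι u
        rw [hz']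
        rcases z.2 with h | h
        · rw [h, mul_one, one_mul]
        · exact (J_central hS h2 h (u : ↥Q).2).symm
    have hcT : Nat.card ↥(T : Subgroup ↥Q) = Nat.card P.S := by
      rw [hT]; exact Nat.card_congr (Subgroup.subgroupOfEquivOfLe P.S_le).toEquiv
    rwa [hcT, hc1] at hcard

omit h2 in
/-- Centralisers in `Q` are preserved under conjugation inside `D`. -/
theorem exists_commute_in_V {d y : G} (hd : d ∈ 𝔇) (hy : y ∈ Q) (hy1 : y ≠ 1) (hc : d * y = y * d) :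
    ∃ k ∈ 𝔇, k * d * k⁻¹ ∈ Vg a t ∧ k * y * k⁻¹ ∈ Q ∧
      (k * d * k⁻¹) * (k * y * k⁻¹) = (k * y * k⁻¹) * (k * d * k⁻¹) := by
  obtain ⟨k, hk, hv⟩ := conj_mem_Vg hS hd hy hy1 hc
  refine ⟨k, hk, hv, Q_conj hS hk hy, ?_⟩
  calc k * d * k⁻¹ * (k * y * k⁻¹) = k * (d * y) * k⁻¹ := by group
    _ = k * (y * d) * k⁻¹ := by rw [hc]
    _ = _ := by group

variable (hCS : CentShape a t Q)
include hCS

omit h2 in
theorem exists_pow_qx {x : G} (hx : x ∈ Vg a t) (hx1 : x ≠ 1) (hq : 4 ≤ qx a x) :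
    ∃ i, Nat.card ↥(Q ⊓ Subgroup.centralizer ({x} : Set G)) = qx a x ^ i := by
  rcases hCS x hx hx1 hq with h | ⟨-, h | ⟨h, -⟩⟩
  · exact ⟨1, by rw [pow_one, h]⟩
  · exact ⟨2, h⟩
  · exact ⟨3, h⟩

variable {F : Type} [Field F] [Fintype F] (C : Coord a t F)
include C

/-- An element of `V` with `q_x ≥ 4` centralises no element of odd order of `Q`. -/
theorem not_commute_odd {x y : G} (hx : x ∈ Vg a t) (hx1 : x ≠ 1) (hq : 4 ≤ qx a x) (hy : y ∈ Q)
    (hyo : Odd (orderOf y)) (hc : x * y = y * x) : y = 1 := by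
  obtain ⟨i, hi⟩ := exists_pow_qx hS hCS hx hx1 hq
  obtain ⟨m, -, hm⟩ := C.qx_pow_two hS h2 hx
  have hd : orderOf y ∣ 2 ^ (m * i) := by
    rw [pow_mul, ← hm, ← hi]
    exact Subgroup.orderOf_dvd_natCard _
      (Subgroup.mem_inf.2 ⟨hy, Subgroup.mem_centralizer_singleton_iff.2 hc.symm⟩)
  rw [← orderOf_eq_one_iff]
  exact Nat.eq_one_of_dvd_coprimes (Nat.Coprime.pow_left _ hyo.coprime_two_left) hd dvd_rfl

variable (hN : NoExt t Q)
include hN

/-- The orders of `D` and `Q` are coprime. -/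
theorem coprime_D_Q : (Nat.card 𝔇).Coprime (Nat.card Q) := by
  classical
  refine Nat.coprime_of_dvd fun p hp hpD hpQ => ?_
  haveI := Fact.mk hp
  have hp2 : p ≠ 2 := fun h => (Nat.not_even_iff_odd.2 hS.odd_card) (even_iff_two_dvd.2 (h ▸ hpD))
  rw [card_D hS] at hpD
  rcases hp.dvd_mul.1 hpD with hV | hK
  · obtain ⟨⟨v, hv⟩, hvo⟩ := exists_prime_orderOf_dvd_card' p hV
    rw [Subgroup.orderOf_mk] at hvo
    have hv1 : v ≠ 1 := fun h => by rw [h, orderOf_one] at hvo; exact hp.ne_one hvo.symm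
    by_cases hw : v ∈ Wg a t
    · obtain ⟨n, hn, hq⟩ := exists_pow_two hS h2
      have hq4 : 4 ≤ qx a v := by
        rw [qx_of_Wg hS h2 hw, hq]
        exact le_trans (by norm_num) (Nat.pow_le_pow_right (by norm_num) hn)
      obtain ⟨i, hi⟩ := exists_pow_qx hS hCS hv hv1 hq4
      have h := card_centralized_modEq hp hvo (Q := Q) fun y hy => Q_conj hS (mem_Vg.1 hv).1 hy
      rw [hi, qx_of_Wg hS h2 hw, hq, ← pow_mul] at h
      have h0 : p ∣ 2 ^ (n * i) := (Nat.ModEq.dvd_iff h dvd_rfl).2 hpQ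
      exact hp2 ((Nat.prime_dvd_prime_iff_eq hp Nat.prime_two).1 (hp.dvd_of_dvd_pow h0))
    · have hne : C.autV hv ≠ 1 := fun h => hw ((C.aut_Vg_eq_one hS hv).1 h)
      have h1 := C.aut_pow_degree hS h2 hN hv
      have h3 : orderOf (C.autV hv) ∣ p := by
        refine hvo ▸ ?_
        rw [← Subgroup.orderOf_mk v (Subgroup.mem_inf.1 (mem_Vg.1 hv).1).1]
        exact orderOf_map_dvd C.aut _
      rcases (Nat.dvd_prime hp).1 h3 with h4 | h4
      · exact hne (orderOf_eq_one_iff.1 h4)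
      · have h5 : p ∣ Nat.card Q + 1 := h4 ▸ orderOf_dvd_of_pow_eq_one h1
        exact hp.ne_one (Nat.dvd_one.1 ((Nat.dvd_add_right hpQ).1 h5))
  · obtain ⟨K, hK', -, -⟩ := exists_cyclic hS h2
    have hcK : Nat.card K = Nat.card 𝔍 := by
      rw [← card_K hS]; exact Nat.card_congr (Equiv.setCongr hK')
    obtain ⟨⟨k, hk⟩, hko⟩ := exists_prime_orderOf_dvd_card' p (hcK ▸ hK)
    rw [Subgroup.orderOf_mk] at hko
    rw [← SetLike.mem_coe, hK'] at hk
    have hk1 : k ≠ 1 := fun h => by rw [h, orderOf_one] at hko; exact hp.ne_one hko.symm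
    have h := card_centralized_modEq hp hko (Q := Q) fun y hy => Q_conj hS hk.1 hy
    rw [fixed_point_free hS hk hk1, Subgroup.card_bot] at h
    exact hp.ne_one (Nat.dvd_one.1 ((Nat.ModEq.dvd_iff h dvd_rfl).2 hpQ))

/-- An element of `D` of prime order centralising a nontrivial element of odd order of `Q`. -/
theorem of_commute_odd {d y : G} (hd : d ∈ 𝔇) {p : ℕ} (hp : p.Prime) (hdo : orderOf d = p)
    (hy : y ∈ Q) (hy1 : y ≠ 1) (hyo : Odd (orderOf y)) (hc : d * y = y * d) :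
    C.aut ⟨d, (Subgroup.mem_inf.1 hd).1⟩ ≠ 1 ∧ qq G a = 2 ^ p ∧ Nat.card C.aut.range = p ∧
      ∃ k ∈ 𝔇, k * d * k⁻¹ ∈ Vg a t ∧ qx a (k * d * k⁻¹) = 2 := by
  obtain ⟨k, hk, hv, hyQ, hcv⟩ := exists_commute_in_V hS hd hy hy1 hc
  have hvo : orderOf (k * d * k⁻¹) = p := by
    rw [← hdo]
    exact orderOf_injective (MulAut.conj k).toMonoidHom (MulEquiv.injective _) d
  have hv1 : k * d * k⁻¹ ≠ 1 := fun h => by rw [h, orderOf_one] at hvo; exact hp.ne_one hvo.symm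
  have hyo' : Odd (orderOf (k * y * k⁻¹)) := by
    rwa [show orderOf (k * y * k⁻¹) = orderOf y from
      orderOf_injective (MulAut.conj k).toMonoidHom (MulEquiv.injective _) y]
  obtain ⟨m, hm1, hm⟩ := C.qx_pow_two hS h2 hv
  have hq2 : qx a (k * d * k⁻¹) = 2 := by
    by_contra hne
    have h4 : 4 ≤ qx a (k * d * k⁻¹) := by
      rw [hm] at hne ⊢
      have : 2 ≤ m := by
        rcases Nat.lt_or_ge m 2 with h | h
        · exact absurd (by rw [show m = 1 by omega, pow_one]) hne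
        · exact h
      exact le_trans (by norm_num) (Nat.pow_le_pow_right (by norm_num) this)
    have h1 := not_commute_odd hS h2 hCS C hv hv1 h4 hyQ hyo' hcv
    exact hy1 (conj_eq_one_iff.1 h1)
  obtain ⟨ha, hq, hr⟩ := C.of_qx_two hS h2 hv hp hvo hq2
  refine ⟨fun h => ?_, hq, hr, k, hk, hv, hq2⟩
  have he : C.autV hv = C.aut ⟨d, (Subgroup.mem_inf.1 hd).1⟩ := by
    rw [Coord.autV, show (⟨k * d * k⁻¹, (Subgroup.mem_inf.1 (mem_Vg.1 hv).1).1⟩ : ↥(stabilizer G a)) =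
      (⟨k, (Subgroup.mem_inf.1 hk).1⟩ : ↥(stabilizer G a)) * ⟨d, (Subgroup.mem_inf.1 hd).1⟩ *
        (⟨k, (Subgroup.mem_inf.1 hk).1⟩ : ↥(stabilizer G a))⁻¹ from Subtype.ext rfl, map_mul, map_mul,
      map_inv, Coord.aut_comm (C.aut ⟨k, _⟩) (C.aut ⟨d, _⟩), mul_inv_cancel_right]
  rw [he, h, orderOf_one] at ha
  exact hp.ne_one ha.symm

end CfsgLib.Lie.RankOneClass
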