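import Cfsg.Agent.Lib.Lie.RankOneClass.Ident.Line
import Cfsg.Agent.Lib.Lie.RankOneClass.Ident.Setup
import Cfsg.Agent.Lib.Lie.RankOneClass.Struct
import Cfsg.Agent.Lib.Recog.PrimeGraph

/-!
Owner: helper5. When `N = q` the group generated by `Q` and `t` is `PSL₂(q)`.
-/

set_option autoImplicit false
set_option linter.unusedSectionVars false

namespace CfsgLib.Lie.RankOneClass

open MulAction CfsgLib.Lie.RankOne CfsgLib.OddTransitive.RankOne

variable {G Ω : Type*} [Group G] [MulAction G Ω] [Finite G] [FaithfulSMul G Ω] {a : Ω} {t : G}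
  {Q : Subgroup G}

local notation "𝔇" => ((stabilizer G a ⊓ stabilizer G (t • a)) : Subgroup G)
local notation "𝔎" => Cfsg.invertedBy (stabilizer G a ⊓ stabilizer G (t • a)) t
local notation "𝔍" => Cfsg.involutionsIn (stabilizer G a : Set G)

variable (hS : Cfsg.IsRankOneSetup G Ω a t Q)
  (h2 : ∃ x y : G, x ≠ 1 ∧ y ≠ 1 ∧ x ≠ y ∧ x * x = 1 ∧ y * y = 1 ∧ x * y = y * x)
include hS h2

/-- Coordinates in which `t` and the distinguished involution satisfy the relation of `SL₂`, when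
the element attached to the distinguished involution is an involution. -/
theorem exists_lineData_of_inv {F : Type} [Field F] [Fintype F] (hF : Nat.card F = qq G a)
    (hQJ : ∀ y ∈ Q, y = 1 ∨ y ∈ 𝔍) : Nonempty (Ident.LineData G Ω a t Q F) := by
  obtain ⟨C0⟩ := exists_coord hS h2 F hF
  obtain ⟨s, r, hs, hr, he, hv⟩ := exists_s0 hS
  have hrJ : r ∈ 𝔍 := (hQJ r hr).resolve_left (by
    rintro rfl
    rw [inv_one, one_mul, mul_one] at he
    have hts : t * s = 1 := mul_right_cancel (b := t) (by rw [he, one_mul])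
    exact hS.not_mem (by
      show t ∈ stabilizer G a
      rw [eq_inv_of_mul_eq_one_left hts]; exact inv_mem hs.1))
  obtain ⟨C, hC1⟩ := Ident.exists_rescale C0 hs hv
  obtain ⟨ρ, hρ⟩ := C.z_surj r hrJ
  have hρ0 : ρ ≠ 0 := by
    rintro rfl
    exact hrJ.2.1 (hρ.symm.trans C.z_zero)
  rw [← hC1, inv_eq_of_mul_eq_one_right hrJ.2.2, ← hρ] at he
  suffices h1 : ρ = 1 by
    subst h1
    exact ⟨⟨hS, h2, C, he⟩⟩
  set k := C.k (Units.mk0 ρ hρ0) with hk
  have hkK := C.k_mem (Units.mk0 ρ hρ0)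
  have htk : ∀ g, g ∈ 𝔎 → t * g = g⁻¹ * t := fun g hg => by
    rw [← t_conj_inv hS hg, mul_assoc, hS.mul_self, mul_one]
  have hkz : ∀ x : F, k * C.z x = C.z (ρ * x) * k := fun x => by
    rw [show ρ * x = (Units.mk0 ρ hρ0 : F) * x from rfl, ← C.k_conj, inv_mul_cancel_right]
  have hzz : C.z ρ * C.z ρ = 1 := by rw [hρ]; exact hrJ.2.2
  have hkk : k * k ∈ 𝔎 := by
    rw [hk, ← C.k_mul]; exact C.k_mem _
  have hkt : k⁻¹ * t = t * k := (htk k hkK).symm
  have hzk : C.z ρ * k = k * C.z 1 := by rw [hkz, mul_one]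
  have h1' : k⁻¹ * C.z ρ = C.z 1 * k⁻¹ := by
    calc k⁻¹ * C.z ρ = k⁻¹ * (C.z ρ * k) * k⁻¹ := by group
      _ = _ := by rw [hzk]; group
  have e1 : t * C.z ρ * t = C.z ρ * 1 * t * C.z 1 := by
    calc t * C.z ρ * t = C.z ρ * (C.z ρ * t * C.z ρ) * t := by
          rw [← mul_assoc, ← mul_assoc, hzz, one_mul]
      _ = C.z ρ * t * C.z 1 * (t * t) := by rw [← he]; group
      _ = C.z ρ * 1 * t * C.z 1 := by rw [hS.mul_self, mul_one, mul_one]
  have e2 : t * C.z ρ * t = C.z 1 * (k * k)⁻¹ * t * C.z 1 := by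
    have hl : k⁻¹ * (t * C.z 1 * t) * k = t * C.z ρ * t := by
      calc k⁻¹ * (t * C.z 1 * t) * k = (k⁻¹ * t) * C.z 1 * (t * k) := by group
        _ = (t * k) * C.z 1 * (k⁻¹ * t) := by rw [hkt]
        _ = t * (k * C.z 1) * k⁻¹ * t := by group
        _ = t * C.z ρ * t := by rw [← hzk]; group
    rw [← hl, he]
    calc k⁻¹ * (C.z ρ * t * C.z ρ) * k = (k⁻¹ * C.z ρ) * t * (C.z ρ * k) := by group
      _ = C.z 1 * (k⁻¹ * t) * (k * C.z 1) := by rw [h1', hzk]; group
      _ = C.z 1 * (t * (k * k)) * C.z 1 := by rw [hkt]; group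
      _ = _ := by rw [htk _ hkk]; group
  have h := triple_unique hS (C.z_mem_Q hS ρ) (C.z_mem_Q hS 1) (one_mem _) (inv_mem hkk.1)
    (C.z_mem_Q hS 1) (C.z_mem_Q hS 1) (e1.symm.trans e2)
  exact C.z_inj h.1

/-- The case `N = q`. -/
theorem exists_psl_of_card_eq (hN : Nat.card Q = qq G a) :
    ∃ (F : Type) (_ : Field F) (_ : Fintype F), (∃ n : ℕ, 2 ≤ n ∧ Fintype.card F = 2 ^ n) ∧
      Nonempty (↥(Subgroup.closure ((Q : Set G) ∪ {t})) ≃*
        Matrix.ProjectiveSpecialLinearGroup (Fin 2) F) := by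
  haveI : Fact (Nat.Prime 2) := ⟨Nat.prime_two⟩
  obtain ⟨n, hn, hqn⟩ := exists_pow_two hS h2
  haveI : Fintype (GaloisField 2 n) := Fintype.ofFinite _
  have hF : Nat.card (GaloisField 2 n) = qq G a := by rw [GaloisField.card 2 n (by omega), hqn]
  have hle : involutionGroup hS h2 ≤ Q := by
    rintro x (rfl | hx)
    · exact one_mem _
    · exact J_mem_Q hS hx
  have hQeq := Subgroup.eq_of_le_of_card_ge hle (by rw [card_ZJ hS h2, hN])
  obtain ⟨D⟩ := exists_lineData_of_inv hS h2 (F := GaloisField 2 n) hF fun y hy => by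
    rw [← hQeq] at hy; exact hy
  have hgen : Set.range D.C.z = (Q : Set G) := by
    refine Set.Subset.antisymm (by rintro _ ⟨x, rfl⟩; exact D.C.z_mem_Q hS x) fun y hy => ?_
    rw [← hQeq] at hy
    rcases hy with h | h
    · exact ⟨0, by rw [D.C.z_zero, h]⟩
    · exact D.C.z_surj y h
  have hlg : D.lineGroup = Subgroup.closure ((Q : Set G) ∪ {t}) := by
    rw [Ident.LineData.lineGroup, hgen]
  haveI : CharP (GaloisField 2 n) 2 := D.C.charTwo
  obtain ⟨e⟩ := CfsgLib.Recog.AffineTwo.psl_equiv_sl (GaloisField 2 n)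
  refine ⟨GaloisField 2 n, inferInstance, inferInstance, ⟨n, hn, ?_⟩,
    ⟨((e.trans (MonoidHom.ofInjective D.hom_injective)).trans
      (MulEquiv.subgroupCongr (D.hom_range.trans hlg))).symm⟩⟩
  rw [← Nat.card_eq_fintype_card, GaloisField.card 2 n (by omega)]

end CfsgLib.Lie.RankOneClass
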