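import Cfsg.Agent.Lib.Lie.RankOneClass.Exc

/-!
Owner: helper5. With a nontrivial `V`, the order of `Q` is not the square of `q`.
-/

set_option autoImplicit false
set_option linter.unusedSectionVars false

namespace CfsgLib.Lie.RankOneClass

open MulAction CfsgLib.Lie.RankOne CfsgLib.Char CfsgLib.OddTransitive.RankOne
open scoped ComplexConjugate

variable {G Ω : Type*} [Group G] [MulAction G Ω] [Fintype G] [FaithfulSMul G Ω] {a : Ω} {t : G}
  {Q : Subgroup G} {F : Type} [Field F] [Fintype F] {C : Coord a t F}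

local notation "𝔇" => ((stabilizer G a ⊓ stabilizer G (t • a)) : Subgroup G)
local notation "𝔎" => Cfsg.invertedBy (stabilizer G a ⊓ stabilizer G (t • a)) t
local notation "𝔍" => Cfsg.involutionsIn (stabilizer G a : Set G)

variable (hS : Cfsg.IsRankOneSetup G Ω a t Q)
  (h2 : ∃ x y : G, x ≠ 1 ∧ y ≠ 1 ∧ x ≠ y ∧ x * x = 1 ∧ y * y = 1 ∧ x * y = y * x)
  {P : QDec Q}
include hS h2

/-- The inverted elements are transitive on the nontrivial linear characters. -/
theorem exists_K_lin (Rl : Rel C P) (hR : Rl.R = involutionGroup hS h2)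
    (hSq : Nat.card P.S = qq G a ^ 2) {γ γ' : ↥Rl.lin} (hγ : γ ≠ 1) (hγ' : γ' ≠ 1) :
    ∃ k : 𝔇, (γ.1).comp (conjS hS P k) = γ'.1 := by
  classical
  haveI : Finite 𝔎 := Subtype.finite
  haveI := Fintype.ofFinite 𝔎
  have hq : 0 < qq G a := Nat.succ_pos _
  have hlin : Nat.card Rl.lin = qq G a := by
    have h := Rl.card_lin
    rw [hR, card_ZJ hS h2, hSq, pow_two] at h
    exact Nat.eq_of_mul_eq_mul_right hq h
  haveI : Finite Rl.lin := Nat.finite_of_card_ne_zero (by omega)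
  haveI := Fintype.ofFinite Rl.lin
  let g : 𝔎 → ↥Rl.lin := fun k => ⟨_, Rl.comp_mem hS ⟨k, k.2.1⟩ γ.2⟩
  have hcomp : ∀ d e : 𝔇, (conjS hS P d).comp (conjS hS P e) = conjS hS P (e * d) := fun d e =>
    MonoidHom.ext fun s => Subtype.ext
      (show (d : G)⁻¹ * ((e : G)⁻¹ * s * e) * d = ((e * d : 𝔇) : G)⁻¹ * s * (e * d : 𝔇) by
        rw [Subgroup.coe_mul]; group)
  have hone : conjS hS P 1 = MonoidHom.id P.S := MonoidHom.ext fun s => Subtype.ext
    (show ((1 : 𝔇) : G)⁻¹ * s * (1 : 𝔇) = s by simp)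
  obtain ⟨K, hK, -, -⟩ := exists_cyclic hS h2
  have hm : ∀ x : G, x ∈ K ↔ x ∈ 𝔎 := fun x => Set.ext_iff.1 hK x
  have hne1 : γ.1 ≠ 1 := fun h => hγ (Subtype.ext h)
  have hg : Function.Injective g := fun k k' h => by
    have h1 : γ.1.comp (conjS hS P ⟨k, k.2.1⟩) = γ.1.comp (conjS hS P ⟨k', k'.2.1⟩) := congrArg Subtype.val h
    set d : 𝔇 := ⟨k, k.2.1⟩ with hd
    set d' : 𝔇 := ⟨k', k'.2.1⟩ with hd'
    have h2' : γ.1.comp (conjS hS P (d'⁻¹ * d)) = γ.1 := by
      have h4 : γ.1.comp ((conjS hS P d).comp (conjS hS P d'⁻¹)) = γ.1 := by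
        rw [← MonoidHom.comp_assoc, h1, MonoidHom.comp_assoc, hcomp, inv_mul_cancel, hone, MonoidHom.comp_id]
      rwa [hcomp] at h4
    have hkK : ((d'⁻¹ * d : 𝔇) : G) ∈ 𝔎 :=
      (hm _).1 (mul_mem (inv_mem ((hm _).2 k'.2)) ((hm _).2 k.2))
    have h3 := K_eq_one_of_fix hS hkK h2' hne1
    rw [inv_mul_eq_one] at h3
    exact (Subtype.ext (congrArg (fun z : 𝔇 => (z : G)) h3) : k' = k).symm
  have himg : Finset.univ.image g = Finset.univ.erase (1 : ↥Rl.lin) := by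
    refine Finset.eq_of_subset_of_card_le (fun x hx => ?_) ?_
    · obtain ⟨k, -, rfl⟩ := Finset.mem_image.1 hx
      refine Finset.mem_erase.2 ⟨fun h => hne1 ?_, Finset.mem_univ _⟩
      have h1 : γ.1.comp (conjS hS P ⟨k, k.2.1⟩) = 1 := congrArg Subtype.val h
      refine MonoidHom.ext fun s => ?_
      obtain ⟨y, rfl⟩ := conjS_surjective hS (P := P) ⟨k, k.2.1⟩ s
      exact DFunLike.congr_fun h1 y
    · rw [Finset.card_image_of_injective _ hg, Finset.card_univ, ← Nat.card_eq_fintype_card (α := 𝔎),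
        card_K hS, Finset.card_erase_of_mem (Finset.mem_univ _), Finset.card_univ,
        ← Nat.card_eq_fintype_card, hlin]
      have : qq G a = Nat.card 𝔍 + 1 := rfl
      omega
  obtain ⟨k, -, hk⟩ := Finset.mem_image.1
    (himg ▸ Finset.mem_erase.2 ⟨hγ', Finset.mem_univ γ'⟩ : γ' ∈ Finset.univ.image g)
  exact ⟨⟨k, k.2.1⟩, congrArg Subtype.val hk⟩

variable [Fintype ↥Q] [Fintype P.S] [Fintype P.O] (Sp : Split C Q) (hN : NoExt t Q) (hCS : CentShape a t Q)
include hN hCS Sp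

/-- A nonabelian two-part has order `q ^ 3`. -/
theorem card_S_ne_sq (hna : ¬ ∀ x ∈ P.S, ∀ y ∈ P.S, x * y = y * x) :
    Nat.card P.S ≠ qq G a ^ 2 := by
  classical
  intro hSq
  haveI := Fintype.ofFinite (Cfsg.IrrCharacter P.S)
  haveI := Fintype.ofFinite (Cfsg.IrrCharacter P.O)
  obtain ⟨Rl, hR⟩ := exists_rel_of_nonabelian (C := C) hS h2 hna
  haveI : Finite ↥Rl.lin := Nat.finite_of_card_ne_zero fun h => by
    have h' := Rl.card_lin
    rw [h, zero_mul] at h'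
    exact Nat.card_pos.ne' h'.symm
  haveI := Fintype.ofFinite ↥Rl.lin
  have hO := card_O_eq_one hS h2 Sp Rl hN hCS (Or.inl hSq)
  set q := qq G a with hq
  obtain ⟨n, hn, hqn⟩ := exists_pow_two hS h2
  have hq4 : 4 ≤ q := by rw [hq, hqn]; exact le_trans (by norm_num) (Nat.pow_le_pow_right (by norm_num) hn)
  have hqeven : Even q := by rw [hq, hqn]; exact (Nat.even_pow).2 ⟨even_two, by omega⟩
  have hlin : Nat.card Rl.lin = q := by
    have h := Rl.card_lin
    rw [hR, card_ZJ hS h2, hSq, pow_two] at h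
    exact Nat.eq_of_mul_eq_mul_right (by omega) h
  -- a nontrivial linear character
  obtain ⟨γ₀, hγ₀⟩ : ∃ γ : ↥Rl.lin, γ ≠ 1 := by
    haveI : Nontrivial Rl.lin := Finite.one_lt_card_iff_nontrivial.1 (by omega)
    exact exists_ne 1
  set m : Split C Q → ↥Rl.lin → ℕ := fun S' γ => S'.mult (P.irrPr (Rel.linIrr γ.1) (trivChar P.O)) with hm
  have htriv : P.irrPr (Rel.linIrr (1 : P.S →* ℂˣ)) (trivChar P.O) = trivChar Q :=
    Subtype.ext (funext fun y => by
      show ((1 : ℂˣ) : ℂ) * 1 = 1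
      rw [Units.val_one, one_mul])
  have hm1 : m Sp 1 + m Sp.swap 1 = 2 := by
    have h := Sp.mult_add_swap_triv
    rw [← htriv] at h
    exact_mod_cast h
  have hm0 : m Sp γ₀ + m Sp.swap γ₀ = 1 := by
    have h := Sp.mult_add_swap (θ := P.irrPr (Rel.linIrr γ₀.1) (trivChar P.O)) fun h => hγ₀
      (Subtype.ext (Rel.linIrr_injective (P.irrPr_inj (h.trans htriv.symm)).1))
    rw [deg_irrPr, deg_linIrr, trivChar_apply, one_mul] at h
    exact_mod_cast h
  have hconst : ∀ S' : Split C Q, ∀ γ : ↥Rl.lin, γ ≠ 1 → m S' γ = m S' γ₀ := fun S' γ hγ => by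
    obtain ⟨k, hk⟩ := exists_K_lin hS h2 Rl hR hSq hγ₀ hγ
    have htw : P.irrPr (Rel.linIrr γ.1) (trivChar P.O) =
        twI hS k (P.irrPr (Rel.linIrr γ₀.1) (trivChar P.O)) := by
      rw [twI_irrPr, Rel.twS_linIrr hS, hk]
      exact congrArg (P.irrPr _) (Subtype.ext rfl)
    show S'.mult _ = S'.mult _
    rw [htw, S'.mult_twI]
  suffices main : ∀ S' : Split C Q, m S' γ₀ = 0 → m S' 1 ≤ 2 → False by
    rcases (show m Sp γ₀ = 0 ∨ m Sp.swap γ₀ = 0 by omega) with h | h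
    · exact main Sp h (by omega)
    · exact main Sp.swap h (by omega)
  intro S' h0 h12
  obtain ⟨c, hc⟩ := S'.exists_c hS
  obtain ⟨c', hc'⟩ := S'.swap.exists_c hS
  have hcc := S'.c_add_swap hS hc hc'
  obtain ⟨d, hd⟩ : ∃ d : ℕ, (S'.χ : G → ℂ) 1 = d := IsChar.exists_degree (IsIrr.isCharacter S'.χ.2)
  obtain ⟨d', hd'⟩ : ∃ d : ℕ, (S'.swap.χ : G → ℂ) 1 = d :=
    IsChar.exists_degree (IsIrr.isCharacter S'.swap.χ.2)
  obtain ⟨heq, hM, hd2, hd2'⟩ := S'.eqn_real hS hc hc' hd hd'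
  have hOne : Finset.univ.erase (trivChar P.O) = (∅ : Finset (Cfsg.IrrCharacter P.O)) := by
    rw [← Finset.card_eq_zero, Finset.card_erase_of_mem (Finset.mem_univ _), Finset.card_univ]
    have h1 : Fintype.card (Cfsg.IrrCharacter P.O) ≤ 1 := by
      rw [← Nat.card_eq_fintype_card, card_irrCharacter]
      exact (Nat.card_le_card_of_surjective _ ConjClasses.mk_surjective).trans hO.le
    omega
  have hψ : S'.psi (P := P) 1 = (d : ℂ) := by
    have h := S'.value_one hS h2 Rl hN hCS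
    rw [hd, hOne, Finset.sum_empty, mul_zero, add_zero] at h
    exact h.symm
  have hlsum := S'.lin_sum hS h2 Rl hN hCS hR hc hψ
  have hsum : (∑ γ : Rl.lin, (m S' γ : ℤ)) = (m S' 1 : ℤ) := by
    rw [Finset.sum_eq_single (1 : ↥Rl.lin) (fun γ _ hγ => by rw [hconst S' γ hγ, h0, Nat.cast_zero])
      fun h => absurd (Finset.mem_univ _) h]
  change (d : ℤ) + ((q : ℤ) - 1) * c = (q : ℤ) * ∑ γ : Rl.lin, (m S' γ : ℤ) at hlsum
  rw [hsum] at hlsum
  have h1 : (d : ℝ) ≠ 0 := Nat.cast_ne_zero.2 (by omega)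
  have h1' : (d' : ℝ) ≠ 0 := Nat.cast_ne_zero.2 (by omega)
  field_simp at heq
  have hQ : Nat.card Q = q * q := by rw [P.card_eq, hSq, hO, mul_one, pow_two]
  have heqZ : c ^ 2 * d' + c' ^ 2 * d = (d : ℤ) * d' := by
    have : ((c ^ 2 * d' + c' ^ 2 * d : ℤ) : ℝ) = (((d : ℤ) * d' : ℤ) : ℝ) := by push_cast; linarith
    exact_mod_cast this
  set A : ℤ := (m S' 1 : ℤ) with hA
  have hdd : (d : ℤ) + d' = q * q + 1 := by exact_mod_cast (hQ ▸ hM)
  have hc'' : c' = 1 - c := by omega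
  have hdv : (d : ℤ) = q * A - ((q : ℤ) - 1) * c := by omega
  have hd'v : (d' : ℤ) = q * q + 1 - d := by omega
  have hquad : (q : ℤ) * q * (2 * c ^ 2 + c * ((q : ℤ) - 1 - 2 * A) + A * (A - q)) = 0 := by
    rw [hd'v, hdv, hc''] at heqZ
    linear_combination heqZ
  have hquad' : 2 * c ^ 2 + c * ((q : ℤ) - 1 - 2 * A) + A * (A - q) = 0 :=
    (mul_eq_zero.1 hquad).resolve_left (mul_ne_zero (by omega) (by omega))
  have hodd : ∀ e : ℤ, (q : ℤ) - 1 ≠ 2 * e := fun e he => by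
    obtain ⟨j, hj⟩ := hqeven
    omega
  rcases (show A = 0 ∨ A = 1 ∨ A = 2 by omega) with hA0 | hA0 | hA0 <;> rw [hA0] at hquad' hdv
  · have : c * (2 * c + (q : ℤ) - 1) = 0 := by linear_combination hquad'
    rcases mul_eq_zero.1 this with h | h
    · rw [h] at hdv; omega
    · exact hodd (-c) (by omega)
  · have : (c - 1) * (2 * c + (q : ℤ) - 1) = 0 := by linear_combination hquad'
    rcases mul_eq_zero.1 this with h | h
    · rw [show c = 1 by omega] at hdv; omega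
    · exact hodd (-c) (by omega)
  · have h : (c - 2) * (2 * c + (q : ℤ) - 1) = -2 := by linear_combination hquad'
    have hdvd : (c - 2) ∣ 2 := ⟨-(2 * c + (q : ℤ) - 1), by linear_combination h⟩
    have hle := Int.le_of_dvd (by norm_num) hdvd
    have hge := Int.le_of_dvd (by norm_num) (neg_dvd.2 hdvd)
    have hc4 : c ≤ 4 := by omega
    have hc0 : 0 ≤ c := by omega
    obtain ⟨j, hj⟩ := hqeven
    interval_cases c <;> omega

end CfsgLib.Lie.RankOneClass
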