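import Cfsg.Agent.Lib.Lie.RankOneClass.Struct
import Cfsg.Agent.Lib.CIT.SuzukiRecog.General
import Cfsg.Agent.Lib.Techniques.Involution
import Cfsg.Agent.Lib.Perm.ZassenhausNormal

/-!
Owner: helper5. A rank one setup with trivial `V`: `N = q`, or the group is a Suzuki group.
-/

set_option autoImplicit false
set_option linter.unusedSectionVars false

namespace CfsgLib.Lie.RankOneClass

open MulAction CfsgLib.Lie.RankOne CfsgLib.OddTransitive.RankOne

variable {G Ω : Type*} [Group G] [MulAction G Ω] [Finite G] [FaithfulSMul G Ω] {a : Ω} {t : G}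
  {Q : Subgroup G}

local notation "𝔇" => ((stabilizer G a ⊓ stabilizer G (t • a)) : Subgroup G)
local notation "𝔎" => Cfsg.invertedBy (stabilizer G a ⊓ stabilizer G (t • a)) t
local notation "𝔍" => Cfsg.involutionsIn (stabilizer G a : Set G)

variable (hS : Cfsg.IsRankOneSetup G Ω a t Q)
  (h2 : ∃ x y : G, x ≠ 1 ∧ y ≠ 1 ∧ x ≠ y ∧ x * x = 1 ∧ y * y = 1 ∧ x * y = y * x)
include hS h2

/-- With a trivial `V` the group is a Zassenhaus group. -/
theorem isZassenhaus_of_Vg_bot (hV : Vg a t = ⊥) : Cfsg.IsZassenhausGroup G Ω := by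
  have hDK : ∀ d ∈ 𝔇, d ∈ 𝔎 := fun d hd => by
    obtain ⟨v, hv, k, hk, rfl⟩ := exists_split hS hd
    rw [hV, Subgroup.mem_bot] at hv
    rwa [hv, one_mul]
  refine ⟨inferInstance, hS.two_transitive, ?_, ?_, ?_⟩
  · intro g p q r hpq hqr hpr hp hq hr
    obtain ⟨h, h1, h2'⟩ := pairs hS hpq (t_smul_ne hS).symm
    have e : ∀ c : Ω, g • c = c → (h * g * h⁻¹) • (h • c) = h • c := fun c hc => by
      rw [mul_smul, mul_smul, inv_smul_smul, hc]
    have hd : h * g * h⁻¹ ∈ 𝔇 := mem_D.2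
      ⟨by simpa [h1] using e p hp, by simpa [h2'] using e q hq⟩
    have h3 := eq_one_of_fix_three hS (hDK _ hd) (c := h • r)
      (fun he => hpr (smul_left_cancel h (h1.trans he.symm)))
      (fun he => hqr (smul_left_cancel h (h2'.trans he.symm))) (e r hr)
    exact conj_eq_one_iff.1 h3
  · obtain ⟨p, hp, k, hk, hko⟩ := exists_K_prime hS h2
    exact ⟨k, fun h => by rw [h, orderOf_one] at hko; exact hp.ne_one hko.symm, a, t • a,
      (t_smul_ne hS).symm, (mem_D.1 hk.1).1, (mem_D.1 hk.1).2⟩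
  · intro N hN htr
    refine ⟨a, fun hbot => ?_⟩
    haveI := hN
    obtain ⟨s, s', hs, hs', hne, -⟩ := exists_J_pair hS h2
    have hfpf : ∀ u ∈ 𝔍, ∀ n ∈ N, u * n * u⁻¹ = n → n = 1 := by
      intro u hu n hn hc
      have h1 : u • (n • a) = n • a := by
        rw [← mul_smul, mul_inv_eq_iff_eq_mul.1 hc, mul_smul, Q_fix hS (J_mem_Q hS hu)]
      have h3 := (fix_iff hS (J_mem_Q hS hu) hu.2.1).1 h1
      have hmem : (⟨n, hn⟩ : N) ∈ stabilizer N a := h3
      rw [hbot, Subgroup.mem_bot] at hmem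
      exact congrArg Subtype.val hmem
    have hinv : ∀ u ∈ 𝔍, ∀ n ∈ N, u * n * u⁻¹ = n⁻¹ := fun u hu =>
      fun n hn => CfsgLib.Techniques.conj_eq_inv_of_fixedPointFree hu.2.2 (by
        rw [eq_bot_iff]
        rintro m ⟨hm, hmc⟩
        refine Subgroup.mem_bot.2 (hfpf u hu m hm ?_)
        rw [← Subgroup.mem_centralizer_singleton_iff.1 hmc, mul_inv_cancel_right]) hn
    refine hne (inv_mul_eq_one.1 (?_ : s⁻¹ * s' = 1)).symm.symm
    refine FaithfulSMul.eq_of_smul_eq_smul (α := Ω) fun c => ?_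
    obtain ⟨⟨n, hn⟩, rfl⟩ := htr.exists_smul_eq a c
    rw [one_smul]
    show (s⁻¹ * s') • (n • a) = n • a
    have h1 : (s⁻¹ * s') * n = n * (s⁻¹ * s') := by
      have e1 := hinv s hs n hn
      have e2 := hinv s' hs' n hn
      have e3 : s * n * s⁻¹ = s' * n * s'⁻¹ := by rw [e1, e2]
      calc (s⁻¹ * s') * n = s⁻¹ * (s' * n * s'⁻¹) * s' := by group
        _ = n * (s⁻¹ * s') := by rw [← e3]; group
    rw [← mul_smul, h1, mul_smul, Q_fix hS (mul_mem (inv_mem (J_mem_Q hS hs)) (J_mem_Q hS hs'))]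

/-- The case of a trivial `V`. -/
theorem shape_of_Vg_bot (hV : Vg a t = ⊥) :
    Nat.card Q = qq G a ∨ (¬ (∀ x ∈ Q, ∀ y ∈ Q, x * y = y * x) ∧ Nat.card Q = qq G a ^ 2 ∧
      Cfsg.Lie.IsoSuzuki G) := by
  classical
  haveI := Fintype.ofFinite G
  obtain ⟨_, hΩ⟩ := card_points hS
  haveI := Fintype.ofFinite Ω
  rw [Nat.card_eq_fintype_card] at hΩ
  have hZ := isZassenhaus_of_Vg_bot hS h2 hV
  have hodd : Odd (Fintype.card Ω) := by rw [hΩ]; exact hS.even_card.add_one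
  haveI : IsSimpleGroup G := CfsgLib.Perm.zass_odd_degree_simple hZ hodd
  have hab := (t_smul_ne hS).symm
  have hd : Nat.card 𝔇 = Nat.card 𝔍 := by rw [card_D hS, hV, Subgroup.card_bot, one_mul]
  have hq : qq G a = Nat.card 𝔍 + 1 := rfl
  have hQfix : ∀ u ∈ Q, u ≠ 1 → ∀ c : Ω, u • c = c → c = a := fun u hu hu1 c hc =>
    (fix_iff hS hu hu1).1 hc
  rcases CfsgLib.Perm.zass_kernel_bound hZ hab hS.odd_card hS.le hΩ.symm hQfix with hsmall | ⟨hp2, hna, -⟩
  · refine Or.inl ?_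
    obtain ⟨k, hk⟩ := CfsgLib.Perm.zass_card_two_stab_dvd hZ hab
    have hpos : 0 < Nat.card 𝔇 := Nat.card_pos
    have hQ2 : 2 ≤ Nat.card Q := by
      obtain ⟨j, hj⟩ := hS.even_card
      have := Nat.card_pos (α := Q)
      omega
    obtain ⟨j, hj⟩ := hS.even_card
    rcases k with _ | _ | _ | k
    · omega
    · omega
    · omega
    · have h' : Nat.card 𝔇 * 3 ≤ Nat.card 𝔇 * (k + 1 + 1 + 1) := Nat.mul_le_mul_left _ (by omega)
      omega
  · obtain ⟨m, K⟩ := CfsgLib.PGroups.SuzukiZass.exists_kern_of_two hZ hab hS.le hΩ.symm hQfix hp2 hna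
    obtain ⟨u, v, huv⟩ := hna
    refine Or.inr ⟨fun h => huv (Subtype.ext (h u u.2 v v.2)), ?_,
      CfsgLib.CIT.SuzukiRecog.isoSuzuki_of_kern K⟩
    have h1 := K.card_two_stab
    rw [K.card_sq, hq, ← h1, hd]

end CfsgLib.Lie.RankOneClass
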