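import Cfsg.Agent.Lib.Lie.RankOneClass.Abelian
import Cfsg.Agent.Lib.Lie.RankOneClass.Square
import Cfsg.Agent.Lib.Lie.RankOneClass.Cube
import Cfsg.Agent.Lib.Lie.RankOneClass.Zass
import Cfsg.Agent.Lib.Lie.RankOneClass.Linear
import Cfsg.Agent.Lib.Lie.RankOneClass.CentSetup

/-!
Owner: helper5. The shape of a rank one setup, by induction on the order of the group.
-/

set_option autoImplicit false
set_option linter.unusedSectionVars false

namespace CfsgLib.Lie.RankOneClass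

open MulAction CfsgLib.Lie.RankOne CfsgLib.OddTransitive.RankOne

section NoExtension

variable {G Ω : Type*} [Group G] [MulAction G Ω] [Finite G] [FaithfulSMul G Ω] {a : Ω} {t : G}
  {Q : Subgroup G}

local notation "𝔇" => ((stabilizer G a ⊓ stabilizer G (t • a)) : Subgroup G)
local notation "𝔍" => Cfsg.involutionsIn (stabilizer G a : Set G)

variable (hS : Cfsg.IsRankOneSetup G Ω a t Q)
  (h2 : ∃ x y : G, x ≠ 1 ∧ y ≠ 1 ∧ x ≠ y ∧ x * x = 1 ∧ y * y = 1 ∧ x * y = y * x)

include hS h2 in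
/-- The three cases for a setup without proper extensions, given the centralisers. -/
theorem trichotomy (hN : NoExt t Q) (hCS : CentShape a t Q) :
    Nat.card Q = qq G a ∨
      (¬ (∀ x ∈ Q, ∀ y ∈ Q, x * y = y * x) ∧ Nat.card Q = qq G a ^ 2 ∧ Cfsg.Lie.IsoSuzuki G) ∨
      (¬ (∀ x ∈ Q, ∀ y ∈ Q, x * y = y * x) ∧ Nat.card Q = qq G a ^ 3 ∧
        (∃ w ∈ Wg a t, w ≠ 1) ∧
        ∀ w ∈ Wg a t, w ≠ 1 → ∀ y ∈ Q, w * y = y * w → y = 1 ∨ y ∈ 𝔍) := by
  classical
  by_cases hV : Vg a t = ⊥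
  · exact (shape_of_Vg_bot hS h2 hV).imp_right Or.inl
  haveI : Fact (Nat.Prime 2) := ⟨Nat.prime_two⟩
  obtain ⟨n, hn, hqn⟩ := exists_pow_two hS h2
  haveI : Fintype (GaloisField 2 n) := Fintype.ofFinite _
  obtain ⟨C⟩ := exists_coord hS h2 (GaloisField 2 n) (by rw [GaloisField.card 2 n (by omega), hqn])
  haveI := Fintype.ofFinite G
  haveI : Fintype ↥Q := Fintype.ofFinite _
  obtain ⟨P⟩ := exists_qdec hS h2
  haveI := Fintype.ofFinite P.S
  haveI := Fintype.ofFinite P.O
  obtain ⟨Sp⟩ := exists_split_chars C hS h2 hN hV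
  obtain ⟨Rl⟩ := exists_rel (C := C) hS h2 (P := P)
  by_cases hab : ∀ x ∈ P.S, ∀ y ∈ P.S, x * y = y * x
  · exact Or.inl (card_eq_of_abelian hS h2 hCS hab hN Sp hV Rl)
  obtain ⟨-, -, hS3⟩ := (P.S_cases hS h2).resolve_left hab
  have hO := card_O_eq_one hS h2 Sp Rl hN hCS hS3
  have hSQ := P.S_eq hO
  have hcard : Nat.card Q = qq G a ^ 3 := by
    rcases hS3 with h | h
    · exact absurd h (card_S_ne_sq hS h2 Sp hN hCS hab)
    · rw [← hSQ, h]
  rw [hSQ] at hab
  exact Or.inr (Or.inr ⟨hab, hcard, exists_Wg_of_cube C hS h2 hN hCS hcard hV,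
    Wg_cent_of_cube C hS h2 hN hCS hcard⟩)

end NoExtension

universe u v

/-- The shape of the kernel of the point stabiliser in every setup. -/
theorem shape_all : ∀ (m : ℕ) (G : Type u) (Ω : Type v) [Group G] [MulAction G Ω] [Finite G]
    [FaithfulSMul G Ω] (a : Ω) (t : G) (Q : Subgroup G), Nat.card G = m →
    Cfsg.IsRankOneSetup G Ω a t Q →
    (∃ x y : G, x ≠ 1 ∧ y ≠ 1 ∧ x ≠ y ∧ x * x = 1 ∧ y * y = 1 ∧ x * y = y * x) → Shape a t Q := by
  intro m
  induction m using Nat.strong_induction_on with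
  | _ m ih =>
    intro G Ω _ _ _ _ a t Q hm hS h2
    subst hm
    classical
    by_cases hN : NoExt t Q
    · have hCS : CentShape a t Q := fun x hx hx1 hq => by
        have hJ : 2 ≤ Nat.card {s : G // s ∈ Cfsg.involutionsIn (stabilizer G a : Set G) ∧ x * s = s * x} := by
          rw [qx] at hq
          omega
        exact cent_shape hS hx (ih _ (cent_card_lt hS hx hx1) (CentFix Ω x) (FixPt Ω x) _ _ _ rfl
          (cent_setup hS hx) (cent_two_rank hS hx hJ h2))
      rcases trichotomy hS h2 hN hCS with h | ⟨hna, h, -⟩ | ⟨hna, h, hw, -⟩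
      · exact Or.inl h
      · exact Or.inr ⟨hna, Or.inl h⟩
      · exact Or.inr ⟨hna, Or.inr ⟨h, hw⟩⟩
    · simp only [NoExt] at hN
      push Not at hN
      obtain ⟨L, hLn, hQ, ht, hne⟩ := hN
      haveI := faithful_subgroup hS L
      have hlt : Nat.card L < Nat.card G := by
        refine lt_of_le_of_ne (Nat.le_of_dvd Nat.card_pos (Subgroup.card_subgroup_dvd_card _)) fun h => ?_
        exact hne (Subgroup.eq_top_of_card_eq L h)
      exact Shape.of_subgroup hS L hLn hQ ht (ih _ hlt L Ω a ⟨t, ht⟩ (Q.subgroupOf L) rfl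
        (setup_subgroup hS L hQ ht) (two_rank_subgroup hS L hLn ht h2))

variable {G : Type u} {Ω : Type v} [Group G] [MulAction G Ω] [Finite G] [FaithfulSMul G Ω] {a : Ω} {t : G}
  {Q : Subgroup G}

local notation "𝔇" => ((stabilizer G a ⊓ stabilizer G (t • a)) : Subgroup G)
local notation "𝔎" => Cfsg.invertedBy (stabilizer G a ⊓ stabilizer G (t • a)) t
local notation "𝔍" => Cfsg.involutionsIn (stabilizer G a : Set G)

variable (hS : Cfsg.IsRankOneSetup G Ω a t Q)
  (h2 : ∃ x y : G, x ≠ 1 ∧ y ≠ 1 ∧ x ≠ y ∧ x * x = 1 ∧ y * y = 1 ∧ x * y = y * x)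
include hS h2

theorem centShape_of_setup : CentShape a t Q := fun x hx hx1 hq => by
  have hJ : 2 ≤ Nat.card {s : G // s ∈ Cfsg.involutionsIn (stabilizer G a : Set G) ∧ x * s = s * x} := by
    rw [qx] at hq
    omega
  exact cent_shape hS hx (shape_all _ (CentFix Ω x) (FixPt Ω x) _ _ _ rfl
    (cent_setup hS hx) (cent_two_rank hS hx hJ h2))

/-- The inverted elements lie in the group generated by `Q` and `t`. -/
theorem K_le_closure {k : G} (hk : k ∈ 𝔎) : k ∈ Subgroup.closure ((Q : Set G) ∪ {t}) := by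
  set E := Subgroup.closure ((Q : Set G) ∪ {t})
  have hQE : ∀ y ∈ Q, y ∈ E := fun y hy => Subgroup.subset_closure (Or.inl hy)
  have htE : t ∈ E := Subgroup.subset_closure (Or.inr rfl)
  obtain ⟨s, r, hs, hr, he, -⟩ := exists_s0 hS
  have hk' : k⁻¹ ∈ 𝔎 := ⟨inv_mem hk.1, by rw [← conj_inv, hk.2]⟩
  have htk : t * k⁻¹ = k * t := by
    have h := t_conj_inv hS hk'
    rw [inv_inv] at h
    calc t * k⁻¹ = t * k⁻¹ * (t * t) := by rw [hS.mul_self, mul_one]
      _ = (t * k⁻¹ * t) * t := by group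
      _ = k * t := by rw [h]
  set s' := k⁻¹ * s * k with hs'
  have hs'Q : s' ∈ Q := by
    have := Q_conj hS (inv_mem hk.1) (J_mem_Q hS hs)
    rwa [inv_inv] at this
  have hr' : k * r * k⁻¹ ∈ Q := Q_conj hS hk.1 hr
  have hkt : k * t = t * k⁻¹ := htk.symm
  have key : k * k * t = (k * r * k⁻¹) * (t * s' * t) * (k * r * k⁻¹)⁻¹ := by
    have e1 : t * s' * t = k * (t * s * t) * k⁻¹ := by
      calc t * s' * t = (t * k⁻¹) * s * (k * t) := by rw [hs']; group
        _ = (k * t) * s * (t * k⁻¹) := by rw [htk]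
        _ = k * (t * s * t) * k⁻¹ := by group
    rw [e1, he]
    calc k * k * t = k * (k * t) := by rw [mul_assoc]
      _ = k * (t * k⁻¹) := by rw [htk]
      _ = _ := by group
  have hkk : k * k ∈ E := by
    have h : k * k * t ∈ E := by
      rw [key]
      exact mul_mem (mul_mem (hQE _ hr') (mul_mem (mul_mem htE (hQE _ hs'Q)) htE)) (inv_mem (hQE _ hr'))
    simpa [mul_assoc, hS.mul_self] using mul_mem h htE
  obtain ⟨i, hi⟩ := D_odd hS hk.1
  have e : k = (k * k) ^ (i + 1) := by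
    rw [← pow_two, ← pow_mul, show 2 * (i + 1) = orderOf k + 1 by omega, pow_succ, pow_orderOf_eq_one, one_mul]
  rw [e]
  exact pow_mem hkk _

/-- The group generated by `Q` and `t` is normal of odd index. -/
theorem closure_normal_odd :
    (Subgroup.closure ((Q : Set G) ∪ {t})).Normal ∧ Odd (Subgroup.closure ((Q : Set G) ∪ {t})).index := by
  classical
  set E := Subgroup.closure ((Q : Set G) ∪ {t}) with hE
  have hQE : ∀ y ∈ Q, y ∈ E := fun y hy => Subgroup.subset_closure (Or.inl hy)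
  have htE : t ∈ E := Subgroup.subset_closure (Or.inr rfl)
  have hVn : ∀ v ∈ Vg a t, v ∈ Subgroup.normalizer (E : Set G) := by
    have key : ∀ v ∈ Vg a t, ∀ x ∈ E, v * x * v⁻¹ ∈ E := fun v hv x hx => by
      refine Subgroup.closure_induction (p := fun x _ => v * x * v⁻¹ ∈ E) ?_ ?_ ?_ ?_ hx
      · rintro y (hy | rfl)
        · exact hQE _ (Q_conj hS (mem_Vg.1 hv).1 hy)
        · rw [(mem_Vg.1 hv).2, mul_inv_cancel_right]; exact htE
      · simp
      · intro y z _ _ hy hz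
        rw [show v * (y * z) * v⁻¹ = (v * y * v⁻¹) * (v * z * v⁻¹) by group]
        exact mul_mem hy hz
      · intro y _ hy
        rw [show v * y⁻¹ * v⁻¹ = (v * y * v⁻¹)⁻¹ by group]
        exact inv_mem hy
    intro v hv
    rw [Subgroup.mem_normalizer_iff]
    refine fun x => ⟨key v hv x, fun hx => ?_⟩
    have := key v⁻¹ (inv_mem hv) _ hx
    simpa [mul_assoc] using this
  have hcover : ∀ g : G, ∃ e ∈ E, ∃ v ∈ Vg a t, g = v * e := by
    have hstab : ∀ h ∈ stabilizer G a, ∃ e ∈ E, ∃ v ∈ Vg a t, h = v * e := fun h hh => by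
      obtain ⟨y, hy, d, hd, rfl⟩ := stab_eq_mul hS hh
      obtain ⟨v, hv, k, hk, rfl⟩ := exists_split hS hd
      refine ⟨v⁻¹ * y * v * k, mul_mem ?_ (K_le_closure hS h2 hk), v, hv, by group⟩
      have := Q_conj hS (inv_mem (mem_Vg.1 hv).1) hy
      rw [inv_inv] at this
      exact hQE _ this
    intro g
    by_cases hg : g ∈ stabilizer G a
    · exact hstab g hg
    obtain ⟨⟨h, y⟩, ⟨hh, hy, rfl⟩, -⟩ := exists_decomp hS hg
    obtain ⟨e, he, v, hv, rfl⟩ := hstab h hh
    exact ⟨e * t * y, mul_mem (mul_mem he htE) (hQE _ hy), v, hv, by group⟩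
  haveI hn : E.Normal := Subgroup.normalizer_eq_top_iff.1 (eq_top_iff.2 fun g _ => by
    obtain ⟨e, he, v, hv, rfl⟩ := hcover g
    exact mul_mem (hVn v hv) (Subgroup.le_normalizer he))
  refine ⟨hn, ?_⟩
  have hsurj : Function.Surjective ((QuotientGroup.mk' E).comp (Vg a t).subtype) := fun x => by
    obtain ⟨g, rfl⟩ := QuotientGroup.mk'_surjective E x
    obtain ⟨e, he, v, hv, rfl⟩ := hcover g
    refine ⟨⟨v, hv⟩, ?_⟩
    show QuotientGroup.mk' E v = _
    rw [map_mul, show QuotientGroup.mk' E e = 1 from (QuotientGroup.eq_one_iff e).2 he, mul_one]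
  rw [Subgroup.index_eq_card]
  exact (odd_card_Vg hS).of_dvd_nat (Subgroup.card_dvd_of_surjective _ hsurj)

end CfsgLib.Lie.RankOneClass
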