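import Cfsg.Agent.Lib.Lie.RankOneClass.Ident.Setup
import Cfsg.Agent.Lib.Lie.RankOneClass.Ident.Translation
import Cfsg.Agent.Lib.Perm.RankOne.UnitalModel

/-!
Owner: helper20 (slice H). A rank one setup with `|Q| = q³` in which a nontrivial element
centralises the involutions of the point stabiliser, and no more of `Q`, generates `PSU₃(q)`.
-/

set_option autoImplicit false
set_option linter.all false

namespace CfsgLib.Lie.RankOneClass.Ident

open MulAction CfsgLib.Lie.RankOne CfsgLib.Classical.Herm CfsgLib.Perm.RankOne.Unital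

theorem exists_psu3 {G Ω : Type*} [Group G] [Finite G] [MulAction G Ω] [FaithfulSMul G Ω] {a : Ω}
    {t : G} {Q : Subgroup G} (hS : Cfsg.IsRankOneSetup G Ω a t Q)
    (h2 : ∃ x y : G, x ≠ 1 ∧ y ≠ 1 ∧ x ≠ y ∧ x * x = 1 ∧ y * y = 1 ∧ x * y = y * x)
    (hN : Nat.card Q = qq G a ^ 3) {w : G} (hw : w ∈ Wg a t) (hw1 : w ≠ 1)
    (hC : ∀ w ∈ Wg a t, w ≠ 1 → ∀ y ∈ Q, w * y = y * w →
      y = 1 ∨ y ∈ Cfsg.involutionsIn (stabilizer G a : Set G)) :
    ∃ (L : Type) (_ : Field L) (_ : Fintype L) (n : ℕ), 2 ≤ n ∧ Fintype.card L = (2 ^ n) ^ 2 ∧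
      Nonempty (↥(Subgroup.closure ((Q : Set G) ∪ {t})) ≃* Cfsg.PSU 3 L (2 ^ n)) := by
  classical
  obtain ⟨n, hn, hq⟩ := exists_pow_two hS h2
  haveI : Fact (Nat.Prime 2) := ⟨Nat.prime_two⟩
  haveI : Finite (GaloisField 2 (2 * n)) := Nat.finite_of_card_ne_zero (by
    rw [GaloisField.card 2 (2 * n) (by omega)]; exact (Nat.two_pow_pos _).ne')
  letI instL : Fintype (GaloisField 2 (2 * n)) := Fintype.ofFinite _
  have hL : Fintype.card (GaloisField 2 (2 * n)) = (2 ^ n) ^ 2 := by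
    rw [← Nat.card_eq_fintype_card, GaloisField.card 2 (2 * n) (by omega), ← pow_mul, mul_comm]
  set σ := powHom hL with hσdef
  have hσ : IsInvol σ := powHom_isInvol hL
  letI : Fintype (fixedSub σ) := Fintype.ofFinite _
  have hFq : Nat.card (fixedSub σ) = qq G a := by rw [hσdef, card_fixed_powHom hL, hq]
  obtain ⟨D⟩ := exists_lineData (F := fixedSub σ) hS h2 hFq hw hw1 (fun y hy => hC w hw hw1 y hy)
  obtain ⟨U⟩ := exists_udata hσ D (by rw [hN, ← hFq, Nat.card_eq_fintype_card]) hC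
    (fun h => hw1 (Subgroup.mem_bot.1 (h ▸ hw)))
  refine ⟨GaloisField 2 (2 * n), inferInstance, instL, n, hn, hL, ?_⟩
  -- the points
  have hiff : ∀ p : GaloisField 2 (2 * n) × GaloisField 2 (2 * n),
      OnU σ p ↔ p.1 + p.1 ^ (2 ^ n) + p.2 ^ (2 ^ n + 1) = 0 := fun p => by
    rw [OnU, pow_succ, mul_comm (p.2 ^ (2 ^ n))]
    rfl
  let f : Option (Pt (GaloisField 2 (2 * n)) (2 ^ n)) → Ω :=
    fun o => o.elim a fun p => U.Phi p.1
  have hinj : Function.Injective f := by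
    rintro (_ | p) (_ | r) h
    · rfl
    · exact absurd h.symm (U.Phi_ne_a ((hiff _).2 r.2))
    · exact absurd h (U.Phi_ne_a ((hiff _).2 p.2))
    · exact congrArg some (Subtype.ext (U.Phi_inj ((hiff _).2 p.2) ((hiff _).2 r.2) h))
  have hsur : Function.Surjective f := fun ω => by
    by_cases h : ω = a
    · exact ⟨none, h.symm⟩
    · obtain ⟨p, hp, he⟩ := U.exists_Phi h
      exact ⟨some ⟨p, (hiff p).1 hp⟩, he⟩
  set e := (Equiv.ofBijective f ⟨hinj, hsur⟩).symm with he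
  have hef : ∀ o, e (f o) = o := fun o => (Equiv.ofBijective f ⟨hinj, hsur⟩).symm_apply_apply o
  have key : ∀ (g : G) (π : Option (Pt (GaloisField 2 (2 * n)) (2 ^ n)) →
      Option (Pt (GaloisField 2 (2 * n)) (2 ^ n))),
      (∀ o, g • f o = f (π o)) → ∀ ω, e (g • ω) = π (e ω) := fun g π h ω => by
    obtain ⟨o, rfl⟩ := hsur ω
    rw [h, hef, hef]
  have htrans : ∀ g ∈ Q, ∀ s : Pt (GaloisField 2 (2 * n)) (2 ^ n), U.sv g = s.1 →
      ∀ ω, e (g • ω) = transPerm hL s (e ω) := fun g hg s hs => key g _ fun o => by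
    rcases o with _ | p
    · rw [transPerm_none]; exact Q_fix hS hg
    · rw [transPerm_some]
      have := U.acts hg ((hiff _).2 p.2)
      unfold UData.Acts at this
      show g • U.Phi p.1 = U.Phi (transFun hL s p).1
      rw [this, hs]
      rfl
  haveI : CharP (GaloisField 2 (2 * n)) 2 := inferInstance
  refine nonempty_closure_equiv hL (by
    have : 2 ^ 2 ≤ 2 ^ n := Nat.pow_le_pow_right (by norm_num) hn
    omega) e (Q : Set G) t (key t _ ?_) (fun g hg => ?_) (fun s => ?_)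
  · rintro (_ | p)
    · show t • a = U.Phi (0, 0)
      rw [U.Phi_origin]
    · by_cases hx : p.1.1 = 0
      · rw [swapFun_zero hL hx, eq_zeroPt hL hx]
        show t • U.Phi (0, 0) = a
        rw [U.Phi_origin]
        exact t_smul_ta hS
      · obtain ⟨r, hr, hr'⟩ := swapFun_some hL hx
        rw [hr']
        show t • U.Phi p.1 = U.Phi r.1
        rw [U.t_Phi ((hiff _).2 p.2) hx, hr, one_div]
  · exact ⟨⟨U.sv g, (hiff _).1 (U.sv_spec hg).1⟩, htrans g hg _ rfl⟩
  · obtain ⟨y, hy, hyb⟩ := U.exists_Q s.1 ((hiff _).2 s.2)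
    exact ⟨y, hy, htrans y hy s (by rw [UData.sv, hyb, U.crd_Phi ((hiff _).2 s.2)])⟩

end CfsgLib.Lie.RankOneClass.Ident
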