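import Cfsg.Agent.Lib.Lie.RankOneClass.Basic
import Mathlib.FieldTheory.Finite.GaloisField

/-!
Owner: helper5. Field coordinates on the involutions of the point stabiliser: the inverted elements
act as multiplications, the centraliser of `t` in `D` as field automorphisms.
-/

set_option autoImplicit false
set_option linter.unusedSectionVars false

namespace CfsgLib.Lie.RankOneClass

open MulAction CfsgLib.Lie.RankOne

variable {G Ω : Type*} [Group G] [MulAction G Ω]

/-- Coordinates: `z` on the involutions of `G_a` and `1`, `k` on the inverted elements, `aut` the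
field automorphism induced by an element of `G_a`. -/
structure Coord (a : Ω) (t : G) (F : Type) [Field F] where
  /-- the involution with coordinate `x` -/
  z : F → G
  z_add : ∀ x y : F, z (x + y) = z x * z y
  z_inj : Function.Injective z
  z_mem : ∀ x : F, x ≠ 0 → z x ∈ Cfsg.involutionsIn (stabilizer G a : Set G)
  z_surj : ∀ g ∈ Cfsg.involutionsIn (stabilizer G a : Set G), ∃ x : F, z x = g
  /-- the inverted element with coordinate `l` -/
  k : Fˣ → G
  k_mem : ∀ l : Fˣ, k l ∈ Cfsg.invertedBy (stabilizer G a ⊓ stabilizer G (t • a)) t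
  k_surj : ∀ g ∈ Cfsg.invertedBy (stabilizer G a ⊓ stabilizer G (t • a)) t, ∃ l : Fˣ, k l = g
  k_mul : ∀ l m : Fˣ, k (l * m) = k l * k m
  k_conj : ∀ (l : Fˣ) (x : F), k l * z x * (k l)⁻¹ = z (l * x)
  /-- the automorphism induced by an element of the point stabiliser -/
  aut : ↥(stabilizer G a) →* (F ≃+* F)
  aut_conj : ∀ h : ↥(stabilizer G a), ∃ m : Fˣ, ∀ x : F,
    (h : G) * z x * (h : G)⁻¹ = z (m * aut h x)
  /-- the distinguished involution has coordinate one -/
  vee : ∀ d ∈ stabilizer G a ⊓ stabilizer G (t • a), (d ∈ Vg a t ↔ d * z 1 = z 1 * d)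

variable [Finite G] [FaithfulSMul G Ω] {a : Ω} {t : G} {Q : Subgroup G}

local notation "𝔇" => ((stabilizer G a ⊓ stabilizer G (t • a)) : Subgroup G)
local notation "𝔎" => Cfsg.invertedBy (stabilizer G a ⊓ stabilizer G (t • a)) t
local notation "𝔍" => Cfsg.involutionsIn (stabilizer G a : Set G)

variable (hS : Cfsg.IsRankOneSetup G Ω a t Q)
  (h2 : ∃ x y : G, x ≠ 1 ∧ y ≠ 1 ∧ x ≠ y ∧ x * x = 1 ∧ y * y = 1 ∧ x * y = y * x)

open CfsgLib.OddTransitive CfsgLib.OddTransitive.RankOne in
include hS h2 in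
/-- Coordinates exist, over any field with `q` elements. -/
theorem exists_coord (F : Type) [Field F] [Fintype F] (hF : Nat.card F = qq G a) :
    Nonempty (Coord a t F) := by
  classical
  obtain ⟨C, hC, hcyc, hn⟩ := exists_cyclic hS h2
  haveI := hcyc
  obtain ⟨s, r, hs, -, -, hV⟩ := exists_s0 hS
  haveI := vec_nontrivial hS h2
  haveI := finite_end (E := Vec hS h2)
  set B : Subgroup ↥𝔇 := C.subgroupOf 𝔇 with hB
  haveI : B.Normal := ⟨fun c hc d => Subgroup.mem_subgroupOf.2 (by
    simpa using hn d d.2 c (Subgroup.mem_subgroupOf.1 hc))⟩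
  have hBK : ∀ d : 𝔇, d ∈ B ↔ (d : G) ∈ 𝔎 := fun d => by
    rw [hB, Subgroup.mem_subgroupOf, ← SetLike.mem_coe, hC]
  have hcomm : ∀ g ∈ B, ∀ h ∈ B, g * h = h * g := fun g hg h hh => by
    letI : CommGroup C := IsCyclic.commGroup
    have h1 := mul_comm (⟨g, Subgroup.mem_subgroupOf.1 hg⟩ : C) ⟨h, Subgroup.mem_subgroupOf.1 hh⟩
    exact Subtype.ext (congrArg Subtype.val h1 :)
  have hinj := inj_of_normal (transitive hS h2) B hcomm
  set R := span (E := Vec hS h2) (B : Set ↥𝔇) with hR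
  set e₀ : Vec hS h2 := Additive.ofMul (⟨s, Or.inr hs⟩ : involutionGroup hS h2) with he₀d
  have he₀ : e₀ ≠ 0 := ofMul_ne_zero hS h2 hs
  letI : CommRing R :=
    { (inferInstance : Ring R) with mul_comm := fun a b => Subtype.ext (span_comm hcomm _ a.2 _ b.2) }
  haveI : NoZeroDivisors R := ⟨fun {x y} h => by
    have h' : (x : AddMonoid.End (Vec hS h2)) ((y : AddMonoid.End (Vec hS h2)) e₀) = 0 :=
      DFunLike.congr_fun (congrArg Subtype.val h) e₀
    by_cases hbv : (y : AddMonoid.End (Vec hS h2)) e₀ = 0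
    · exact Or.inr (Subtype.ext (hinj y y.2 e₀ he₀ hbv))
    · exact Or.inl (Subtype.ext (hinj x x.2 _ hbv h'))⟩
  haveI : Nontrivial R :=
    ⟨⟨0, 1, fun h => he₀ (DFunLike.congr_fun (congrArg Subtype.val h) e₀).symm⟩⟩
  haveI : IsDomain R := NoZeroDivisors.to_isDomain _
  letI : Fintype R := Fintype.ofFinite R
  letI : Field R := Fintype.fieldOfDomain R
  -- evaluation at the distinguished vector
  let ev : R → Vec hS h2 := fun x => (x : AddMonoid.End (Vec hS h2)) e₀
  have hev_inj : Function.Injective ev := fun x y h => by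
    have h0 : ((x - y : R) : AddMonoid.End (Vec hS h2)) e₀ = 0 := by
      show (x : AddMonoid.End (Vec hS h2)) e₀ - (y : AddMonoid.End (Vec hS h2)) e₀ = 0
      rw [sub_eq_zero]; exact h
    exact sub_eq_zero.1 (Subtype.ext (hinj _ (x - y).2 e₀ he₀ h0) : x - y = 0)
  let κ : ↥B → R := fun b => ⟨th (b : ↥𝔇), th_mem_span b.2⟩
  have hev_surj : Function.Surjective ev := by
    intro y
    by_cases hy : y = 0
    · exact ⟨0, hy ▸ rfl⟩
    have hy' : ((Additive.toMul y : involutionGroup hS h2) : G) ∈ 𝔍 :=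
      (Additive.toMul y).2.resolve_left fun h => hy (Additive.toMul.injective (Subtype.ext h))
    obtain ⟨k, ⟨hk, hke⟩, -⟩ := exists_unique_K hS hs hy'
    have hk' : (⟨k, hk.1⟩⁻¹ : ↥𝔇) ∈ B := inv_mem ((hBK _).2 hk)
    refine ⟨κ ⟨_, hk'⟩, Additive.toMul.injective (Subtype.ext ?_)⟩
    show k⁻¹ * s * k⁻¹⁻¹ = _
    rw [inv_inv, hke]
  let evE : R ≃ Vec hS h2 := Equiv.ofBijective ev ⟨hev_inj, hev_surj⟩
  have hcardR : Nat.card R = qq G a := by
    rw [Nat.card_congr evE, ← card_involutionGroup hS h2]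
    rfl
  letI : Fintype (Vec hS h2) := Fintype.ofFinite _
  let e : R ≃+* F := FiniteField.ringEquivOfCardEq (by
    rw [← Nat.card_eq_fintype_card, ← Nat.card_eq_fintype_card, hcardR, hF])
  let zf : F → G := fun x => ((Additive.toMul (ev (e.symm x)) : involutionGroup hS h2) : G)
  have z_add : ∀ x y, zf (x + y) = zf x * zf y := fun x y => by
    show ((Additive.toMul (ev (e.symm (x + y))) : involutionGroup hS h2) : G) = _
    rw [map_add]
    rfl
  have z_inj : Function.Injective zf := fun x y h =>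
    e.symm.injective (hev_inj (Additive.toMul.injective (Subtype.ext h)))
  have z_zero : zf 0 = 1 := by
    show ((Additive.toMul (ev (e.symm 0)) : involutionGroup hS h2) : G) = _
    rw [map_zero]
    rfl
  have z_one : zf 1 = s := by
    show ((Additive.toMul (ev (e.symm 1)) : involutionGroup hS h2) : G) = _
    rw [map_one]
    rfl
  have z_mem : ∀ x : F, x ≠ 0 → zf x ∈ 𝔍 := fun x hx =>
    (Additive.toMul (ev (e.symm x))).2.resolve_left fun h => hx (z_inj (h.trans z_zero.symm))
  have z_surj : ∀ g ∈ 𝔍, ∃ x, zf x = g := fun g hg => by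
    obtain ⟨y, hy⟩ := hev_surj (Additive.ofMul (⟨g, Or.inr hg⟩ : involutionGroup hS h2))
    refine ⟨e y, ?_⟩
    show ((Additive.toMul (ev (e.symm (e y))) : involutionGroup hS h2) : G) = _
    rw [e.symm_apply_apply, hy]
    rfl
  -- multiplications
  let kf : ↥B →* Fˣ :=
    (Units.map e.toRingHom.toMonoidHom).comp
      ({ toFun := κ, map_one' := Subtype.ext (map_one _),
         map_mul' := fun x y => Subtype.ext (map_mul _ _ _) } : ↥B →* R).toHomUnits
  have kf_val : ∀ b : ↥B, ((kf b : Fˣ) : F) = e (κ b) := fun b => rfl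
  have k_conj' : ∀ (b : ↥B) (x : F), ((b : ↥𝔇) : G) * zf x * ((b : ↥𝔇) : G)⁻¹ = zf (e (κ b) * x) := by
    intro b x
    show _ = ((Additive.toMul (ev (e.symm (e (κ b) * x))) : involutionGroup hS h2) : G)
    rw [map_mul, e.symm_apply_apply]
    rfl
  have kf_inj : Function.Injective kf := fun b b' h => by
    have h1 : e (κ b) = e (κ b') := congrArg Units.val h
    have h3 : th (E := Vec hS h2) (b : ↥𝔇) = th (b' : ↥𝔇) := congrArg Subtype.val (e.injective h1)
    have h4 : ((b : ↥𝔇) * (b' : ↥𝔇)⁻¹ : ↥𝔇) ∈ Wker hS h2 := by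
      rw [MonoidHom.mem_ker, map_mul, h3, ← map_mul, mul_inv_cancel, map_one]
    exact Subtype.ext (mul_inv_eq_one.1 (K_mem_Wker hS h2
      ((hBK _).1 (mul_mem b.2 (inv_mem b'.2))) h4))
  have kf_surj : Function.Surjective kf := by
    have hcB : Nat.card B = Nat.card Fˣ := by
      rw [Nat.card_units, hF, qq, Nat.add_sub_cancel, ← card_K hS]
      exact Nat.card_congr (Equiv.ofBijective
        (fun b : ↥B => (⟨((b : ↥𝔇) : G), (hBK _).1 b.2⟩ : 𝔎))
        ⟨fun x y h => Subtype.ext (Subtype.ext (congrArg Subtype.val h :)),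
          fun g => ⟨⟨⟨g, g.2.1⟩, (hBK _).2 g.2⟩, rfl⟩⟩)
    exact (kf_inj.bijective_of_nat_card_le hcB.ge).2
  let keq : ↥B ≃* Fˣ := MulEquiv.ofBijective kf ⟨kf_inj, kf_surj⟩
  have k_conj : ∀ (l : Fˣ) (x : F),
      ((keq.symm l : ↥𝔇) : G) * zf x * ((keq.symm l : ↥𝔇) : G)⁻¹ = zf (l * x) := fun l x => by
    rw [k_conj' (keq.symm l) x, ← kf_val]
    show zf (((keq (keq.symm l)) : Fˣ) * x) = _
    rw [keq.apply_symm_apply]
  -- automorphisms
  have hauto : ∀ v ∈ Vg a t, ∃ σ : F ≃+* F, ∀ x, v * zf x * v⁻¹ = zf (σ x) := by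
    intro v hv
    set g : ↥𝔇 := ⟨v, (mem_Vg.1 hv).1⟩ with hg
    have hinv : ∀ (g : ↥𝔇) (x : AddMonoid.End (Vec hS h2)),
        th g⁻¹ * (th g * x * th g⁻¹) * th g = x := by
      intro g x
      have e1 : th (E := Vec hS h2) g⁻¹ * th g = 1 := by rw [← map_mul, inv_mul_cancel, map_one]
      simp only [mul_assoc]
      rw [e1, mul_one, ← mul_assoc, e1, one_mul]
    let σ : R ≃+* R :=
      { toFun := fun x => ⟨th g * (x : AddMonoid.End (Vec hS h2)) * th g⁻¹,
          conj_mem_span B g _ x.2⟩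
        invFun := fun x => ⟨th g⁻¹ * (x : AddMonoid.End (Vec hS h2)) * th g, by
          have := conj_mem_span B g⁻¹ (x : AddMonoid.End (Vec hS h2)) x.2
          rwa [inv_inv] at this⟩
        left_inv := fun x => Subtype.ext (hinv g x)
        right_inv := fun x => Subtype.ext (by
          have := hinv g⁻¹ (x : AddMonoid.End (Vec hS h2))
          rwa [inv_inv] at this)
        map_mul' := fun x y => Subtype.ext (by
          show th g * ((x : AddMonoid.End (Vec hS h2)) * (y : AddMonoid.End (Vec hS h2))) * th g⁻¹ =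
            th g * (x : AddMonoid.End (Vec hS h2)) * th g⁻¹ *
              (th g * (y : AddMonoid.End (Vec hS h2)) * th g⁻¹)
          have e1 : th (E := Vec hS h2) g⁻¹ * th g = 1 := by rw [← map_mul, inv_mul_cancel, map_one]
          simp only [mul_assoc]
          rw [← mul_assoc (th g⁻¹) (th g), e1, one_mul])
        map_add' := fun x y => Subtype.ext (by
          show th g * ((x : AddMonoid.End (Vec hS h2)) + (y : AddMonoid.End (Vec hS h2))) * th g⁻¹ =
            th g * (x : AddMonoid.End (Vec hS h2)) * th g⁻¹ +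
              th g * (y : AddMonoid.End (Vec hS h2)) * th g⁻¹
          rw [mul_add, add_mul]) }
    refine ⟨e.symm.trans (σ.trans e), fun x => ?_⟩
    show _ = ((Additive.toMul (ev (e.symm (e (σ (e.symm x))))) : involutionGroup hS h2) : G)
    rw [e.symm_apply_apply]
    have hfix : th (E := Vec hS h2) g⁻¹ e₀ = e₀ := by
      refine Additive.toMul.injective (Subtype.ext ?_)
      show v⁻¹ * s * v⁻¹⁻¹ = s
      rw [inv_inv, mul_assoc, ← (hV v (mem_Vg.1 hv).1).1 hv, inv_mul_cancel_left]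
    show v * ((Additive.toMul (ev (e.symm x)) : involutionGroup hS h2) : G) * v⁻¹ =
      ((Additive.toMul (th g ((e.symm x : AddMonoid.End (Vec hS h2)) (th g⁻¹ e₀))) :
        involutionGroup hS h2) : G)
    rw [hfix]
    rfl
  have hsemi : ∀ h : ↥(stabilizer G a), ∃ m : Fˣ, ∃ σ : F ≃+* F,
      ∀ x : F, (h : G) * zf x * (h : G)⁻¹ = zf (m * σ x) := by
    intro h
    obtain ⟨y, hy, d, hd, he⟩ := stab_eq_mul hS h.2
    obtain ⟨v, hv, k, hk, rfl⟩ := exists_split hS hd
    obtain ⟨σ, hσ⟩ := hauto v hv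
    set l := keq ⟨⟨k, hk.1⟩, (hBK _).2 hk⟩ with hl
    have hkl : ∀ x, k * zf x * k⁻¹ = zf (l * x) := fun x => by
      have := k_conj l x
      rwa [hl, MulEquiv.symm_apply_apply] at this
    refine ⟨Units.map σ.toRingHom.toMonoidHom l, σ, fun x => ?_⟩
    have hyz : ∀ w : F, y * zf w * y⁻¹ = zf w := fun w => by
      by_cases hw : w = 0
      · rw [hw, z_zero, mul_one, mul_inv_cancel]
      · rw [← J_central hS h2 (z_mem w hw) hy, mul_inv_cancel_right]
    rw [he, show y * (v * k) * zf x * (y * (v * k))⁻¹ = y * (v * (k * zf x * k⁻¹) * v⁻¹) * y⁻¹ by group,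
      hkl, hσ, hyz]
    show zf (σ (l * x)) = zf (σ l * σ x)
    rw [map_mul]
  choose m σ hmσ using hsemi
  have huniq : ∀ (h : ↥(stabilizer G a)) (m' : Fˣ) (σ' : F ≃+* F),
      (∀ x : F, (h : G) * zf x * (h : G)⁻¹ = zf (m' * σ' x)) → σ' = σ h := by
    intro h m' σ' h'
    have h1 : ∀ x, (m' : F) * σ' x = m h * σ h x := fun x => z_inj ((h' x).symm.trans (hmσ h x))
    have hm : (m' : F) = m h := by simpa using h1 1
    refine RingEquiv.ext fun x => mul_left_cancel₀ (Units.ne_zero (m h)) ?_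
    rw [← h1 x, hm]
  refine ⟨{
    z := zf
    z_add := z_add
    z_inj := z_inj
    z_mem := z_mem
    z_surj := z_surj
    k := fun l => ((keq.symm l : ↥𝔇) : G)
    k_mem := fun l => (hBK _).1 (keq.symm l).2
    k_surj := fun g hg => ⟨keq ⟨⟨g, hg.1⟩, (hBK _).2 hg⟩, by rw [MulEquiv.symm_apply_apply]⟩
    k_mul := fun l l' => by rw [map_mul]; rfl
    k_conj := k_conj
    aut := MonoidHom.mk' σ fun g h => (huniq (g * h)
      (m g * Units.map (σ g).toRingHom.toMonoidHom (m h)) (σ g * σ h) fun x => ?_).symm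
    aut_conj := fun h => ⟨m h, hmσ h⟩
    vee := fun d hd => by rw [z_one]; exact hV d hd }⟩
  show ((g : G) * h) * zf x * ((g : G) * h)⁻¹ = zf (m g * σ g (m h) * σ g (σ h x))
  rw [mul_assoc (m g : F), ← map_mul, ← hmσ g, ← hmσ h]
  group

end CfsgLib.Lie.RankOneClass
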