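import Cfsg.Agent.Lib.ClassSizes.OddTransitive.RankOne

/-!
Owner: helper5. Counting and fixed points in a rank one setup of 2-rank at least two
(first part of the classification, `notes/rankone_helper5.md`).
-/

set_option autoImplicit false
set_option linter.unusedSectionVars false

namespace CfsgLib.Lie.RankOneClass

open MulAction CfsgLib.Lie.RankOne

variable {G Ω : Type*} [Group G] [MulAction G Ω]

/-- The centraliser of `t` in the two-point stabiliser. -/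
def Vg (a : Ω) (t : G) : Subgroup G :=
  (stabilizer G a ⊓ stabilizer G (t • a)) ⊓ Subgroup.centralizer {t}

/-- The centraliser of the involutions of the point stabiliser in the two-point stabiliser. -/
def Wg (a : Ω) (t : G) : Subgroup G :=
  (stabilizer G a ⊓ stabilizer G (t • a)) ⊓
    Subgroup.centralizer (Cfsg.involutionsIn (stabilizer G a : Set G))

/-- The number `q`: one more than the number of involutions of the point stabiliser. -/
noncomputable def qq (G : Type*) [Group G] {Ω : Type*} [MulAction G Ω] (a : Ω) : ℕ :=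
  Nat.card (Cfsg.involutionsIn (stabilizer G a : Set G)) + 1

/-- No proper normal subgroup contains `Q` and `t`. -/
def NoExt (t : G) (Q : Subgroup G) : Prop :=
  ∀ L : Subgroup G, L.Normal → Q ≤ L → t ∈ L → L = ⊤

variable [Finite G] [FaithfulSMul G Ω] {a : Ω} {t : G} {Q : Subgroup G}

local notation "𝔇" => ((stabilizer G a ⊓ stabilizer G (t • a)) : Subgroup G)
local notation "𝔎" => Cfsg.invertedBy (stabilizer G a ⊓ stabilizer G (t • a)) t
local notation "𝔍" => Cfsg.involutionsIn (stabilizer G a : Set G)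

theorem mem_Vg {d : G} : d ∈ Vg a t ↔ d ∈ 𝔇 ∧ d * t = t * d := by
  rw [Vg, Subgroup.mem_inf, Subgroup.mem_centralizer_singleton_iff]

theorem mem_Wg {d : G} : d ∈ Wg a t ↔ d ∈ 𝔇 ∧ ∀ s ∈ 𝔍, d * s = s * d := by
  rw [Wg, Subgroup.mem_inf, Subgroup.mem_centralizer_iff]
  exact and_congr_right fun _ => ⟨fun h s hs => (h s hs).symm, fun h s hs => (h s hs).symm⟩

variable (hS : Cfsg.IsRankOneSetup G Ω a t Q)
include hS

theorem Wg_le_Vg : Wg a t ≤ Vg (a := a) t := by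
  intro d hd
  obtain ⟨hD, hc⟩ := mem_Wg.1 hd
  obtain ⟨⟨s, r⟩, ⟨hs, hr, he⟩, -⟩ := structure_equation hS
  exact mem_Vg.2 ⟨hD, (centralizer_distinguished hS hs hr he hD).2 (hc s hs)⟩

theorem Vg_conj_t {v : G} (hv : v ∈ Vg a t) : t * v * t = v := by
  rw [← (mem_Vg.1 hv).2, mul_assoc, hS.mul_self, mul_one]

/-- An element of `V` that is inverted by `t` is trivial. -/
theorem eq_one_of_Vg_K {v : G} (hv : v ∈ Vg a t) (hk : v ∈ 𝔎) : v = 1 := by
  refine D_eq_one hS hk.1 (mul_eq_one_iff_eq_inv.2 ?_)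
  rw [← hk.2, t_inv hS, Vg_conj_t hS hv]

/-- A point stabiliser element fixing a second point is conjugate under `Q` into `D`. -/
theorem exists_conj_D {h : G} (hh : h ∈ stabilizer G a) {c : Ω} (hc : c ≠ a) (hfix : h • c = c) :
    ∃ y ∈ Q, y⁻¹ * h * y ∈ 𝔇 ∧ y • (t • a) = c := by
  obtain ⟨y, hy, rfl⟩ := exists_smul_eq_ta hS hc
  refine ⟨y, hy, mem_D.2 ⟨?_, ?_⟩, rfl⟩
  · exact mul_mem (mul_mem (inv_mem (hS.le hy)) hh) (hS.le hy)
  · rw [mul_smul, mul_smul, hfix, inv_smul_smul]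

/-- `Q` is a trivial intersection set with normaliser the point stabiliser. -/
theorem mem_stab_of_conj {x g : G} (hx : x ∈ Q) (hx1 : x ≠ 1) (hg : g * x * g⁻¹ ∈ Q) :
    g ∈ stabilizer G a := by
  by_contra h
  refine hx1 (eq_one_of_fix hS hx (c := g⁻¹ • a) (fun e => h ?_) ?_)
  · show g • a = a
    conv_lhs => rw [← e]
    rw [smul_inv_smul]
  · have := Q_fix hS hg
    rw [mul_smul, mul_smul] at this
    rw [eq_inv_smul_iff]
    exact this

/-- The only fixed point of a nontrivial element of `Q`. -/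
theorem fix_iff {x : G} (hx : x ∈ Q) (hx1 : x ≠ 1) {c : Ω} : x • c = c ↔ c = a := by
  refine ⟨fun h => ?_, fun h => h ▸ Q_fix hS hx⟩
  by_contra hc
  exact hx1 (eq_one_of_fix hS hx hc h)

/-- The fixed points other than `a` of `d` in `D` correspond to the elements of `Q` commuting
with `d`. -/
theorem fix_smul_iff {d x : G} (hd : d ∈ 𝔇) (hx : x ∈ Q) :
    d • (x • (t • a)) = x • (t • a) ↔ d * x = x * d := by
  constructor
  · intro h
    have h1 := eq_one_of_fix_ta hS (mul_mem (inv_mem hx) (Q_conj hS hd hx)) (by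
      rw [mul_smul, mul_smul, mul_smul, (mem_D.1 (inv_mem hd)).2, h, inv_smul_smul])
    rw [inv_mul_eq_one] at h1
    exact mul_inv_eq_iff_eq_mul.1 h1.symm
  · intro h
    rw [← mul_smul, h, mul_smul, (mem_D.1 hd).2]

/-- An element of `D` commuting with a nontrivial element of `Q` is conjugate in `D` into `V`. -/
theorem conj_mem_Vg {d x : G} (hd : d ∈ 𝔇) (hx : x ∈ Q) (hx1 : x ≠ 1) (hc : d * x = x * d) :
    ∃ k ∈ 𝔇, k * d * k⁻¹ ∈ Vg a t := by
  obtain ⟨k, hk, hkd⟩ := conj_into hS (X := {d}) (Set.singleton_subset_iff.2 hd)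
    ⟨x • (t • a), fun e => t_smul_ne hS (smul_left_cancel x (e.trans (Q_fix hS hx).symm)),
      fun e => hx1 (eq_one_of_fix_ta hS hx e),
      fun y hy => by rw [Set.mem_singleton_iff.1 hy]; exact (fix_smul_iff hS hd hx).2 hc⟩
  exact ⟨k, hk, mem_Vg.2 ⟨mul_mem (mul_mem hk hd) (inv_mem hk), hkd d rfl⟩⟩

/-- The distinguished involution is centralised exactly by `V`. -/
theorem exists_s0 : ∃ s r : G, s ∈ 𝔍 ∧ r ∈ Q ∧ t * s * t = r⁻¹ * t * r ∧
    ∀ d ∈ 𝔇, (d ∈ Vg a t ↔ d * s = s * d) := by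
  obtain ⟨⟨s, r⟩, ⟨hs, hr, he⟩, -⟩ := structure_equation hS
  refine ⟨s, r, hs, hr, he, fun d hd => ?_⟩
  rw [mem_Vg, ← centralizer_distinguished hS hs hr he hd]
  exact ⟨And.right, fun h => ⟨hd, h⟩⟩

/-- `D = V K` uniquely. -/
theorem split_unique {v v' k k' : G} (hv : v ∈ Vg a t) (hv' : v' ∈ Vg a t) (hk : k ∈ 𝔎)
    (hk' : k' ∈ 𝔎) (h : v * k = v' * k') : v = v' ∧ k = k' := by
  obtain ⟨s, r, hs, -, -, hV⟩ := exists_s0 hS
  have hc : ∀ w ∈ Vg a t, w⁻¹ * s * w = s := fun w hw => by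
    rw [mul_assoc, ← (hV w (mem_Vg.1 hw).1).1 hw, inv_mul_cancel_left]
  have hJ : k⁻¹ * s * k ∈ 𝔍 := by
    have := conj_mem_J hS hs (mem_D.1 (inv_mem hk.1)).1
    rwa [inv_inv] at this
  have h1 : k'⁻¹ * s * k' = k⁻¹ * s * k := by
    calc k'⁻¹ * s * k' = k'⁻¹ * (v'⁻¹ * s * v') * k' := by rw [hc v' hv']
      _ = (v' * k')⁻¹ * s * (v' * k') := by group
      _ = (v * k)⁻¹ * s * (v * k) := by rw [h]
      _ = k⁻¹ * (v⁻¹ * s * v) * k := by group
      _ = k⁻¹ * s * k := by rw [hc v hv]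
  have hkk : k = k' := (exists_unique_K hS hs hJ).unique ⟨hk, rfl⟩ ⟨hk', h1⟩
  subst hkk
  exact ⟨mul_right_cancel h, rfl⟩

theorem exists_split {d : G} (hd : d ∈ 𝔇) : ∃ v ∈ Vg a t, ∃ k ∈ 𝔎, d = v * k := by
  obtain ⟨v, k, hv, hvt, hk, he⟩ := D_split hS hd
  exact ⟨v, mem_Vg.2 ⟨hv, hvt⟩, k, hk, he⟩

/-- `|D| = (q - 1) |V|`. -/
theorem card_D : Nat.card 𝔇 = Nat.card (Vg a t) * Nat.card 𝔍 := by
  rw [← card_K hS, ← Nat.card_prod]
  refine (Nat.card_eq_of_bijective (fun p : Vg a t × 𝔎 => (⟨(p.1 : G) * p.2,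
    mul_mem (mem_Vg.1 p.1.2).1 p.2.2.1⟩ : 𝔇)) ⟨fun p p' e => ?_, fun d => ?_⟩).symm
  · obtain ⟨e1, e2⟩ := split_unique hS p.1.2 p'.1.2 p.2.2 p'.2.2 (congrArg Subtype.val e)
    exact Prod.ext (Subtype.ext e1) (Subtype.ext e2)
  · obtain ⟨v, hv, k, hk, he⟩ := exists_split hS d.2
    exact ⟨(⟨v, hv⟩, ⟨k, hk⟩), Subtype.ext he.symm⟩

theorem odd_card_Vg : Odd (Nat.card (Vg a t)) :=
  hS.odd_card.of_dvd_nat (Dvd.intro _ (card_D hS).symm)

theorem card_Q_ne : Nat.card Q ≠ 1 := fun h => by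
  have := hS.even_card
  rw [h] at this
  exact Nat.not_even_one this

theorem eq_one_of_fix_three {x : G} (hx : x ∈ 𝔎) {c : Ω} (hca : c ≠ a) (hct : c ≠ t • a)
    (hc : x • c = c) : x = 1 :=
  inverted_eq_one hS hx ⟨c, hca, hct, hc⟩

variable (h2 : ∃ x y : G, x ≠ 1 ∧ y ≠ 1 ∧ x ≠ y ∧ x * x = 1 ∧ y * y = 1 ∧ x * y = y * x)
include h2

theorem three_le_card_J : 3 ≤ Nat.card 𝔍 := by
  obtain ⟨s, s', hs, hs', hne, hc⟩ := exists_J_pair hS h2
  have hss' : s * s' ≠ 1 := fun h => hne (by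
    rw [eq_inv_of_mul_eq_one_left h, inv_eq_of_mul_eq_one_right hs'.2.2])
  have hm : s * s' ∈ 𝔍 := (J_mul hS h2 hs hs').resolve_left hss'
  have h3 : ({s, s', s * s'} : Set G).ncard = 3 := by
    rw [Set.ncard_eq_three]
    refine ⟨s, s', s * s', hne, fun h => hs'.2.1 (mul_eq_left.1 h.symm), fun h => hs.2.1 (mul_eq_right.1 h.symm), rfl⟩
  rw [Nat.card_coe_set_eq, ← h3]
  exact Set.ncard_le_ncard (by rintro x (rfl | rfl | rfl) <;> assumption) (Set.toFinite _)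

theorem four_le_qq : 4 ≤ qq G a := by
  have := three_le_card_J hS h2
  rw [qq]
  omega

theorem card_involutionGroup :
    Nat.card (CfsgLib.OddTransitive.RankOne.involutionGroup hS h2) = qq G a := by
  have h1 : ((CfsgLib.OddTransitive.RankOne.involutionGroup hS h2 : Subgroup G) : Set G) =
      insert (1 : G) 𝔍 := rfl
  rw [qq, ← SetLike.coe_sort_coe, Nat.card_coe_set_eq, h1,
    Set.ncard_insert_of_notMem (fun h : (1 : G) ∈ 𝔍 => h.2.1 rfl) (Set.toFinite _),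
    Nat.card_coe_set_eq]

theorem exists_pow_two : ∃ n, 2 ≤ n ∧ qq G a = 2 ^ n := by
  haveI : Fact (Nat.Prime 2) := ⟨Nat.prime_two⟩
  have hp : IsPGroup 2 (CfsgLib.OddTransitive.RankOne.involutionGroup hS h2) := fun x => by
    refine ⟨1, ?_⟩
    rw [pow_one, sq]
    exact CfsgLib.OddTransitive.RankOne.sq_eq_one hS h2 x
  obtain ⟨n, hn⟩ := hp.exists_card_eq
  rw [card_involutionGroup hS h2] at hn
  refine ⟨n, ?_, hn⟩
  have := four_le_qq hS h2
  rw [hn] at this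
  by_contra h
  interval_cases n <;> simp at this

theorem even_qq : Even (qq G a) := by
  obtain ⟨n, hn, he⟩ := exists_pow_two hS h2
  rw [he]
  exact (Nat.even_pow.2 ⟨even_two, by omega⟩)

/-- Conjugating an element of `V` by an element of `D` back into `V`. -/
theorem Wg_normal {d w : G} (hd : d ∈ 𝔇) (hw : w ∈ Wg a t) : d * w * d⁻¹ ∈ Wg a t := by
  obtain ⟨hwD, hc⟩ := mem_Wg.1 hw
  refine mem_Wg.2 ⟨mul_mem (mul_mem hd hwD) (inv_mem hd), fun s hs => ?_⟩
  have h1 : d⁻¹ * s * d ∈ 𝔍 := by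
    have := conj_mem_J hS hs (mem_D.1 (inv_mem hd)).1
    rwa [inv_inv] at this
  have h3 := hc _ h1
  calc d * w * d⁻¹ * s = d * (w * (d⁻¹ * s * d)) * d⁻¹ := by group
    _ = d * (d⁻¹ * s * d * w) * d⁻¹ := by rw [h3]
    _ = s * (d * w * d⁻¹) := by group

theorem Wg_commute_K {w k : G} (hw : w ∈ Wg a t) (hk : k ∈ 𝔎) : w * k = k * w := by
  have h1 : (⟨w, (mem_Wg.1 hw).1⟩ : 𝔇) ∈ CfsgLib.OddTransitive.RankOne.Wker hS h2 :=
    (CfsgLib.OddTransitive.RankOne.mem_Wker hS h2).2 (mem_Wg.1 hw).2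
  exact (CfsgLib.OddTransitive.RankOne.commute_of_mem_Wker hS h2 h1).2 k hk

end CfsgLib.Lie.RankOneClass
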