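import Cfsg.Agent.Lib.Lie.RankOneClass.Comp

/-!
Owner: helper5. The two-part of `Q` is not abelian.
-/

set_option autoImplicit false
set_option linter.unusedSectionVars false

namespace CfsgLib.Lie.RankOneClass

open MulAction CfsgLib.Lie.RankOne CfsgLib.Char CfsgLib.OddTransitive.RankOne
open scoped ComplexConjugate

variable {G Ω : Type*} [Group G] [MulAction G Ω] [Fintype G] [FaithfulSMul G Ω] {a : Ω} {t : G}
  {Q : Subgroup G} {F : Type} [Field F] [Fintype F] {C : Coord a t F} [Fintype ↥Q]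

local notation "𝔇" => ((stabilizer G a ⊓ stabilizer G (t • a)) : Subgroup G)
local notation "𝔎" => Cfsg.invertedBy (stabilizer G a ⊓ stabilizer G (t • a)) t
local notation "𝔍" => Cfsg.involutionsIn (stabilizer G a : Set G)

variable (hS : Cfsg.IsRankOneSetup G Ω a t Q)
  (h2 : ∃ x y : G, x ≠ 1 ∧ y ≠ 1 ∧ x ≠ y ∧ x * x = 1 ∧ y * y = 1 ∧ x * y = y * x)
  (hCS : CentShape a t Q) {P : QDec Q}
include hS h2

/-- A two-part which is not elementary has an element of order four. -/
theorem exists_order_four (hne : ¬ P.S ≤ involutionGroup hS h2) :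
    ∃ x ∈ P.S, x * x ∈ 𝔍 := by
  haveI : Fact (Nat.Prime 2) := ⟨Nat.prime_two⟩
  obtain ⟨y, hy, hyn⟩ := SetLike.not_le_iff_exists.1 hne
  obtain ⟨i, hi⟩ := IsPGroup.iff_orderOf.1 P.isTwo ⟨y, hy⟩
  rw [Subgroup.orderOf_mk] at hi
  have hi2 : 2 ≤ i := by
    by_contra hlt
    refine hyn ?_
    rcases Nat.lt_succ_iff.1 (not_le.1 hlt) |> Nat.le_one_iff_eq_zero_or_eq_one.1 with h | h
    · rw [h, pow_zero, orderOf_eq_one_iff] at hi
      exact Or.inl hi
    · rw [h, pow_one] at hi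
      refine eq_one_or_J hS (P.S_le hy) ?_
      rw [← pow_two, ← hi, pow_orderOf_eq_one]
  refine ⟨y ^ 2 ^ (i - 2), pow_mem hy _, ?_⟩
  have he : y ^ 2 ^ (i - 2) * y ^ 2 ^ (i - 2) = y ^ 2 ^ (i - 1) := by
    rw [← pow_add]
    congr 1
    rw [show i - 1 = (i - 2) + 1 by omega, pow_succ]
    omega
  rw [he]
  refine (eq_one_or_J hS (P.S_le (pow_mem hy _)) ?_).resolve_left fun h => ?_
  · rw [← pow_add, show 2 ^ (i - 1) + 2 ^ (i - 1) = 2 ^ i by
      conv_rhs => rw [show i = (i - 1) + 1 by omega, pow_succ]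
      omega, ← hi, pow_orderOf_eq_one]
  · exact pow_ne_one_of_lt_orderOf (by positivity)
      (hi ▸ Nat.pow_lt_pow_right (by norm_num) (by omega)) h

variable (hab : ∀ x ∈ P.S, ∀ y ∈ P.S, x * y = y * x) (C)
include hab hCS C

/-- An element of `V` with a big centraliser forces an elementary two-part. -/
theorem le_ZJ_of_big {x : G} (hx : x ∈ Vg a t) {p : ℕ} (hp : p.Prime) (hxo : orderOf x = p)
    (hq : 4 ≤ qx a x) : P.S ≤ involutionGroup hS h2 := by
  classical
  by_contra hne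
  haveI := Fact.mk hp
  have hx1 : x ≠ 1 := fun h => by rw [h, orderOf_one] at hxo; exact hp.ne_one hxo.symm
  have hp2 : p ≠ 2 := fun h => by
    have := D_odd hS (mem_Vg.1 hx).1
    rw [hxo, h] at this
    exact Nat.not_odd_iff_even.2 even_two this
  have hnQ : ∀ y ∈ Q, x * y * x⁻¹ ∈ Q := fun y hy => Q_conj hS (mem_Vg.1 hx).1 hy
  obtain ⟨x₀, hx₀, hsq⟩ := exists_order_four hS h2 hne
  obtain ⟨s₀, r, hs₀, -, -, hV⟩ := exists_s0 hS
  have hxs : x * s₀ = s₀ * x := (hV x (mem_Vg.1 hx).1).1 hx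
  obtain ⟨y₀, hy₀, hy₀s⟩ := exists_sqrt hS h2 hx₀ hsq hs₀
  -- a fixed square root
  obtain ⟨y, hyS, hys, hyc⟩ : ∃ y ∈ P.S, y * y = s₀ ∧ x * y = y * x := by
    haveI := Fintype.ofFinite {y : G // y ∈ P.S ∧ y * y = s₀}
    let f : {y : G // y ∈ P.S ∧ y * y = s₀} → {y : G // y ∈ P.S ∧ y * y = s₀} := fun y =>
      ⟨x * y.1 * x⁻¹, P.conj_S hnQ y.2.1, by
        rw [show x * y.1 * x⁻¹ * (x * y.1 * x⁻¹) = x * (y.1 * y.1) * x⁻¹ by group, y.2.2, hxs,
          mul_inv_cancel_right]⟩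
    let σ : Equiv.Perm {y : G // y ∈ P.S ∧ y * y = s₀} := Equiv.ofBijective f
      (Finite.injective_iff_bijective.1 fun u w e => Subtype.ext (by
        have := congrArg Subtype.val e
        simpa [f] using this))
    have hσk : ∀ (k : ℕ) (u : {y : G // y ∈ P.S ∧ y * y = s₀}),
        ((σ ^ k) u : G) = x ^ k * u.1 * (x ^ k)⁻¹ := by
      intro k
      induction k with
      | zero => simp
      | succ k ih =>
        intro u
        rw [pow_succ', Equiv.Perm.mul_apply]
        show x * ((σ ^ k) u : G) * x⁻¹ = _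
        rw [ih, pow_succ']
        group
    have hσ : σ ^ p ^ 1 = 1 := Equiv.ext fun u => Subtype.ext (by
      rw [pow_one, hσk, ← hxo, pow_orderOf_eq_one, Equiv.Perm.one_apply]
      group)
    have hcard : Fintype.card {y : G // y ∈ P.S ∧ y * y = s₀} = qq G a := by
      rw [← card_ZJ hS h2, ← Nat.card_eq_fintype_card]
      refine (Nat.card_eq_of_bijective (fun z : ↥(involutionGroup hS h2) =>
        (⟨y₀ * z, mul_mem hy₀ (P.ZJ_le hS h2 z.2), ?_⟩ : {y : G // y ∈ P.S ∧ y * y = s₀}))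
        ⟨fun z z' h => Subtype.ext (mul_left_cancel (congrArg Subtype.val h)), fun u => ?_⟩).symm
      · have hc : Commute y₀ (z : G) := hab _ hy₀ _ (P.ZJ_le hS h2 z.2)
        have h := hc.mul_pow 2
        rw [pow_two, pow_two, pow_two, hy₀s, (show (z : G) * z = 1 from congrArg Subtype.val (sq_eq_one hS h2 z)),
          mul_one] at h
        exact h
      · have hz : y₀⁻¹ * u.1 ∈ involutionGroup hS h2 := by
          refine eq_one_or_J hS (P.S_le (mul_mem (inv_mem hy₀) u.2.1)) ?_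
          have hc : Commute y₀⁻¹ u.1 := hab _ (inv_mem hy₀) _ u.2.1
          rw [← pow_two, hc.mul_pow, pow_two, pow_two, u.2.2, ← mul_inv_rev, hy₀s, inv_mul_cancel]
        exact ⟨⟨_, hz⟩, Subtype.ext (mul_inv_cancel_left y₀ u.1)⟩
    obtain ⟨n, hn, hqn⟩ := exists_pow_two hS h2
    have hndvd : ¬ p ∣ Fintype.card {y : G // y ∈ P.S ∧ y * y = s₀} := by
      rw [hcard, hqn]
      exact fun h => hp2 ((Nat.prime_dvd_prime_iff_eq hp Nat.prime_two).1 (hp.dvd_of_dvd_pow h))
    obtain ⟨u, hu⟩ := Equiv.Perm.exists_fixed_point_of_prime (p := p) (n := 1) hndvd hσ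
    exact ⟨u.1, u.2.1, u.2.2, mul_inv_eq_iff_eq_mul.1 (congrArg Subtype.val hu :)⟩
  have hyC : y ∈ Q ⊓ Subgroup.centralizer ({x} : Set G) :=
    Subgroup.mem_inf.2 ⟨P.S_le hyS, Subgroup.mem_centralizer_singleton_iff.2 hyc.symm⟩
  rcases hCS x hx hx1 hq with hN | ⟨hnc, -⟩
  · let emb : Option {s : G // s ∈ 𝔍 ∧ x * s = s * x} → ↥(Q ⊓ Subgroup.centralizer ({x} : Set G)) :=
      fun o => o.elim 1 fun s => ⟨s.1, Subgroup.mem_inf.2 ⟨J_mem_Q hS s.2.1,
        Subgroup.mem_centralizer_singleton_iff.2 s.2.2.symm⟩⟩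
    have hinj : Function.Injective emb := by
      rintro (_ | u) (_ | w) h
      · rfl
      · exact absurd (congrArg Subtype.val h).symm w.2.1.2.1
      · exact absurd (congrArg Subtype.val h) u.2.1.2.1
      · exact congrArg some (Subtype.ext (congrArg Subtype.val h :))
    haveI := Fintype.ofFinite {s : G // s ∈ 𝔍 ∧ x * s = s * x}
    have hbij := (Nat.bijective_iff_injective_and_card emb).2 ⟨hinj, by rw [Finite.card_option, hN]; rfl⟩
    obtain ⟨o, ho⟩ := hbij.2 ⟨y, hyC⟩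
    rcases o with _ | u
    · have hy1 : (1 : G) = y := congrArg Subtype.val ho
      rw [← hy1, one_mul] at hys
      exact hs₀.2.1 hys.symm
    · have huy : u.1 = y := congrArg Subtype.val ho
      rw [← huy, u.2.1.2.2] at hys
      exact hs₀.2.1 hys.symm
  · refine hnc fun u hu v hv hux hvx => ?_
    have hS' : ∀ w ∈ Q, w * x = x * w → w ∈ P.S := fun w hw hwx => by
      obtain ⟨s, hs, o, ho, rfl⟩ := P.prod w hw
      obtain ⟨-, hxo'⟩ := P.commute_parts hnQ hs ho hwx.symm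
      rw [not_commute_odd hS h2 hCS C hx hx1 hq (P.O_le ho)
        (P.odd.of_dvd_nat (P.O.orderOf_dvd_natCard ho)) hxo', mul_one]
      exact hs
    exact hab u (hS' u hu hux) v (hS' v hv hvx)

section Chars

variable {C} (hN : NoExt t Q) (Sp : Split C Q) (hV : Vg a t ≠ ⊥) [Fintype P.S] [Fintype P.O]
include hN Sp hV

omit hCS hN Sp hV in
/-- All irreducible characters of the two-part are linear. -/
theorem exists_linIrr (α : Cfsg.IrrCharacter P.S) : ∃ l : P.S →* ℂˣ, Rel.linIrr l = α := by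
  obtain ⟨b, hb0, hb⟩ := IsIrr.exists_degree α.2
  have h := CfsgLib.Coh.sq_charDegree_le_index α ⊥ (⊤ : Subgroup P.S)
    (fun g hg => by rw [Subgroup.mem_bot.1 hg]) bot_le (fun d _ g => by
      rw [Subgroup.mem_bot]
      refine Subtype.ext ?_
      rw [Subgroup.coe_mul, Subgroup.coe_mul, Subgroup.coe_mul, Subgroup.coe_inv, Subgroup.coe_inv,
        hab _ d.2 _ g.2, mul_inv_cancel_right, mul_inv_cancel]
      rfl)
  have hdeg : Cfsg.charDegree (α : P.S → ℂ) = b := by
    have h1 := CfsgLib.CharDegree.cast_irrDegree α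
    rw [hb] at h1
    exact_mod_cast h1
  rw [hdeg, Subgroup.index_top] at h
  have hb1 : b = 1 := by nlinarith
  obtain ⟨l, hl⟩ := exists_linear_of_degree_one (IsIrr.isCharacter α.2) (by rw [hb, hb1, Nat.cast_one])
  exact ⟨l, Subtype.ext hl.symm⟩

/-- One multiplicity for all nontrivial characters of the two-part. -/
theorem mult_const : ∀ α β : Cfsg.IrrCharacter P.S, α ≠ trivChar P.S → β ≠ trivChar P.S →
    Sp.mult (P.irrPr α (trivChar P.O)) = Sp.mult (P.irrPr β (trivChar P.O)) := by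
  classical
  haveI : Fintype ↥((stabilizer G a ⊓ stabilizer G (t • a)) : Subgroup G) := Fintype.ofFinite _
  have hstab : ∀ (d : 𝔇) (α : Cfsg.IrrCharacter P.S),
      d ∈ stabQ hS (P.irrPr α (trivChar P.O) : ↥Q → ℂ) ↔ twS hS P d α = α := fun d α => by
    rw [stabQ_pr]
    exact ⟨And.left, fun h => ⟨h, Subtype.ext rfl⟩⟩
  have hne : ∀ α : Cfsg.IrrCharacter P.S, α ≠ trivChar P.S → P.irrPr α (trivChar P.O) ≠ trivChar Q :=
    fun α hα h => hα (P.irrPr_inj (α' := trivChar P.S) (η' := trivChar P.O)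
      (h.trans (Subtype.ext (funext fun y => (one_mul (1 : ℂ)).symm)))).1
  have hnontriv : ∀ {α : Cfsg.IrrCharacter P.S} {l : P.S →* ℂˣ}, Rel.linIrr l = α → α ≠ trivChar P.S →
      ∃ s, l s ≠ 1 := fun {α l} hl hα => by
    by_contra h
    push Not at h
    refine hα (hl ▸ Subtype.ext (funext fun s => ?_))
    rw [Rel.linIrr_apply, h s, Units.val_one, trivChar_apply]
  by_cases hZ : P.S ≤ involutionGroup hS h2
  · -- the inverted elements are transitive
    intro α β hα hβ
    obtain ⟨lβ, hlβ⟩ := exists_linIrr (C := C) hS h2 hab β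
    obtain ⟨sβ, hsβ⟩ := hnontriv hlβ hβ
    haveI := Fintype.ofFinite (Cfsg.IrrCharacter P.S)
    haveI : Finite 𝔎 := Subtype.finite
    haveI := Fintype.ofFinite 𝔎
    let g : 𝔎 → Cfsg.IrrCharacter P.S := fun k => twS hS P ⟨k, k.2.1⟩ β
    have hg : Function.Injective g := fun k k' h => by
      set d : 𝔇 := (⟨k', k'.2.1⟩ : 𝔇)⁻¹ * ⟨k, k.2.1⟩ with hd
      have hfix : twS hS P d β = β := by
        rw [hd, twS_mul, show twS hS P ⟨k, k.2.1⟩ β = twS hS P ⟨k', k'.2.1⟩ β from h, ← twS_mul,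
          inv_mul_cancel, twS_one]
      have hdK : (d : G) ∈ 𝔎 := by
        obtain ⟨K, hK, -, -⟩ := exists_cyclic hS h2
        rw [← hK, SetLike.mem_coe]
        exact mul_mem (inv_mem (by rw [← SetLike.mem_coe, hK]; exact k'.2))
          (by rw [← SetLike.mem_coe, hK]; exact k.2)
      have h1 : d = 1 := fixedPt_free_S hS hdK (α := lβ) h2 (fun s _ => by
        rw [← hlβ] at hfix
        exact DFunLike.congr_fun (Rel.linIrr_injective ((Rel.twS_linIrr hS d lβ).symm.trans hfix)) s)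
        (hZ sβ.2) hsβ
      rw [hd, inv_mul_eq_one] at h1
      exact (Subtype.ext (congrArg (fun z : 𝔇 => (z : G)) h1) : k' = k).symm
    have hne' : ∀ k, g k ≠ trivChar P.S := fun k h => hβ (by
      have h1 : twS hS P (⟨k, k.2.1⟩ : 𝔇)⁻¹ (g k) = β := by
        show twS hS P _ (twS hS P _ β) = β
        rw [← twS_mul, inv_mul_cancel, twS_one]
      rw [← h1, h]
      exact Subtype.ext rfl)
    have hcardS : Nat.card P.S = qq G a := by
      rw [← card_ZJ hS h2]
      exact congrArg (fun H : Subgroup G => Nat.card H) (le_antisymm hZ (P.ZJ_le hS h2))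
    have hcardIrr : Fintype.card (Cfsg.IrrCharacter P.S) ≤ qq G a := by
      rw [← hcardS, ← Nat.card_eq_fintype_card, card_irrCharacter]
      exact Nat.card_le_card_of_surjective _ ConjClasses.mk_surjective
    have himg : Finset.univ.image g = Finset.univ.erase (trivChar P.S) := by
      refine Finset.eq_of_subset_of_card_le (fun x hx => ?_) ?_
      · obtain ⟨k, -, rfl⟩ := Finset.mem_image.1 hx
        exact Finset.mem_erase.2 ⟨hne' k, Finset.mem_univ _⟩
      · rw [Finset.card_image_of_injective _ hg, Finset.card_univ, ← Nat.card_eq_fintype_card (α := 𝔎),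
          card_K hS, Finset.card_erase_of_mem (Finset.mem_univ _), Finset.card_univ]
        have : qq G a = Nat.card 𝔍 + 1 := rfl
        omega
    obtain ⟨k, -, hk⟩ := Finset.mem_image.1
      (himg ▸ Finset.mem_erase.2 ⟨hα, Finset.mem_univ α⟩ : α ∈ Finset.univ.image g)
    rw [← hk]
    have htw : P.irrPr (twS hS P ⟨k, k.2.1⟩ β) (trivChar P.O) =
        twI hS ⟨k, k.2.1⟩ (P.irrPr β (trivChar P.O)) := by
      rw [twI_irrPr]
      exact congrArg (P.irrPr _) (Subtype.ext rfl)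
    show Sp.mult (P.irrPr (twS hS P ⟨k, k.2.1⟩ β) (trivChar P.O)) = _
    rw [htw, Sp.mult_twI]
  -- the two-part is not elementary: `V` has prime order
  have hq2 : ∀ v ∈ Vg a t, ∀ r : ℕ, r.Prime → orderOf v = r → qx a v = 2 := by
    intro v hv r hr hvo
    obtain ⟨m, hm1, hm⟩ := C.qx_pow_two hS h2 hv
    by_contra h
    refine hZ (le_ZJ_of_big C hS h2 hCS hab hv hr hvo ?_)
    rw [hm] at h ⊢
    have : 2 ≤ m := by
      rcases Nat.lt_or_ge m 2 with h' | h'
      · exact absurd (by rw [show m = 1 by omega, pow_one]) h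
      · exact h'
    exact le_trans (by norm_num) (Nat.pow_le_pow_right (by norm_num) this)
  have hker : ∀ d : 𝔇, C.aut ⟨d, (Subgroup.mem_inf.1 d.2).1⟩ = 1 → (d : G) ∈ 𝔎 := by
    intro d hd
    obtain ⟨v, hv, k, hk, he⟩ := exists_split hS d.2
    have he' : (⟨(d : G), (Subgroup.mem_inf.1 d.2).1⟩ : ↥(stabilizer G a)) =
        ⟨v * k, mul_mem (Subgroup.mem_inf.1 (mem_Vg.1 hv).1).1 (Subgroup.mem_inf.1 hk.1).1⟩ :=
      Subtype.ext he
    rw [he', C.aut_split hS hv hk] at hd
    have hW := (C.aut_Vg_eq_one hS hv).1 hd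
    by_cases hv1 : v = 1
    · rwa [he, hv1, one_mul]
    exfalso
    obtain ⟨r, hr, m, hm⟩ := Nat.exists_prime_and_dvd (orderOf_eq_one_iff.not.2 hv1)
    have hm0 : m ≠ 0 := fun h => (orderOf_pos v).ne' (by rw [hm, h, mul_zero])
    have hord : orderOf (v ^ m) = r := by
      rw [orderOf_pow_of_dvd hm0 ⟨r, by rw [hm, mul_comm]⟩, hm, Nat.mul_div_cancel _ (Nat.pos_of_ne_zero hm0)]
    have h1 := hq2 (v ^ m) (pow_mem hv m) r hr hord
    rw [qx_of_Wg hS h2 (pow_mem hW m)] at h1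
    obtain ⟨n, hn, hqn⟩ := exists_pow_two hS h2
    rw [hqn] at h1
    have := Nat.pow_right_injective le_rfl (h1.trans (pow_one 2).symm)
    omega
  obtain ⟨v, hv, p, hp, hvo⟩ : ∃ v ∈ Vg a t, ∃ p : ℕ, p.Prime ∧ orderOf v = p := by
    obtain ⟨v, hv, hv1⟩ := (Vg a t).bot_or_exists_ne_one.resolve_left hV
    obtain ⟨r, hr, m, hm⟩ := Nat.exists_prime_and_dvd (orderOf_eq_one_iff.not.2 hv1)
    have hm0 : m ≠ 0 := fun h => (orderOf_pos v).ne' (by rw [hm, h, mul_zero])
    refine ⟨v ^ m, pow_mem hv m, r, hr, ?_⟩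
    rw [orderOf_pow_of_dvd hm0 ⟨r, by rw [hm, mul_comm]⟩, hm, Nat.mul_div_cancel _ (Nat.pos_of_ne_zero hm0)]
  obtain ⟨haord, -, hA⟩ := C.of_qx_two hS h2 hv hp hvo (hq2 v hv p hp hvo)
  haveI := Fact.mk hp
  have hp2 : p ≠ 2 := fun h => by
    have := D_odd hS (mem_Vg.1 hv).1
    rw [hvo, h] at this
    exact Nat.not_odd_iff_even.2 even_two this
  have hpL : p + 1 ≤ 2 * Sp.L := by
    have := Sp.L_big p hp hA
    have := hp.two_le
    omega
  set dv : 𝔇 := ⟨v, (mem_Vg.1 hv).1⟩ with hdv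
  have hsmall : ∀ (T : Subgroup 𝔇), (∀ k ∈ T, (k : G) ∈ 𝔎 → k = 1) → Nat.card T ≤ p := by
    intro T hT
    haveI : Finite ↥C.aut.range := Finite.of_surjective _ C.aut.rangeRestrict_surjective
    let ψ : ↥T →* ↥C.aut.range :=
      ((C.aut.comp (Subgroup.inclusion inf_le_left)).comp T.subtype).codRestrict _ fun e => ⟨_, rfl⟩
    have hψ : Function.Injective ψ := (injective_iff_map_eq_one ψ).2 fun e he =>
      Subtype.ext (hT e e.2 (hker e (congrArg Subtype.val he)))
    exact (Nat.le_of_dvd Nat.card_pos (Subgroup.card_dvd_of_injective ψ hψ)).trans hA.le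
  have hstab_le : ∀ α : Cfsg.IrrCharacter P.S, α ≠ trivChar P.S →
      Nat.card (stabQ hS (P.irrPr α (trivChar P.O) : ↥Q → ℂ)) ≤ p := by
    intro α hα
    obtain ⟨l, hl⟩ := exists_linIrr (C := C) hS h2 hab α
    refine hsmall _ fun k hk hkK => ?_
    rw [hstab, ← hl, Rel.twS_linIrr hS] at hk
    by_contra hk1
    have hk1' : (k : G) ≠ 1 := fun h => hk1 (Subtype.ext h)
    obtain ⟨s, hs⟩ := hnontriv hl hα
    have hfix := DFunLike.congr_fun (Rel.linIrr_injective hk)
    let f : P.S → P.S := fun y => y⁻¹ * conjS hS P k y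
    have hf : Function.Injective f := fun y z h => by
      have h1 : (y : G)⁻¹ * ((k : G)⁻¹ * y * k) = (z : G)⁻¹ * ((k : G)⁻¹ * z * k) := congrArg Subtype.val h
      refine (Subtype.ext (mul_inv_eq_one.1 ?_)).symm
      have h3 : (k : G)⁻¹ * ((z : G) * (y : G)⁻¹) * k = (z : G) * (y : G)⁻¹ := by
        calc (k : G)⁻¹ * ((z : G) * (y : G)⁻¹) * k
            = ((z : G) * ((z : G)⁻¹ * ((k : G)⁻¹ * z * k))) * ((y : G) * ((y : G)⁻¹ * ((k : G)⁻¹ * y * k)))⁻¹ := by group
          _ = ((z : G) * ((y : G)⁻¹ * ((k : G)⁻¹ * y * k))) * ((y : G) * ((y : G)⁻¹ * ((k : G)⁻¹ * y * k)))⁻¹ := by rw [h1]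
          _ = (z : G) * (y : G)⁻¹ := by group
      have h4 : (z : G) * (y : G)⁻¹ ∈ Q ⊓ Subgroup.centralizer ({(k : G)} : Set G) := by
        refine Subgroup.mem_inf.2 ⟨P.S_le (mul_mem z.2 (inv_mem y.2)), Subgroup.mem_centralizer_singleton_iff.2 ?_⟩
        conv_rhs => rw [← h3]
        group
      rw [fixed_point_free hS hkK hk1'] at h4
      exact Subgroup.mem_bot.1 h4
    obtain ⟨y, hy⟩ := Finite.surjective_of_injective hf s
    refine hs ?_
    rw [← hy, map_mul, map_inv, ← MonoidHom.comp_apply l (conjS hS P k), hfix, inv_mul_cancel]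
  -- a character with trivial stabiliser
  obtain ⟨l₁, hl₁, hfreel⟩ : ∃ l : P.S →* ℂˣ, Rel.linIrr l ≠ trivChar P.S ∧
      stabQ hS (P.irrPr (Rel.linIrr l) (trivChar P.O) : ↥Q → ℂ) = ⊥ := by
    set zs : P.S := ⟨C.z 1, P.ZJ_le hS h2 (Or.inr C.z_one_mem)⟩ with hzs
    obtain ⟨x₀, hx₀, hsq⟩ := exists_order_four hS h2 hZ
    obtain ⟨x, hx, hxm⟩ := moves_mod_J hS h2 hx₀ hsq (C := C) (d := dv) (fun h => by
      rw [show C.autV hv = C.aut ⟨(dv : G), (Subgroup.mem_inf.1 dv.2).1⟩ from rfl, h, orderOf_one] at haord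
      exact hp.ne_one haord.symm)
    letI : CommGroup P.S :=
      { (inferInstance : Group P.S) with mul_comm := fun u w => Subtype.ext (hab u u.2 w w.2) }
    obtain ⟨l₀, hl₀⟩ := CommGroup.exists_apply_ne_one_of_hasEnoughRootsOfUnity P.S ℂ (a := zs)
      fun h => C.z_one_mem.2.1 (congrArg Subtype.val h)
    set Zs := (involutionGroup hS h2).subgroupOf P.S with hZs
    obtain ⟨γ, hγ⟩ := CommGroup.exists_apply_ne_one_of_hasEnoughRootsOfUnity (P.S ⧸ Zs) ℂ
      (a := QuotientGroup.mk' Zs (⟨x, hx⟩⁻¹ * conjS hS P dv ⟨x, hx⟩)) fun h => hxm (by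
        rw [QuotientGroup.mk'_apply, QuotientGroup.eq_one_iff, Subgroup.mem_subgroupOf] at h
        exact h)
    set βγ : P.S →* ℂˣ := γ.comp (QuotientGroup.mk' Zs) with hβγ
    have hγZ : ∀ s : P.S, (s : G) ∈ involutionGroup hS h2 → βγ s = 1 := fun s hs => by
      rw [hβγ, MonoidHom.comp_apply, QuotientGroup.mk'_apply,
        (QuotientGroup.eq_one_iff s).2 (Subgroup.mem_subgroupOf.2 hs), map_one]
    set β₀ : P.S →* ℂˣ := ∏ i ∈ Finset.range p, l₀.comp (conjS hS P (dv ^ i)) with hβ₀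
    have hdvp : dv ^ p = 1 := Subtype.ext (by
      rw [SubmonoidClass.coe_pow, Subgroup.coe_one, ← hvo]
      exact pow_orderOf_eq_one v)
    have hβ₀fix : β₀.comp (conjS hS P dv) = β₀ := by
      refine MonoidHom.ext fun s => ?_
      have e : ∀ i, conjS hS P (dv ^ i) (conjS hS P dv s) = conjS hS P (dv ^ (i + 1)) s := fun i =>
        Subtype.ext (show ((dv ^ i : 𝔇) : G)⁻¹ * ((dv : G)⁻¹ * s * dv) * (dv ^ i : 𝔇) =
          ((dv ^ (i + 1) : 𝔇) : G)⁻¹ * s * (dv ^ (i + 1) : 𝔇) by rw [pow_succ', Subgroup.coe_mul]; group)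
      simp only [hβ₀, MonoidHom.comp_apply, MonoidHom.finsetProd_apply, e]
      have h1 := Finset.prod_range_succ' (fun i => l₀ (conjS hS P (dv ^ i) s)) p
      have h3 := Finset.prod_range_succ (fun i => l₀ (conjS hS P (dv ^ i) s)) p
      rw [h1, hdvp, pow_zero] at h3
      exact mul_right_cancel h3
    have hcz : ∀ i, conjS hS P (dv ^ i) zs = zs := fun i => Subtype.ext (by
      show ((dv ^ i : 𝔇) : G)⁻¹ * C.z 1 * (dv ^ i : 𝔇) = C.z 1
      have hvi : ((dv ^ i : 𝔇) : G) ∈ Vg a t := by rw [SubmonoidClass.coe_pow]; exact pow_mem hv i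
      rw [mul_assoc, ← (C.vee _ (mem_Vg.1 hvi).1).1 hvi, inv_mul_cancel_left])
    have hzz : zs * zs = 1 := Subtype.ext C.z_one_mem.2.2
    have hl₀2 : l₀ zs ^ 2 = 1 := by rw [← map_pow, pow_two, hzz, map_one]
    have hβ₀z : β₀ zs = l₀ zs := by
      simp only [hβ₀, MonoidHom.finsetProd_apply, MonoidHom.comp_apply, hcz]
      rw [Finset.prod_const, Finset.card_range]
      obtain ⟨j, hj⟩ := hp.odd_of_ne_two hp2
      rw [hj, pow_succ, pow_mul, hl₀2, one_pow, one_mul]
    have hval : (β₀ * βγ) zs ≠ 1 := by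
      rw [MonoidHom.mul_apply, hγZ zs (Or.inr C.z_one_mem), mul_one, hβ₀z]
      exact hl₀
    refine ⟨β₀ * βγ, fun h => hval (Units.ext (congrFun (congrArg Subtype.val h) zs)), ?_⟩
    -- the stabiliser of the restriction to the involutions
    let T : Subgroup 𝔇 :=
      { carrier := {d | ∀ s : P.S, (s : G) ∈ involutionGroup hS h2 →
          (β₀ * βγ) (conjS hS P d s) = (β₀ * βγ) s}
        one_mem' := fun s _ => congrArg _ (Subtype.ext (show ((1 : 𝔇) : G)⁻¹ * s * (1 : 𝔇) = s by simp))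
        mul_mem' := fun {d e} hd he s hs => by
          have hs' : ((conjS hS P d s : P.S) : G) ∈ involutionGroup hS h2 := by
            rcases hs with h | h
            · exact Or.inl (show (d : G)⁻¹ * s * d = 1 by rw [h, mul_one, inv_mul_cancel])
            · exact Or.inr (conj_J hS d h)
          rw [show conjS hS P (d * e) s = conjS hS P e (conjS hS P d s) from Subtype.ext
            (show ((d * e : 𝔇) : G)⁻¹ * s * (d * e : 𝔇) = (e : G)⁻¹ * ((d : G)⁻¹ * s * d) * e by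
              rw [Subgroup.coe_mul]; group), he _ hs', hd s hs]
        inv_mem' := fun {d} hd s hs => by
          have hs' : ((conjS hS P d⁻¹ s : P.S) : G) ∈ involutionGroup hS h2 := by
            rcases hs with h | h
            · exact Or.inl (show ((d⁻¹ : 𝔇) : G)⁻¹ * s * (d⁻¹ : 𝔇) = 1 by rw [h, mul_one, inv_mul_cancel])
            · exact Or.inr (conj_J hS d⁻¹ h)
          rw [← hd _ hs']
          refine congrArg _ (Subtype.ext ?_)
          show (d : G)⁻¹ * (((d⁻¹ : 𝔇) : G)⁻¹ * s * (d⁻¹ : 𝔇)) * d = s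
          rw [Subgroup.coe_inv]
          group }
    have hTK : ∀ k ∈ T, (k : G) ∈ 𝔎 → k = 1 := fun k hk hkK =>
      fixedPt_free_S hS hkK h2 hk (Or.inr C.z_one_mem) hval
    have hdvT : dv ∈ T := fun s hs => by
      rw [MonoidHom.mul_apply, MonoidHom.mul_apply, ← MonoidHom.comp_apply β₀ (conjS hS P dv), hβ₀fix,
        hγZ s hs, hγZ]
      rcases hs with h | h
      · exact Or.inl (show (dv : G)⁻¹ * s * dv = 1 by rw [h, mul_one, inv_mul_cancel])
      · exact Or.inr (conj_J hS dv h)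
    rw [eq_bot_iff]
    intro d hd
    rw [hstab, Rel.twS_linIrr hS] at hd
    have hd' := DFunLike.congr_fun (Rel.linIrr_injective hd)
    have hdT : d ∈ T := fun s _ => hd' s
    have hdvo : orderOf dv = p := by rw [← Subgroup.orderOf_coe]; exact hvo
    have hle : Subgroup.zpowers dv ≤ T := Subgroup.zpowers_le.2 hdvT
    have hTeq := Subgroup.eq_of_le_of_card_ge hle ((hsmall T hTK).trans (by rw [Nat.card_zpowers, hdvo]))
    rw [← hTeq] at hdT
    by_contra hd1
    have hd1' : d ≠ 1 := fun h => hd1 (Subgroup.mem_bot.2 h)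
    obtain ⟨j, hj⟩ := mem_powers_iff_mem_zpowers.2 hdT
    -- `dv` fixes the character as well, against the choice of the factor
    have hdvfix : ∀ s, (β₀ * βγ) (conjS hS P dv s) = (β₀ * βγ) s := by
      have hmem : dv ∈ Subgroup.zpowers d := by
        have hdo : orderOf d = p := by
          rw [← hj]
          rcases (Nat.dvd_prime hp).1 (hdvo ▸ orderOf_pow_dvd j : orderOf (dv ^ j) ∣ p) with h | h
          · exact absurd (hj ▸ orderOf_eq_one_iff.1 h) hd1'
          · exact h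
        have h := Subgroup.eq_of_le_of_card_ge (Subgroup.zpowers_le.2 hdT :
          Subgroup.zpowers d ≤ Subgroup.zpowers dv) (by rw [Nat.card_zpowers, Nat.card_zpowers, hdo, hdvo])
        rw [h]
        exact Subgroup.mem_zpowers dv
      obtain ⟨i, hi⟩ := mem_powers_iff_mem_zpowers.2 hmem
      intro s
      rw [← hi]
      clear hi
      induction i generalizing s with
      | zero => exact congrArg _ (Subtype.ext (show ((d ^ 0 : 𝔇) : G)⁻¹ * s * (d ^ 0 : 𝔇) = s by simp))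
      | succ i ih =>
        rw [show conjS hS P (d ^ (i + 1)) s = conjS hS P (d ^ i) (conjS hS P d s) from Subtype.ext
          (show ((d ^ (i + 1) : 𝔇) : G)⁻¹ * s * (d ^ (i + 1) : 𝔇) =
            ((d ^ i : 𝔇) : G)⁻¹ * ((d : G)⁻¹ * s * d) * (d ^ i : 𝔇) by rw [pow_succ', Subgroup.coe_mul]; group), ih]
        exact hd' s
    refine hγ ?_
    have h := hdvfix ⟨x, hx⟩
    rw [MonoidHom.mul_apply, MonoidHom.mul_apply, ← MonoidHom.comp_apply β₀ (conjS hS P dv), hβ₀fix] at h
    rw [map_mul, map_inv, map_mul, map_inv]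
    exact inv_mul_eq_one.2 (mul_left_cancel h).symm
  intro α β hα hβ
  have key : ∀ α : Cfsg.IrrCharacter P.S, α ≠ trivChar P.S →
      Sp.mult (P.irrPr α (trivChar P.O)) = Sp.mult (P.irrPr (Rel.linIrr l₁) (trivChar P.O)) := by
    intro α hα
    refine pair_eq hS Sp (hne α hα) (hne _ hl₁) ?_ ?_
    · obtain ⟨l, hl⟩ := exists_linIrr (C := C) hS h2 hab α
      rw [← hl, deg_irrPr, deg_irrPr, deg_linIrr, deg_linIrr]
    · rw [hfreel, Subgroup.card_bot]
      have := hstab_le α hα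
      omega
  rw [key α hα, key β hβ]

/-- The two-part is not abelian unless `Q` consists of the involutions and one. -/
theorem card_eq_of_abelian (Rl : Rel C P) : Nat.card Q = qq G a := by
  classical
  haveI := Fintype.ofFinite (Cfsg.IrrCharacter P.S)
  obtain ⟨c, hc⟩ := Sp.exists_c hS
  obtain ⟨c', hc'⟩ := Sp.swap.exists_c hS
  have hsum := Sp.c_add_swap hS hc hc'
  obtain ⟨s, hs⟩ := exists_involution hS
  set sS : P.S := ⟨s, P.ZJ_le hS h2 (Or.inr hs)⟩
  have hs1 : sS ≠ 1 := fun h => hs.2.1 (congrArg Subtype.val h)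
  obtain ⟨α₀, hα₀⟩ : ∃ α : Cfsg.IrrCharacter P.S, α ≠ trivChar P.S := by
    by_contra h
    push Not at h
    have h1 := sum_degree_mul_apply_of_ne_one hs1
    rw [Finset.sum_eq_single (trivChar P.S) (fun α _ hα => absurd (h α) hα)
      (fun h => absurd (Finset.mem_univ _) h), trivChar_apply, trivChar_apply, mul_one] at h1
    exact one_ne_zero h1
  have key : ∀ Sp' : Split C Q, ∀ c : ℤ, (∀ s ∈ 𝔍, (Sp'.χ : G → ℂ) s = (c : ℂ)) →
      c = (Sp'.mult (P.irrPr (trivChar P.S) (trivChar P.O)) : ℤ) -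
        (Sp'.mult (P.irrPr α₀ (trivChar P.O)) : ℤ) := by
    intro Sp' c hc
    have hv := Sp'.value_S hS h2 Rl hN hCS hs1
    rw [hc s hs, Split.psi, ← Finset.add_sum_erase _ _ (Finset.mem_univ (trivChar P.S)), trivChar_apply,
      mul_one, Finset.sum_congr rfl (g := fun α : Cfsg.IrrCharacter P.S =>
        (Sp'.mult (P.irrPr α₀ (trivChar P.O)) : ℂ) * ((α : P.S → ℂ) 1 * (α : P.S → ℂ) sS))
        (fun α hα => ?_), ← Finset.mul_sum] at hv
    · have h0 := sum_degree_mul_apply_of_ne_one hs1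
      rw [← Finset.add_sum_erase _ _ (Finset.mem_univ (trivChar P.S)), trivChar_apply, trivChar_apply,
        one_mul, add_eq_zero_iff_eq_neg'] at h0
      rw [h0, mul_neg, mul_one, ← sub_eq_add_neg] at hv
      exact_mod_cast hv
    · obtain ⟨l, hl⟩ := exists_linIrr (C := C) hS h2 hab α
      rw [mult_const hS h2 hCS hab hN Sp' hV α α₀ (Finset.ne_of_mem_erase hα) hα₀, ← hl, deg_linIrr, one_mul]
  have hc0 := key Sp c hc
  have hc0' := key Sp.swap c' hc'
  have htriv : P.irrPr (trivChar P.S) (trivChar P.O) = trivChar Q :=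
    Subtype.ext (funext fun y => one_mul (1 : ℂ))
  have ha := Sp.mult_add_swap_triv
  rw [← htriv] at ha
  have hm := Sp.mult_add_swap (θ := P.irrPr α₀ (trivChar P.O)) fun h => hα₀
    (P.irrPr_inj (h.trans htriv.symm)).1
  obtain ⟨l, hl⟩ := exists_linIrr (C := C) hS h2 hab α₀
  rw [deg_irrPr, trivChar_apply, mul_one, ← hl, deg_linIrr, hl] at hm
  have ha' : Sp.mult (P.irrPr (trivChar P.S) (trivChar P.O)) +
      Sp.swap.mult (P.irrPr (trivChar P.S) (trivChar P.O)) = 2 := by exact_mod_cast ha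
  have hm' : Sp.mult (P.irrPr α₀ (trivChar P.O)) + Sp.swap.mult (P.irrPr α₀ (trivChar P.O)) = 1 := by
    exact_mod_cast hm
  obtain ⟨d, hd⟩ : ∃ d : ℕ, (Sp.χ : G → ℂ) 1 = d := IsChar.exists_degree (IsIrr.isCharacter Sp.χ.2)
  obtain ⟨d', hd'⟩ : ∃ d : ℕ, (Sp.swap.χ : G → ℂ) 1 = d := IsChar.exists_degree (IsIrr.isCharacter Sp.swap.χ.2)
  obtain ⟨heq, hM, hd2, hd2'⟩ := Sp.eqn_real hS hc hc' hd hd'
  have h1 : (d : ℝ) ≠ 0 := Nat.cast_ne_zero.2 (by omega)
  have h1' : (d' : ℝ) ≠ 0 := Nat.cast_ne_zero.2 (by omega)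
  field_simp at heq
  have heqZ : c ^ 2 * d' + c' ^ 2 * d = (d : ℤ) * d' := by
    have : ((c ^ 2 * d' + c' ^ 2 * d : ℤ) : ℝ) = (((d : ℤ) * d' : ℤ) : ℝ) := by push_cast; linarith
    exact_mod_cast this
  have hN8 : Nat.card Q = 8 := by
    have hEven := hS.even_card
    rw [even_iff_two_dvd] at hEven
    have hcases : (c = 0 ∧ c' = 1) ∨ (c = 1 ∧ c' = 0) ∨ (c = -1 ∧ c' = 2) ∨ (c = 2 ∧ c' = -1) := by
      omega
    rcases hcases with ⟨rfl, rfl⟩ | ⟨rfl, rfl⟩ | ⟨rfl, rfl⟩ | ⟨rfl, rfl⟩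
    · exfalso
      have : (d' : ℤ) = 1 := by
        have : (d : ℤ) * 1 = d * d' := by linarith
        exact (mul_left_cancel₀ (by exact_mod_cast (show d ≠ 0 by omega)) this).symm
      omega
    · exfalso
      have : (d : ℤ) = 1 := by
        have : (1 : ℤ) * d' = d * d' := by linarith
        exact (mul_right_cancel₀ (by exact_mod_cast (show d' ≠ 0 by omega)) this).symm
      omega
    · have h5 : (d' + 4 * d : ℤ) = d * d' := by linarith
      have h6 : d ≤ 5 := by
        by_contra h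
        have : (6 : ℤ) ≤ d := by exact_mod_cast (not_le.1 h)
        rcases le_or_gt (d' : ℤ) 4 with h7 | h7
        · nlinarith
        · have h8 : (5 : ℤ) ≤ d' := h7
          nlinarith
      interval_cases d <;> omega
    · have h5 : (d + 4 * d' : ℤ) = d * d' := by linarith
      have h6 : d' ≤ 5 := by
        by_contra h
        have : (6 : ℤ) ≤ d' := by exact_mod_cast (not_le.1 h)
        rcases le_or_gt (d : ℤ) 4 with h7 | h7
        · nlinarith
        · have h8 : (5 : ℤ) ≤ d := h7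
          nlinarith
      interval_cases d' <;> omega
  obtain ⟨n, hn, hqn⟩ := exists_pow_two hS h2
  have hdvd : qq G a ∣ Nat.card P.S := by
    rw [← card_ZJ hS h2]; exact Subgroup.card_dvd_of_le (P.ZJ_le hS h2)
  have hSQ : Nat.card P.S * Nat.card P.O = 8 := by rw [← P.card_eq, hN8]
  have hO1 : Nat.card P.O = 1 := by
    have hd8 : Nat.card P.O ∣ 2 ^ 3 := Dvd.intro_left _ hSQ
    exact Nat.eq_one_of_dvd_coprimes (Nat.Coprime.pow_left 3 P.odd.coprime_two_left) hd8 dvd_rfl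
  have hS8 : Nat.card P.S = 8 := by rw [hO1, mul_one] at hSQ; exact hSQ
  rw [hqn, hS8, show (8 : ℕ) = 2 ^ 3 from rfl, Nat.pow_dvd_pow_iff_le_right (by norm_num)] at hdvd
  rw [hN8, hqn]
  rcases (show n = 2 ∨ n = 3 by omega) with rfl | rfl
  · exfalso
    have hne : ¬ P.S ≤ involutionGroup hS h2 := fun hle => by
      have := Nat.le_of_dvd Nat.card_pos (Subgroup.card_dvd_of_le hle)
      rw [card_ZJ hS h2, hqn, hS8] at this
      norm_num at this
    obtain ⟨x₀, hx₀, hsq⟩ := exists_order_four hS h2 hne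
    let sq : P.S →* P.S :=
      { toFun := fun x => x * x
        map_one' := one_mul 1
        map_mul' := fun x y => by
          have hc : y * x = x * y := Subtype.ext (hab y y.2 x x.2)
          calc x * y * (x * y) = x * (y * x) * y := by group
            _ = x * x * (y * y) := by rw [hc]; group }
    have hker : sq.ker = (involutionGroup hS h2).subgroupOf P.S := by
      ext x
      rw [MonoidHom.mem_ker, Subgroup.mem_subgroupOf]
      constructor
      · exact fun h => eq_one_or_J hS (P.S_le x.2) (congrArg Subtype.val h)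
      · rintro (h | h)
        · exact Subtype.ext (show (x : G) * x = 1 by rw [h, one_mul])
        · exact Subtype.ext h.2.2
    have himg : (involutionGroup hS h2).subgroupOf P.S ≤ sq.range := fun x hx => by
      rcases Subgroup.mem_subgroupOf.1 hx with h | h
      · exact ⟨1, Subtype.ext (by rw [h]; exact congrArg Subtype.val (one_mul (1 : P.S)))⟩
      · obtain ⟨y, hy, hyy⟩ := exists_sqrt hS h2 hx₀ hsq h
        exact ⟨⟨y, hy⟩, Subtype.ext hyy⟩
    have hcZ : Nat.card ↥((involutionGroup hS h2).subgroupOf P.S) = 4 := by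
      rw [Nat.card_congr (Subgroup.subgroupOfEquivOfLe (P.ZJ_le hS h2)).toEquiv, card_ZJ hS h2, hqn]
      norm_num
    have hcr := Subgroup.card_eq_card_quotient_mul_card_subgroup sq.ker
    rw [Nat.card_congr (QuotientGroup.quotientKerEquivRange sq).toEquiv, hker, hcZ, hS8] at hcr
    have := Nat.le_of_dvd Nat.card_pos (Subgroup.card_dvd_of_le himg)
    omega
  · norm_num

end Chars

end CfsgLib.Lie.RankOneClass
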