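import Cfsg.Agent.Lib.Lie.RankOneClass.Struct
import Cfsg.Agent.Lib.Char.CyclicTI.FrobeniusFormula
import Cfsg.Agent.Lib.LocalEven.Zsigmondy
import Mathlib.RingTheory.RootsOfUnity.PrimitiveRoots

/-!
Owner: helper5. The fixed points in `Q` of an element of prime order of `V` outside `W`.
-/

set_option autoImplicit false
set_option linter.unusedSectionVars false

namespace CfsgLib.Lie.RankOneClass

open MulAction CfsgLib.Lie.RankOne CfsgLib.OddTransitive.RankOne

variable {G Ω : Type*} [Group G] [MulAction G Ω] [Finite G] [FaithfulSMul G Ω] {a : Ω} {t : G}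
  {Q : Subgroup G} {F : Type} [Field F] [Fintype F] (C : Coord a t F)

local notation "𝔇" => ((stabilizer G a ⊓ stabilizer G (t • a)) : Subgroup G)
local notation "𝔎" => Cfsg.invertedBy (stabilizer G a ⊓ stabilizer G (t • a)) t
local notation "𝔍" => Cfsg.involutionsIn (stabilizer G a : Set G)

variable (hS : Cfsg.IsRankOneSetup G Ω a t Q)
include hS

/-- Conjugation of an inverted element by an element of `V`, in coordinates. -/
theorem Coord.k_conj_Vg {v : G} (hv : v ∈ Vg a t) (l : Fˣ) :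
    v * C.k l * v⁻¹ = C.k (Units.map (C.autV hv).toRingHom.toMonoidHom l) := by
  have hvt := (mem_Vg.1 hv).2
  have hk := C.k_mem l
  have hmem : v * C.k l * v⁻¹ ∈ 𝔎 := by
    refine ⟨mul_mem (mul_mem (mem_Vg.1 hv).1 hk.1) (inv_mem (mem_Vg.1 hv).1), ?_⟩
    have hc : Commute t v := hvt.symm
    calc t * (v * C.k l * v⁻¹) * t⁻¹ = (t * v) * C.k l * (t * v)⁻¹ := by group
      _ = (v * t) * C.k l * (v * t)⁻¹ := by rw [hc.eq]
      _ = v * (t * C.k l * t⁻¹) * v⁻¹ := by group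
      _ = (v * C.k l * v⁻¹)⁻¹ := by rw [hk.2]; group
  obtain ⟨m, hm⟩ := C.k_surj _ hmem
  have h1 : C.k m * C.z 1 * (C.k m)⁻¹ = C.z (C.autV hv l) := by
    have hv1 : v⁻¹ * C.z 1 * v = C.z 1 := by
      rw [mul_assoc, ← (C.vee v (mem_Vg.1 hv).1).1 hv, inv_mul_cancel_left]
    calc C.k m * C.z 1 * (C.k m)⁻¹ = v * (C.k l * (v⁻¹ * C.z 1 * v) * (C.k l)⁻¹) * v⁻¹ := by rw [hm]; group
      _ = C.z (C.autV hv l) := by rw [hv1, C.k_conj, mul_one, C.conj_Vg hS hv]
  rw [C.k_conj, mul_one] at h1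
  rw [← hm]
  exact congrArg C.k (Units.ext (C.z_inj h1))

/-- The units fixed by an element of `V`. -/
theorem Coord.orderOf_dvd_of_fix {v : G} (hv : v ∈ Vg a t) {l : Fˣ} (h : C.autV hv (l : F) = l) :
    orderOf l ∣ qx a v - 1 := by
  classical
  let H : Subgroup Fˣ := (Units.map (C.autV hv).toRingHom.toMonoidHom).eqLocus (MonoidHom.id _)
  have hl : l ∈ H := Units.ext h
  have hcard : Nat.card H = qx a v - 1 := by
    rw [qx, Nat.add_sub_cancel]
    refine Nat.card_eq_of_bijective (fun u => (⟨C.z ((u : Fˣ) : F), C.z_mem _ (Units.ne_zero _),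
      (C.commute_z hS hv _).2 (congrArg Units.val u.2)⟩ : {s : G // s ∈ 𝔍 ∧ v * s = s * v}))
      ⟨fun u w e => Subtype.ext (Units.ext (C.z_inj (congrArg Subtype.val e :))), fun s => ?_⟩
    obtain ⟨y, hy⟩ := C.z_surj s s.2.1
    have hy0 : y ≠ 0 := fun h => s.2.1.2.1 (by rw [← hy, h, C.z_zero])
    exact ⟨⟨Units.mk0 y hy0, Units.ext ((C.commute_z hS hv y).1 (hy ▸ s.2.2))⟩, Subtype.ext hy⟩
  rw [← hcard]
  exact H.orderOf_dvd_natCard hl

/-- The fixed field of an element of prime order of `V` outside `W`. -/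
theorem Coord.card_eq_qx_pow {v : G} (hv : v ∈ Vg a t) {p : ℕ} (hp : p.Prime) (hvo : orderOf v = p)
    (hW : C.autV hv ≠ 1) : orderOf (C.autV hv) = p ∧ qq G a = qx a v ^ p := by
  haveI : Finite (F ≃+* F) := Finite.of_injective (fun σ : F ≃+* F => (σ : F → F)) DFunLike.coe_injective
  haveI := Fact.mk hp
  have ho : orderOf (C.autV hv) = p := by
    refine orderOf_eq_prime ?_ hW
    rw [Coord.autV, ← map_pow]
    refine (congrArg C.aut (Subtype.ext ?_)).trans (map_one _)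
    rw [SubmonoidClass.coe_pow, Subgroup.coe_one, ← hvo, pow_orderOf_eq_one]
  refine ⟨ho, ?_⟩
  have h1 := card_eq_pow_card (Subgroup.zpowers (C.autV hv))
  rw [C.card_field, Nat.card_zpowers, ho] at h1
  rw [h1, C.qx_eq hS hv]
  refine congrArg (· ^ p) (Nat.card_congr (Equiv.subtypeEquivRight fun y => ?_))
  refine ⟨fun hy => hy _ (Subgroup.mem_zpowers _), fun hy σ hσ => ?_⟩
  obtain ⟨i, rfl⟩ := Subgroup.mem_zpowers_iff.1 hσ
  have hsm : C.autV hv • y = y := hy
  exact (Subgroup.zpow_mem (stabilizer (F ≃+* F) y) hsm i :)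

variable (h2 : ∃ x y : G, x ≠ 1 ∧ y ≠ 1 ∧ x ≠ y ∧ x * x = 1 ∧ y * y = 1 ∧ x * y = y * x)
  (hN : NoExt t Q) (hCS : CentShape a t Q)
include h2 hN hCS C

/-- The order of `Q` is a power of the number of fixed points. -/
theorem card_Q_eq_cent_pow {v : G} (hv : v ∈ Vg a t) {p : ℕ} (hp : p.Prime) (hvo : orderOf v = p)
    (hW : v ∉ Wg a t) :
    Nat.card Q = Nat.card ↥(Q ⊓ Subgroup.centralizer ({v} : Set G)) ^ p := by
  classical
  haveI := Fact.mk hp
  have hp2 : p ≠ 2 := fun h => by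
    have := D_odd hS (mem_Vg.1 hv).1
    rw [hvo, h] at this
    exact Nat.not_odd_iff_even.2 even_two this
  obtain ⟨hao, hq⟩ := C.card_eq_qx_pow hS hv hp hvo fun h => hW ((C.aut_Vg_eq_one hS hv).1 h)
  obtain ⟨m, hm1, hm⟩ := C.qx_pow_two hS h2 hv
  obtain ⟨r, hr, hrd, hrk⟩ := CfsgLib.Zsigmondy.exists_primitive_prime_divisor (a := qx a v) (n := p)
    (by rw [hm]; exact Nat.one_lt_two_pow (by omega)) hp.one_lt
    (fun h => by rw [h.2] at hp; norm_num at hp) (fun h => hp2 h.1)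
  haveI := Fact.mk hr
  have hru : r ∣ Nat.card Fˣ := by rw [Nat.card_units, C.card_field, hq]; exact hrd
  obtain ⟨l, hl⟩ := exists_prime_orderOf_dvd_card' r hru
  have hnfix : C.autV hv (l : F) ≠ l := fun h => by
    have h1 := C.orderOf_dvd_of_fix hS hv h
    rw [hl] at h1
    exact hrk 1 one_pos hp.one_lt (by rw [pow_one]; exact h1)
  let kh : Fˣ →* G := MonoidHom.mk' C.k C.k_mul
  set U := (Subgroup.zpowers l).map kh with hU
  set E := Subgroup.zpowers v with hE
  have hUK : ∀ u ∈ U, ∃ j : Fˣ, j ∈ Subgroup.zpowers l ∧ u = C.k j := by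
    rintro _ ⟨j, hj, rfl⟩
    exact ⟨j, hj, rfl⟩
  have hσl : Units.map (C.autV hv).toRingHom.toMonoidHom l ∈ Subgroup.zpowers l := by
    have hprim : IsPrimitiveRoot (l : F) r := by
      rw [← hl, ← orderOf_units]
      exact IsPrimitiveRoot.orderOf _
    obtain ⟨i, -, hi⟩ := hprim.eq_pow_of_pow_eq_one (ξ := C.autV hv (l : F))
      (by rw [← map_pow, hprim.pow_eq_one, map_one])
    exact ⟨(i : ℤ), Units.ext (by
      show ((l ^ (i : ℤ) : Fˣ) : F) = _
      rw [zpow_natCast, Units.val_pow_eq_pow_val]; exact hi)⟩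
  have hUn1 : ∀ u ∈ U, v * u * v⁻¹ ∈ U := fun u hu => by
    obtain ⟨j, hj, rfl⟩ := hUK u hu
    rw [C.k_conj_Vg hS hv]
    refine ⟨_, ?_, rfl⟩
    obtain ⟨i, rfl⟩ := hj
    rw [map_zpow]
    exact zpow_mem hσl i
  have hUn : ∀ e ∈ E, ∀ u ∈ U, e * u * e⁻¹ ∈ U := by
    intro e he
    obtain ⟨i, rfl⟩ := mem_powers_iff_mem_zpowers.2 he
    induction i with
    | zero => intro u hu; simpa using hu
    | succ i ih =>
      intro u hu
      have := hUn1 _ (ih (pow_mem (Subgroup.mem_zpowers v) i) u hu)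
      rwa [show v * (v ^ i * u * (v ^ i)⁻¹) * v⁻¹ = v ^ (i + 1) * u * (v ^ (i + 1))⁻¹ by
        rw [pow_succ']; group] at this
  have hgen : ∀ e ∈ E, e ≠ 1 → v ∈ Subgroup.zpowers e := fun e he he1 => by
    obtain ⟨i, rfl⟩ := Subgroup.mem_zpowers_iff.1 he
    have ho : orderOf (v ^ i) = p := by
      refine orderOf_eq_prime ?_ he1
      rw [← zpow_natCast (v ^ i), ← zpow_mul, mul_comm, zpow_mul, zpow_natCast, ← hvo,
        pow_orderOf_eq_one, one_zpow]
    rw [Subgroup.eq_of_le_of_card_ge (Subgroup.zpowers_le.2 he : Subgroup.zpowers (v ^ i) ≤ E)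
      (by rw [hE, Nat.card_zpowers, Nat.card_zpowers, ho, hvo])]
    exact Subgroup.mem_zpowers v
  have hfpf : ∀ e ∈ E, e ≠ 1 → ∀ u ∈ U, e * u = u * e → u = 1 := by
    intro e he he1 u hu hc
    have hvu : v * u = u * v := by
      obtain ⟨i, hi⟩ := Subgroup.mem_zpowers_iff.1 (hgen e he he1)
      rw [← hi]
      exact ((show Commute e u from hc).zpow_left i).eq
    obtain ⟨j, hj, rfl⟩ := hUK u hu
    have hfix : C.autV hv (j : F) = j := by
      have h1 := C.k_conj_Vg hS hv j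
      rw [hvu, mul_inv_cancel_right] at h1
      exact congrArg Units.val (C.k_inj h1).symm
    have hj1 : j = 1 := by
      by_contra hj1
      have hjo : orderOf j = r := by
        rcases (Nat.dvd_prime hr).1 (hl ▸ orderOf_dvd_of_mem_zpowers hj) with h | h
        · exact absurd (orderOf_eq_one_iff.1 h) hj1
        · exact h
      have h1 := C.orderOf_dvd_of_fix hS hv hfix
      rw [hjo] at h1
      exact hrk 1 one_pos hp.one_lt (by rw [pow_one]; exact h1)
    rw [hj1, C.k_one]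
  have hEV : E ≤ 𝔇 := Subgroup.zpowers_le.2 (mem_Vg.1 hv).1
  have hUD : U ≤ 𝔇 := fun u hu => by
    obtain ⟨j, -, rfl⟩ := hUK u hu
    exact (C.k_mem j).1
  have hUE : U ⊓ E = ⊥ := by
    rw [eq_bot_iff]
    rintro x ⟨hxU, hxE⟩
    obtain ⟨j, -, rfl⟩ := hUK x hxU
    rw [Subgroup.mem_bot]
    exact eq_one_of_Vg_K hS ((Subgroup.zpowers_le.2 hv) hxE) (C.k_mem j)
  haveI := Q_nilpotent hS h2
  have hsol : Group.IsSolvable Q := inferInstance
  have hform := CfsgLib.FrobFix.formula_subgroup U E Q hUE hUn hfpf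
    (fun x hx h hh => Q_conj hS (sup_le hUD hEV hx) hh) hsol
    ((coprime_D_Q hS h2 hCS C hN).symm.coprime_dvd_right (Subgroup.card_dvd_of_le (sup_le hUD hEV)))
  have hUbot : Q ⊓ Subgroup.centralizer (U : Set G) = ⊥ := by
    rw [eq_bot_iff]
    have hk1 : C.k l ≠ 1 := fun h => by
      rw [← C.k_one] at h
      rw [C.k_inj h, orderOf_one] at hl
      exact hr.ne_one hl.symm
    refine le_trans (inf_le_inf_left Q (Subgroup.centralizer_le ?_)) (fixed_point_free hS (C.k_mem l) hk1).le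
    exact Set.singleton_subset_iff.2 ⟨l, Subgroup.mem_zpowers l, rfl⟩
  have hUEbot : Q ⊓ Subgroup.centralizer ((U ⊔ E : Subgroup G) : Set G) = ⊥ := by
    rw [eq_bot_iff, ← hUbot]
    exact inf_le_inf_left Q (Subgroup.centralizer_le (SetLike.coe_subset_coe.2 le_sup_left))
  have hEeq : Q ⊓ Subgroup.centralizer (E : Set G) = Q ⊓ Subgroup.centralizer ({v} : Set G) := by
    rw [hE, Subgroup.zpowers_eq_closure, Subgroup.centralizer_closure]
  rw [hUEbot, hUbot, hEeq, Subgroup.card_bot, one_pow, one_mul, mul_one, hE, Nat.card_zpowers, hvo] at hform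
  exact hform

end CfsgLib.Lie.RankOneClass
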