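import Cfsg.Agent.Lib.Lie.RankOneClass.Values

/-!
Owner: helper5. Numerical data of the exceptional characters, and elementary facts used in the cases.
-/

set_option autoImplicit false
set_option linter.unusedSectionVars false

namespace CfsgLib.Lie.RankOneClass

open MulAction CfsgLib.Lie.RankOne CfsgLib.Char CfsgLib.OddTransitive.RankOne
open scoped ComplexConjugate

variable {G Ω : Type*} [Group G] [MulAction G Ω] [Fintype G] [FaithfulSMul G Ω] {a : Ω} {t : G}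
  {Q : Subgroup G} {F : Type} [Field F] [Fintype F] {C : Coord a t F} [Fintype ↥Q]

local notation "𝔇" => ((stabilizer G a ⊓ stabilizer G (t • a)) : Subgroup G)
local notation "𝔎" => Cfsg.invertedBy (stabilizer G a ⊓ stabilizer G (t • a)) t
local notation "𝔍" => Cfsg.involutionsIn (stabilizer G a : Set G)

variable (hS : Cfsg.IsRankOneSetup G Ω a t Q)
  (h2 : ∃ x y : G, x ≠ 1 ∧ y ≠ 1 ∧ x ≠ y ∧ x * x = 1 ∧ y * y = 1 ∧ x * y = y * x)

/-- Multiplicities are invariant under conjugation. -/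
theorem Split.mult_twI (Sp : Split C Q) (d : 𝔇) (θ : Cfsg.IrrCharacter Q) :
    Sp.mult (twI hS d θ) = Sp.mult θ := by
  have h : Cfsg.classInner (twI hS d θ : ↥Q → ℂ) Sp.res = Cfsg.classInner (θ : ↥Q → ℂ) Sp.res := by
    simp only [Cfsg.classInner]
    congr 1
    refine Fintype.sum_bijective (conjQ hS d)
      ((Finite.surjective_iff_bijective).1 (conjQ_surjective hS d)) _ _ fun y => ?_
    show (θ : ↥Q → ℂ) (conjQ hS d y) * conj (Sp.res y) = _
    congr 2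
    show (Sp.χ : G → ℂ) (y : G) = (Sp.χ : G → ℂ) ((d : G)⁻¹ * y * d)
    have h1 := IsIrr.isClassFunction Sp.χ.2 (y : G) (d : G)⁻¹
    rw [inv_inv] at h1
    exact h1.symm
  rw [Sp.inner_mult, Sp.inner_mult] at h
  exact_mod_cast h

/-- The value of the first exceptional character on the involutions. -/
theorem Split.exists_c (Sp : Split C Q) (hS : Cfsg.IsRankOneSetup G Ω a t Q) :
    ∃ c : ℤ, ∀ s ∈ 𝔍, (Sp.χ : G → ℂ) s = (c : ℂ) := by
  obtain ⟨c, hc⟩ := exists_int_involution Sp.χ hS.ne_one hS.mul_self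
  refine ⟨c, fun s hs => ?_⟩
  obtain ⟨g, hg⟩ := conj_t hS hs.2.1 hs.2.2
  rw [← hc]
  exact ((congrArg (Sp.χ : G → ℂ) hg).symm.trans (IsIrr.isClassFunction Sp.χ.2 s g)).symm

theorem Split.c_add_swap (Sp : Split C Q) (hS : Cfsg.IsRankOneSetup G Ω a t Q) {c c' : ℤ}
    (hc : ∀ s ∈ 𝔍, (Sp.χ : G → ℂ) s = (c : ℂ)) (hc' : ∀ s ∈ 𝔍, (Sp.swap.χ : G → ℂ) s = (c' : ℂ)) :
    c + c' = 1 := by
  obtain ⟨s, hs⟩ := exists_involution hS
  have h : (Sp.χ : G → ℂ) s + (Sp.swap.χ : G → ℂ) s = 1 := Sp.sum_Q s (J_mem_Q hS hs) hs.2.1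
  rw [hc s hs, hc' s hs] at h
  exact_mod_cast h

/-- The equation in real numbers. -/
theorem Split.eqn_real (Sp : Split C Q) (hS : Cfsg.IsRankOneSetup G Ω a t Q) {c c' : ℤ}
    (hc : ∀ s ∈ 𝔍, (Sp.χ : G → ℂ) s = (c : ℂ)) (hc' : ∀ s ∈ 𝔍, (Sp.swap.χ : G → ℂ) s = (c' : ℂ))
    {d d' : ℕ} (hd : (Sp.χ : G → ℂ) 1 = d) (hd' : (Sp.swap.χ : G → ℂ) 1 = d') :
    (c : ℝ) ^ 2 / d + (c' : ℝ) ^ 2 / d' = 1 ∧ d + d' = Nat.card Q + 1 ∧ 2 ≤ d ∧ 2 ≤ d' := by
  obtain ⟨s, hs⟩ := exists_involution hS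
  have h := Sp.eqn s hs
  rw [hc s hs, show (Sp.χ' : G → ℂ) s = (c' : ℂ) from hc' s hs, hd,
    show (Sp.χ' : G → ℂ) 1 = (d' : ℂ) from hd'] at h
  have hsum := Sp.sum_one
  rw [hd, show (Sp.χ' : G → ℂ) 1 = (d' : ℂ) from hd'] at hsum
  obtain ⟨n, hn, hnd⟩ := IsIrr.exists_degree Sp.χ.2
  obtain ⟨n', hn', hnd'⟩ := IsIrr.exists_degree Sp.swap.χ.2
  have e : n = d := by rw [hd] at hnd; exact_mod_cast hnd.symm
  have e' : n' = d' := by rw [hd'] at hnd'; exact_mod_cast hnd'.symm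
  subst e e'
  refine ⟨?_, by exact_mod_cast hsum, ?_, ?_⟩
  · have h1 : (((c : ℝ) ^ 2 / n + (c' : ℝ) ^ 2 / n' : ℝ) : ℂ) = ((1 : ℝ) : ℂ) := by
      push_cast
      exact h
    exact_mod_cast h1
  · have := Sp.not_linear
    rw [hd, Nat.cast_ne_one] at this
    omega
  · have := Sp.not_linear'
    rw [show (Sp.χ' : G → ℂ) 1 = (n' : ℂ) from hd', Nat.cast_ne_one] at this
    omega

include hS in
/-- An element of `D` acting trivially on a linear functional of the involutions is not inverted. -/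
theorem fixedPt_free_S {P : QDec Q} {k : 𝔇} (hk : (k : G) ∈ 𝔎) {α : P.S →* ℂˣ}
    (h2' : ∃ x y : G, x ≠ 1 ∧ y ≠ 1 ∧ x ≠ y ∧ x * x = 1 ∧ y * y = 1 ∧ x * y = y * x)
    (hfix : ∀ s : P.S, (s : G) ∈ involutionGroup hS h2' → α (conjS hS P k s) = α s)
    {s₀ : P.S} (hs₀ : (s₀ : G) ∈ involutionGroup hS h2') (hne : α s₀ ≠ 1) : k = 1 := by
  classical
  by_contra hk1
  have hk1' : (k : G) ≠ 1 := fun h => hk1 (Subtype.ext h)
  have hmem : ∀ z : ↥(involutionGroup hS h2'), (z : G)⁻¹ * ((k : G)⁻¹ * z * k) ∈ involutionGroup hS h2' :=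
    fun z => by
      refine mul_mem (inv_mem z.2) ?_
      rcases z.2 with h | h
      · exact Or.inl (by rw [h, mul_one, inv_mul_cancel])
      · exact Or.inr (conj_J hS k h)
  let f : ↥(involutionGroup hS h2') → ↥(involutionGroup hS h2') := fun z => ⟨_, hmem z⟩
  have hf : Function.Injective f := fun z w h => by
    have h1 : (z : G)⁻¹ * ((k : G)⁻¹ * z * k) = (w : G)⁻¹ * ((k : G)⁻¹ * w * k) := congrArg Subtype.val h
    refine (Subtype.ext (mul_inv_eq_one.1 ?_)).symm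
    have h3 : (k : G)⁻¹ * ((w : G) * (z : G)⁻¹) * k = (w : G) * (z : G)⁻¹ := by
      calc (k : G)⁻¹ * ((w : G) * (z : G)⁻¹) * k
          = ((w : G) * ((w : G)⁻¹ * ((k : G)⁻¹ * w * k))) * ((z : G) * ((z : G)⁻¹ * ((k : G)⁻¹ * z * k)))⁻¹ := by group
        _ = ((w : G) * ((z : G)⁻¹ * ((k : G)⁻¹ * z * k))) * ((z : G) * ((z : G)⁻¹ * ((k : G)⁻¹ * z * k)))⁻¹ := by rw [h1]
        _ = (w : G) * (z : G)⁻¹ := by group
    have hwz : (w : G) * (z : G)⁻¹ ∈ involutionGroup hS h2' := mul_mem w.2 (inv_mem z.2)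
    rcases hwz with h4 | h4
    · exact h4
    · exact absurd (K_eq_one hS hk h4 h3) hk1'
  obtain ⟨z, hz⟩ := Finite.surjective_of_injective hf ⟨s₀, hs₀⟩
  have hz' : (z : G)⁻¹ * ((k : G)⁻¹ * z * k) = (s₀ : G) := congrArg Subtype.val hz
  have hzS : (z : G) ∈ P.S := P.ZJ_le hS h2' z.2
  refine hne ?_
  have e : s₀ = ⟨(z : G), hzS⟩⁻¹ * conjS hS P k ⟨z, hzS⟩ := Subtype.ext hz'.symm
  rw [e, map_mul, map_inv, hfix ⟨z, hzS⟩ z.2, inv_mul_cancel]

variable (Sp : Split C Q) {P : QDec Q} [Fintype P.S] [Fintype P.O]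
  (Rl : Rel C P) (hN : NoExt t Q) (hCS : CentShape a t Q)
include hS h2 Rl hN hCS

/-- The component over the trivial character in terms of the involutions. -/
theorem Split.numbers [Fintype (Cfsg.IrrCharacter P.S)] {c : ℤ}
    (hc : ∀ s ∈ 𝔍, (Sp.χ : G → ℂ) s = (c : ℂ)) :
    ∃ ψ₁ L₀ T : ℕ, Sp.psi (P := P) 1 = (ψ₁ : ℂ) ∧ (L₀ : ℤ) = c + T ∧
      (ψ₁ : ℤ) + ((qq G a : ℤ) - 1) * c = (qq G a : ℤ) * L₀ := by
  classical
  have hch : Cfsg.IsCharacter P.S (fun s => Sp.psi (P := P) s) := by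
    have h := isCharacter_natCast_sum (G := P.S) fun α : Cfsg.IrrCharacter P.S =>
      Sp.mult (P.irrPr α (trivChar P.O))
    convert h using 1
    funext s
    simp [Split.psi]
  obtain ⟨ψ₁, hψ₁⟩ := IsChar.exists_degree hch
  set Z := (involutionGroup hS h2).subgroupOf P.S with hZ
  haveI := Fintype.ofFinite ↥Z
  obtain ⟨L₀, hL₀⟩ := IsChar.classInner_eq_natCast (IsChar.restrict Z hch) (isCharacter_one (G := ↥Z))
  have hval : ∀ s : P.S, (s : G) ∈ involutionGroup hS h2 → s ≠ 1 → Sp.psi s = (c : ℂ) := fun s hs hs1 => by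
    rcases hs with h | h
    · exact absurd (Subtype.ext h) hs1
    · rw [← Sp.value_S hS h2 Rl hN hCS hs1, hc _ h]
  have hcardZ : Nat.card Z = qq G a := by
    rw [← card_ZJ hS h2]
    exact Nat.card_congr (Subgroup.subgroupOfEquivOfLe (P.ZJ_le hS h2)).toEquiv
  have hq0 : (qq G a : ℂ) ≠ 0 := by rw [← hcardZ]; exact Nat.cast_ne_zero.2 Nat.card_pos.ne'
  have hsum : (ψ₁ : ℂ) + ((qq G a : ℂ) - 1) * c = (qq G a : ℂ) * L₀ := by
    rw [← hL₀, Cfsg.classInner, hcardZ, ← mul_assoc, mul_inv_cancel₀ hq0, one_mul]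
    simp only [map_one, mul_one]
    rw [← Finset.add_sum_erase _ _ (Finset.mem_univ (1 : Z)),
      Finset.sum_congr rfl (fun s hs => hval _ (Subgroup.mem_subgroupOf.1 (s : Z).2) fun h =>
        Finset.ne_of_mem_erase hs (Subtype.ext h)), Finset.sum_const,
      Finset.card_erase_of_mem (Finset.mem_univ _), Finset.card_univ, ← Nat.card_eq_fintype_card, hcardZ,
      nsmul_eq_mul, Nat.cast_sub (by rw [← hcardZ]; exact Nat.card_pos), Nat.cast_one]
    congr 1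
    exact hψ₁.symm
  have hsumZ : (ψ₁ : ℤ) + ((qq G a : ℤ) - 1) * c = (qq G a : ℤ) * L₀ := by exact_mod_cast hsum
  obtain ⟨s, hs⟩ := exists_involution hS
  have hle : c ≤ ψ₁ := by
    have hsS : s ∈ P.S := P.ZJ_le hS h2 (Or.inr hs)
    have h := IsChar.norm_le hch ⟨s, hsS⟩
    rw [hψ₁, hval ⟨s, hsS⟩ (Or.inr hs) (fun h => hs.2.1 (congrArg Subtype.val h))] at h
    rw [Complex.norm_intCast, Complex.norm_natCast] at h
    exact_mod_cast (le_abs_self ((c : ℝ))).trans h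
  have hT : c ≤ L₀ := by
    have hq : (0 : ℤ) < (qq G a : ℤ) := by rw [← hcardZ]; exact_mod_cast Nat.card_pos
    nlinarith
  exact ⟨ψ₁, L₀, (L₀ - c : ℤ).toNat, hψ₁, by rw [Int.toNat_of_nonneg (by omega)]; ring, hsumZ⟩

end CfsgLib.Lie.RankOneClass
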