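import Cfsg.Agent.Lib.Lie.RankOneClass.Coord

/-!
Owner: helper5. Consequences of the field coordinates.
-/

set_option autoImplicit false
set_option linter.unusedSectionVars false

namespace CfsgLib.Lie.RankOneClass

open MulAction CfsgLib.Lie.RankOne

variable {G Ω : Type*} [Group G] [MulAction G Ω] [Finite G] [FaithfulSMul G Ω] {a : Ω} {t : G}
  {Q : Subgroup G} {F : Type} [Field F] [Fintype F] (C : Coord a t F)

local notation "𝔇" => ((stabilizer G a ⊓ stabilizer G (t • a)) : Subgroup G)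
local notation "𝔎" => Cfsg.invertedBy (stabilizer G a ⊓ stabilizer G (t • a)) t
local notation "𝔍" => Cfsg.involutionsIn (stabilizer G a : Set G)

namespace Coord

theorem z_zero : C.z 0 = 1 := by
  have h := C.z_add 0 0
  rw [add_zero] at h
  exact left_eq_mul.1 h

theorem z_one_mem : C.z 1 ∈ 𝔍 := C.z_mem 1 one_ne_zero

theorem z_mem_stab (x : F) : C.z x ∈ stabilizer G a := by
  by_cases hx : x = 0
  · rw [hx, C.z_zero]; exact one_mem _
  · exact (C.z_mem x hx).1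

theorem k_one : C.k 1 = 1 := by
  have h := C.k_mul 1 1
  rw [one_mul] at h
  exact left_eq_mul.1 h

theorem k_inj {l m : Fˣ} (h : C.k l = C.k m) : l = m := by
  have h1 := C.k_conj l 1
  rw [h, C.k_conj m 1, mul_one, mul_one] at h1
  exact Units.ext (C.z_inj h1.symm)

theorem k_inv (l : Fˣ) : C.k l⁻¹ = (C.k l)⁻¹ := by
  refine eq_inv_of_mul_eq_one_left ?_
  rw [← C.k_mul, inv_mul_cancel, C.k_one]

include C in
theorem card_field : Nat.card F = qq G a := by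
  have e : {x : F // x ≠ 0} ≃ 𝔍 := Equiv.ofBijective (fun x => ⟨C.z x, C.z_mem x x.2⟩)
    ⟨fun x y h => Subtype.ext (C.z_inj (congrArg Subtype.val h :)), fun g => by
      obtain ⟨x, hx⟩ := C.z_surj g g.2
      exact ⟨⟨x, fun h => g.2.2.1 (by rw [← hx, h, C.z_zero])⟩, Subtype.ext hx⟩⟩
  rw [qq, ← Nat.card_congr e, Nat.card_congr (unitsEquivNeZero (G₀ := F)).symm, Nat.card_units]
  have := Nat.card_pos (α := F)
  omega

include C in
theorem charTwo : CharP F 2 := by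
  refine (CharP.charP_iff_prime_eq_zero Nat.prime_two).2 ?_
  have h : (1 : F) + 1 = 0 := by
    refine C.z_inj ?_
    rw [C.z_add, C.z_zero]
    exact C.z_one_mem.2.2
  rw [Nat.cast_ofNat, ← one_add_one_eq_two]
  exact h

theorem aut_unique (h : ↥(stabilizer G a)) (m : F) (σ : F ≃+* F)
    (hh : ∀ x : F, (h : G) * C.z x * (h : G)⁻¹ = C.z (m * σ x)) : C.aut h = σ := by
  obtain ⟨m', hm'⟩ := C.aut_conj h
  have h1 : ∀ x, (m' : F) * C.aut h x = m * σ x := fun x => C.z_inj ((hm' x).symm.trans (hh x))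
  have hm : (m' : F) = m := by simpa using h1 1
  refine RingEquiv.ext fun x => mul_left_cancel₀ (Units.ne_zero m') ?_
  rw [h1 x, hm]

/-- The automorphisms commute. -/
theorem aut_comm (σ τ : F ≃+* F) : σ * τ = τ * σ := by
  obtain ⟨g, hg⟩ := IsCyclic.exists_generator (α := Fˣ)
  have key : ∀ ρ : F ≃+* F, ∃ i : ℕ, ρ (g : F) = (g : F) ^ i := fun ρ => by
    obtain ⟨i, hi⟩ := mem_powers_iff_mem_zpowers.2 (hg (Units.map ρ.toRingHom.toMonoidHom g))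
    exact ⟨i, ((congrArg Units.val hi).symm.trans (Units.val_pow_eq_pow_val g i))⟩
  obtain ⟨i, hi⟩ := key σ
  obtain ⟨j, hj⟩ := key τ
  refine RingEquiv.ext fun x => ?_
  show σ (τ x) = τ (σ x)
  by_cases hx : x = 0
  · simp [hx]
  obtain ⟨e, he⟩ := mem_powers_iff_mem_zpowers.2 (hg (Units.mk0 x hx))
  have hxe : x = (g : F) ^ e := ((congrArg Units.val he).symm.trans (Units.val_pow_eq_pow_val g e))
  rw [hxe, map_pow, hj, map_pow, map_pow, hi, map_pow, map_pow, hi, map_pow, hj, ← pow_mul,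
    ← pow_mul, ← pow_mul, ← pow_mul]
  congr 1
  ring

section

variable (hS : Cfsg.IsRankOneSetup G Ω a t Q)
include hS

theorem z_mem_Q (x : F) : C.z x ∈ Q := by
  by_cases hx : x = 0
  · rw [hx, C.z_zero]; exact one_mem _
  · exact J_mem_Q hS (C.z_mem x hx)

theorem conj_Vg {v : G} (hv : v ∈ Vg a t) (x : F) :
    v * C.z x * v⁻¹ = C.z (C.aut ⟨v, (Subgroup.mem_inf.1 (mem_Vg.1 hv).1).1⟩ x) := by
  obtain ⟨m, hm⟩ := C.aut_conj ⟨v, (Subgroup.mem_inf.1 (mem_Vg.1 hv).1).1⟩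
  have h1 := hm 1
  dsimp only at h1 hm
  rw [(C.vee v (mem_Vg.1 hv).1).1 hv, mul_inv_cancel_right, map_one, mul_one] at h1
  rw [hm x, ← C.z_inj h1, one_mul]

theorem aut_K {k : G} (hk : k ∈ 𝔎) :
    C.aut ⟨k, (Subgroup.mem_inf.1 hk.1).1⟩ = 1 := by
  obtain ⟨l, hl⟩ := C.k_surj k hk
  refine C.aut_unique _ l 1 fun x => ?_
  show k * C.z x * k⁻¹ = C.z (l * x)
  rw [← hl, C.k_conj]

theorem aut_Vg_eq_one {v : G} (hv : v ∈ Vg a t) :
    C.aut ⟨v, (Subgroup.mem_inf.1 (mem_Vg.1 hv).1).1⟩ = 1 ↔ v ∈ Wg a t := by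
  constructor
  · intro h
    refine mem_Wg.2 ⟨(mem_Vg.1 hv).1, fun s hs => ?_⟩
    obtain ⟨x, rfl⟩ := C.z_surj s hs
    have := C.conj_Vg hS hv x
    rw [h] at this
    exact mul_inv_eq_iff_eq_mul.1 this
  · intro h
    refine RingEquiv.ext fun x => C.z_inj ?_
    rw [← C.conj_Vg hS hv x]
    show v * C.z x * v⁻¹ = C.z x
    by_cases hx : x = 0
    · rw [hx, C.z_zero, mul_one, mul_inv_cancel]
    · rw [(mem_Wg.1 h).2 _ (C.z_mem x hx), mul_inv_cancel_right]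

theorem aut_split {v k : G} (hv : v ∈ Vg a t) (hk : k ∈ 𝔎) :
    C.aut ⟨v * k, mul_mem (Subgroup.mem_inf.1 (mem_Vg.1 hv).1).1 (Subgroup.mem_inf.1 hk.1).1⟩ =
      C.aut ⟨v, (Subgroup.mem_inf.1 (mem_Vg.1 hv).1).1⟩ := by
  have h := map_mul C.aut ⟨v, (Subgroup.mem_inf.1 (mem_Vg.1 hv).1).1⟩
    ⟨k, (Subgroup.mem_inf.1 hk.1).1⟩
  rw [C.aut_K hS hk, mul_one] at h
  exact h

theorem aut_conj_t {d : G} (hd : d ∈ 𝔇) :
    C.aut ⟨t * d * t, (Subgroup.mem_inf.1 (tDt hS hd)).1⟩ =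
      C.aut ⟨d, (Subgroup.mem_inf.1 hd).1⟩ := by
  obtain ⟨v, hv, k, hk, rfl⟩ := exists_split hS hd
  have hk' : k⁻¹ ∈ 𝔎 := ⟨inv_mem hk.1, by rw [← conj_inv, hk.2]⟩
  have he : t * (v * k) * t = v * k⁻¹ := by
    have h1 := t_conj_inv hS hk
    calc t * (v * k) * t = (t * v) * (k * t) := by group
      _ = (v * t) * (k * t) := by rw [(mem_Vg.1 hv).2]
      _ = v * (t * k * t) := by group
      _ = v * k⁻¹ := by rw [h1]
  rw [C.aut_split hS hv hk]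
  refine Eq.trans ?_ (C.aut_split hS hv hk')
  exact congrArg C.aut (Subtype.ext he)

variable (h2 : ∃ x y : G, x ≠ 1 ∧ y ≠ 1 ∧ x ≠ y ∧ x * x = 1 ∧ y * y = 1 ∧ x * y = y * x)
include h2

theorem Q_comm_z {y : G} (hy : y ∈ Q) (x : F) : y * C.z x = C.z x * y := by
  by_cases hx : x = 0
  · rw [hx, C.z_zero, mul_one, one_mul]
  · exact (J_central hS h2 (C.z_mem x hx) hy).symm

theorem aut_Q {y : G} (hy : y ∈ Q) : C.aut ⟨y, hS.le hy⟩ = 1 := by
  refine C.aut_unique _ 1 1 fun x => ?_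
  show y * C.z x * y⁻¹ = C.z (1 * x)
  rw [one_mul, C.Q_comm_z hS h2 hy, mul_inv_cancel_right]

theorem aut_eq_Vg {h : G} (hh : h ∈ stabilizer G a) :
    ∃ v, ∃ hv : v ∈ Vg a t, C.aut ⟨h, hh⟩ = C.aut ⟨v, (Subgroup.mem_inf.1 (mem_Vg.1 hv).1).1⟩ := by
  obtain ⟨y, hy, d, hd, rfl⟩ := stab_eq_mul hS hh
  obtain ⟨v, hv, k, hk, rfl⟩ := exists_split hS hd
  refine ⟨v, hv, ?_⟩
  have h1 := map_mul C.aut ⟨y, hS.le hy⟩
    ⟨v * k, mul_mem (Subgroup.mem_inf.1 (mem_Vg.1 hv).1).1 (Subgroup.mem_inf.1 hk.1).1⟩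
  rw [C.aut_Q hS h2 hy, one_mul, C.aut_split hS hv hk] at h1
  exact h1

theorem odd_orderOf_aut (h : ↥(stabilizer G a)) : Odd (orderOf (C.aut h)) := by
  obtain ⟨v, hv, he⟩ := C.aut_eq_Vg hS h2 h.2
  rw [he]
  refine (D_odd hS (mem_Vg.1 hv).1).of_dvd_nat ?_
  rw [← Subgroup.orderOf_mk v (Subgroup.mem_inf.1 (mem_Vg.1 hv).1).1]
  exact orderOf_map_dvd C.aut _

end

end Coord

end CfsgLib.Lie.RankOneClass
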