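import Cfsg.Agent.Lib.Lie.RankOneClass.Basic

/-!
Owner: helper5. A normal subgroup containing `Q` and `t` is again a rank one setup.
-/

set_option autoImplicit false
set_option linter.unusedSectionVars false

namespace CfsgLib.Lie.RankOneClass

open MulAction CfsgLib.Lie.RankOne

/-- The shape of the point stabiliser kernel proved in the classification. -/
def Shape {G Ω : Type*} [Group G] [MulAction G Ω] (a : Ω) (t : G) (Q : Subgroup G) : Prop :=
  Nat.card Q = qq G a ∨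
    (¬ (∀ x ∈ Q, ∀ y ∈ Q, x * y = y * x) ∧
      (Nat.card Q = qq G a ^ 2 ∨ (Nat.card Q = qq G a ^ 3 ∧ ∃ w ∈ Wg a t, w ≠ 1)))

variable {G Ω : Type*} [Group G] [MulAction G Ω] [Finite G] [FaithfulSMul G Ω] {a : Ω} {t : G}
  {Q : Subgroup G}

local notation "𝔍" => Cfsg.involutionsIn (stabilizer G a : Set G)

section

variable (hS : Cfsg.IsRankOneSetup G Ω a t Q) (L : Subgroup G)
include hS

theorem involution_mem (hn : L.Normal) (ht : t ∈ L) {u : G} (hu1 : u ≠ 1) (huu : u * u = 1) :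
    u ∈ L := by
  obtain ⟨g, hg⟩ := conj_t hS hu1 huu
  have := hn.conj_mem t ht g⁻¹
  rwa [← hg, show g⁻¹ * (g * u * g⁻¹) * g⁻¹⁻¹ = u by group] at this

theorem setup_subgroup (hQ : Q ≤ L) (ht : t ∈ L) :
    Cfsg.IsRankOneSetup L Ω a ⟨t, ht⟩ (Q.subgroupOf L) := by
  have htra : ∀ c : Ω, ∃ g : L, g • a = c := fun c => by
    by_cases hc : c = a
    · exact ⟨1, by rw [one_smul, hc]⟩
    · obtain ⟨y, hy, he⟩ := exists_smul_eq_ta hS hc
      refine ⟨⟨y * t, mul_mem (hQ hy) ht⟩, ?_⟩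
      show (y * t) • a = c
      rw [mul_smul, he]
  refine
    { two_transitive := MulAction.is_two_pretransitive_iff.2 fun {b₁ b₂ c₁ c₂} hb hc => ?_
      mul_self := Subtype.ext hS.mul_self
      ne_one := fun h => hS.ne_one (congrArg Subtype.val h)
      not_mem := fun h => hS.not_mem h
      le := fun x hx => hS.le (Subgroup.mem_subgroupOf.1 hx)
      conj_mem := fun h hh x hx => Subgroup.mem_subgroupOf.2 (by
        simpa using hS.conj_mem h hh x (Subgroup.mem_subgroupOf.1 hx))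
      inf_eq_bot := ?_
      sup_eq := ?_
      even_card := by rw [Nat.card_congr (Subgroup.subgroupOfEquivOfLe hQ).toEquiv]; exact hS.even_card
      odd_card := ?_ }
  · obtain ⟨g, hg⟩ := htra b₁
    obtain ⟨g', hg'⟩ := htra c₁
    have h1 : g⁻¹ • b₂ ≠ a := fun h => hb (by rw [← hg, ← h, smul_inv_smul])
    have h2 : g'⁻¹ • c₂ ≠ a := fun h => hc (by rw [← hg', ← h, smul_inv_smul])
    obtain ⟨x, hx, -⟩ := existsUnique_smul hS _ _ h1 h2
    refine ⟨g' * ⟨x, hQ x.2⟩ * g⁻¹, ?_, ?_⟩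
    · rw [mul_smul, mul_smul, show g⁻¹ • b₁ = a by rw [← hg, inv_smul_smul],
        show (⟨x, hQ x.2⟩ : L) • a = a from Q_fix hS x.2, hg']
    · rw [mul_smul, mul_smul, show (⟨x, hQ x.2⟩ : L) • (g⁻¹ • b₂) = g'⁻¹ • c₂ from hx, smul_inv_smul]
  · rw [eq_bot_iff]
    intro x hx
    obtain ⟨h1, h2⟩ := Subgroup.mem_inf.1 hx
    exact Subgroup.mem_bot.2 (Subtype.ext (eq_one_of_fix_ta hS (Subgroup.mem_subgroupOf.1 h1) h2))
  · refine le_antisymm (sup_le (fun x hx => hS.le (Subgroup.mem_subgroupOf.1 hx)) inf_le_left)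
      fun g hg => ?_
    obtain ⟨y, hy, d, hd, he⟩ := stab_eq_mul hS (show (g : G) ∈ stabilizer G a from hg)
    have hd' : d ∈ L := by
      rw [show d = y⁻¹ * g by rw [he, inv_mul_cancel_left]]
      exact mul_mem (inv_mem (hQ hy)) g.2
    have hge : g = ⟨y, hQ hy⟩ * ⟨d, hd'⟩ := Subtype.ext he
    rw [hge]
    exact Subgroup.mul_mem_sup (Subgroup.mem_subgroupOf.2 hy)
      (Subgroup.mem_inf.2 ⟨(Subgroup.mem_inf.1 hd).1, (Subgroup.mem_inf.1 hd).2⟩)
  · refine hS.odd_card.of_dvd_nat ?_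
    have e : (stabilizer (↥L) a ⊓ stabilizer (↥L) ((⟨t, ht⟩ : L) • a) : Subgroup L) =
        (stabilizer G a ⊓ stabilizer G (t • a)).subgroupOf L := by
      ext x
      rfl
    rw [e]
    exact Subgroup.card_comap_dvd_of_injective _ _ Subtype.val_injective

theorem faithful_subgroup : FaithfulSMul L Ω :=
  ⟨fun h => Subtype.ext (FaithfulSMul.eq_of_smul_eq_smul h)⟩

theorem two_rank_subgroup (hn : L.Normal) (ht : t ∈ L)
    (h2 : ∃ x y : G, x ≠ 1 ∧ y ≠ 1 ∧ x ≠ y ∧ x * x = 1 ∧ y * y = 1 ∧ x * y = y * x) :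
    ∃ x y : L, x ≠ 1 ∧ y ≠ 1 ∧ x ≠ y ∧ x * x = 1 ∧ y * y = 1 ∧ x * y = y * x := by
  obtain ⟨x, y, hx, hy, hxy, hxx, hyy, hc⟩ := h2
  exact ⟨⟨x, involution_mem hS L hn ht hx hxx⟩, ⟨y, involution_mem hS L hn ht hy hyy⟩,
    fun h => hx (congrArg Subtype.val h), fun h => hy (congrArg Subtype.val h),
    fun h => hxy (congrArg Subtype.val h), Subtype.ext hxx, Subtype.ext hyy, Subtype.ext hc⟩

theorem qq_subgroup (hn : L.Normal) (ht : t ∈ L) : qq (↥L) a = qq G a := by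
  rw [qq, qq]
  refine congrArg (· + 1) (Nat.card_eq_of_bijective
    (fun x : Cfsg.involutionsIn (stabilizer (↥L) a : Set L) => (⟨((x : L) : G), x.2.1,
      fun h => x.2.2.1 (Subtype.ext h), congrArg Subtype.val x.2.2.2⟩ : 𝔍)) ⟨fun x y h => ?_, fun x => ?_⟩)
  · exact Subtype.ext (Subtype.ext (congrArg Subtype.val h :))
  · exact ⟨⟨⟨x, involution_mem hS L hn ht x.2.2.1 x.2.2.2⟩, x.2.1,
      fun h => x.2.2.1 (congrArg Subtype.val h), Subtype.ext x.2.2.2⟩, rfl⟩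

theorem Shape.of_subgroup (hn : L.Normal) (hQ : Q ≤ L) (ht : t ∈ L)
    (h : Shape a (⟨t, ht⟩ : L) (Q.subgroupOf L)) : Shape a t Q := by
  rw [Shape, Nat.card_congr (Subgroup.subgroupOfEquivOfLe hQ).toEquiv, qq_subgroup hS L hn ht] at h
  refine h.imp id fun ⟨hnc, hc⟩ => ⟨fun hcom => hnc fun x hx y hy =>
    Subtype.ext (hcom x (Subgroup.mem_subgroupOf.1 hx) y (Subgroup.mem_subgroupOf.1 hy)), ?_⟩
  refine hc.imp id fun ⟨hN, w, hw, hw1⟩ => ⟨hN, w, ?_, fun h => hw1 (Subtype.ext h)⟩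
  obtain ⟨hwD, hwc⟩ := mem_Wg.1 hw
  refine mem_Wg.2 ⟨hwD, fun s hs => ?_⟩
  exact congrArg Subtype.val (hwc ⟨s, involution_mem hS L hn ht hs.2.1 hs.2.2⟩
    ⟨hs.1, fun h => hs.2.1 (congrArg Subtype.val h), Subtype.ext hs.2.2⟩)

end

end CfsgLib.Lie.RankOneClass
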