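import Cfsg.Agent.Lib.Lie.RankOneClass.Lam
import Cfsg.Agent.Lib.Lie.RankOneNilpotent
import Cfsg.Agent.Lib.Char.Central
import Cfsg.Agent.Lib.Char.Rationality
import Mathlib.RingTheory.IntegralClosure.IntegrallyClosed

/-!
Owner: helper5. The two constituents of an induced character and their values on involutions.
-/

set_option autoImplicit false
set_option linter.unusedSectionVars false

namespace CfsgLib.Lie.RankOneClass

open MulAction CfsgLib.Lie.RankOne CfsgLib.Char
open scoped ComplexConjugate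

section General

variable {X : Type*} [Group X] [Fintype X]

/-- A character of norm two is the sum of two different irreducible characters. -/
theorem exists_two_constituents {ψ : X → ℂ} (h : Cfsg.IsCharacter X ψ)
    (hn : Cfsg.classInner ψ ψ = 2) :
    ∃ χ χ' : Cfsg.IrrCharacter X, χ ≠ χ' ∧ ψ = (χ : X → ℂ) + (χ' : X → ℂ) := by
  classical
  haveI := Fintype.ofFinite (Cfsg.IrrCharacter X)
  obtain ⟨m, rfl⟩ := IsChar.exists_sum h
  have hsum : ∑ χ, m χ * m χ = 2 := by
    have h1 : ((∑ χ, m χ * m χ : ℕ) : ℂ) = ((2 : ℕ) : ℂ) := by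
      rw [Nat.cast_ofNat, ← hn, classInner_sum_right, Nat.cast_sum]
      refine Finset.sum_congr rfl fun χ _ => ?_
      rw [classInner_smul_right, classInner_sum_irr, Complex.conj_natCast, Nat.cast_mul]
    exact_mod_cast h1
  have hle : ∀ χ, m χ ≤ 1 := fun χ => by
    by_contra h2
    have h3 := Finset.single_le_sum (f := fun χ => m χ * m χ) (fun _ _ => Nat.zero_le _) (Finset.mem_univ χ)
    have h4 : 2 * 2 ≤ m χ * m χ := Nat.mul_le_mul (by omega) (by omega)
    omega
  have h01 : ∀ χ, m χ * m χ = if m χ = 1 then 1 else 0 := fun χ => by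
    have := hle χ
    interval_cases m χ <;> simp
  rw [Finset.sum_congr rfl fun χ _ => h01 χ, ← Finset.card_filter] at hsum
  obtain ⟨χ, χ', hne, he⟩ := Finset.card_eq_two.1 hsum
  refine ⟨χ, χ', hne, ?_⟩
  rw [← Finset.sum_subset (Finset.subset_univ ({χ, χ'} : Finset _)) (fun ψ _ hψ => ?_),
    Finset.sum_pair hne]
  · have h1 : ∀ ψ ∈ ({χ, χ'} : Finset _), m ψ = 1 := fun ψ hψ => by
      rw [← he] at hψ
      exact (Finset.mem_filter.1 hψ).2
    rw [h1 χ (by simp), h1 χ' (by simp), Nat.cast_one, one_smul, one_smul]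
  · have h0 : m ψ ≠ 1 := fun h1 => hψ (he ▸ Finset.mem_filter.2 ⟨Finset.mem_univ _, h1⟩)
    have := hle ψ
    rw [show m ψ = 0 by omega, Nat.cast_zero, zero_smul]

/-- The values of a character over the products of two conjugates. -/
theorem sum_class_pairs (χ : Cfsg.IrrCharacter X) (g : X) :
    ∑ x ∈ CharIntegral.classFinset g, ∑ y ∈ CharIntegral.classFinset g, (χ : X → ℂ) (x * y) =
      (CharIntegral.classFinset g).card ^ 2 * (χ : X → ℂ) g ^ 2 / (χ : X → ℂ) 1 := by
  classical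
  obtain ⟨n, ρ, hρ, e⟩ := χ.2
  haveI := hρ
  rw [← e]
  simp only [Representation.character, map_mul]
  rw [Finset.sum_congr rfl (fun x _ => ((map_sum (LinearMap.trace ℂ (Fin n → ℂ)) (fun y => ρ x * ρ y)
    (CharIntegral.classFinset g)).symm.trans (congrArg _ (Finset.mul_sum ..).symm))), ← map_sum,
    ← Finset.sum_mul]
  rw [CharIntegral.classSum_eq_scalar ρ g, ← CharIntegral.card_classFinset, map_one]
  simp only [smul_mul_smul_comm, ← Module.End.one_eq_id, mul_one, map_smul, LinearMap.trace_one,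
    smul_eq_mul, Representation.character]
  have h0 : (Module.finrank ℂ (Fin n → ℂ) : ℂ) ≠ 0 := CharIntegral.finrank_cast_ne_zero ρ
  field_simp

omit [Fintype X] in
/-- Irreducible characters take integer values on involutions. -/
theorem exists_int_involution [Finite X] (χ : Cfsg.IrrCharacter X) {u : X} (hu : u ≠ 1)
    (huu : u * u = 1) : ∃ z : ℤ, (χ : X → ℂ) u = (z : ℂ) := by
  obtain ⟨n, ρ, -, hρ⟩ := χ.2
  have ho : orderOf u = 2 := orderOf_eq_prime (by rw [pow_two]; exact huu) hu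
  obtain ⟨q, hq⟩ := CharRational.exists_rat_of_apply_pow_eq ρ u (fun m hm => by
    have hm2 : Odd m := Nat.not_even_iff_odd.1 fun he => by
      have hdvd : 2 ∣ Nat.gcd m (Nat.card X) :=
        Nat.dvd_gcd (even_iff_two_dvd.1 he) (ho ▸ orderOf_dvd_natCard u)
      rw [hm] at hdvd
      omega
    rw [← pow_mod_orderOf, ho, Nat.odd_iff.1 hm2, pow_one])
  rw [hρ] at hq
  have hint : IsIntegral ℤ ((χ : X → ℂ) u) := by
    rw [← hρ]; exact CharIntegral.isIntegral_character ρ u
  rw [hq, ← eq_ratCast (algebraMap ℚ ℂ) q] at hint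
  obtain ⟨z, hz⟩ := IsIntegrallyClosed.isIntegral_iff.1
    ((isIntegral_algebraMap_iff (algebraMap ℚ ℂ).injective).1 hint)
  refine ⟨z, ?_⟩
  rw [hq, ← hz, eq_intCast, Rat.cast_intCast]

end General

variable {G Ω : Type*} [Group G] [MulAction G Ω] [Finite G] [FaithfulSMul G Ω] {a : Ω} {t : G}
  {Q : Subgroup G}

local notation "𝔇" => ((stabilizer G a ⊓ stabilizer G (t • a)) : Subgroup G)
local notation "𝔎" => Cfsg.invertedBy (stabilizer G a ⊓ stabilizer G (t • a)) t
local notation "𝔍" => Cfsg.involutionsIn (stabilizer G a : Set G)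

variable (hS : Cfsg.IsRankOneSetup G Ω a t Q)
  (h2 : ∃ x y : G, x ≠ 1 ∧ y ≠ 1 ∧ x ≠ y ∧ x * x = 1 ∧ y * y = 1 ∧ x * y = y * x)
include hS

/-- The number of involutions moving a given point to another given point. -/
theorem card_involution_maps [Fintype G] (b c : Ω) [DecidableEq Ω] [DecidableEq G] :
    (Finset.univ.filter fun u : G => u ≠ 1 ∧ u * u = 1 ∧ u • b = c).card = Nat.card 𝔍 := by
  have key : ∀ g : G, (Finset.univ.filter fun u : G => u ≠ 1 ∧ u * u = 1 ∧ u • b = c).card =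
      (Finset.univ.filter fun u : G => u ≠ 1 ∧ u * u = 1 ∧ u • (g • b) = g • c).card := fun g => by
    refine Finset.card_bij' (fun u _ => g * u * g⁻¹) (fun u _ => g⁻¹ * u * g) (fun u hu => ?_)
      (fun u hu => ?_) (fun u _ => by group) (fun u _ => by group)
    · simp only [Finset.mem_filter, Finset.mem_univ, true_and] at hu ⊢
      refine ⟨(conj_involution hS hu.1 hu.2.1 g).1, (conj_involution hS hu.1 hu.2.1 g).2, ?_⟩
      rw [mul_smul, mul_smul, inv_smul_smul, hu.2.2]
    · simp only [Finset.mem_filter, Finset.mem_univ, true_and] at hu ⊢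
      have h' := conj_involution hS hu.1 hu.2.1 g⁻¹
      rw [inv_inv] at h'
      exact ⟨h'.1, h'.2, by rw [mul_smul, mul_smul, hu.2.2, inv_smul_smul]⟩
  by_cases hbc : b = c
  · subst hbc
    obtain ⟨g, hg⟩ := transitive' hS b a
    rw [key g, hg, ← Nat.card_eq_finsetCard]
    refine Nat.card_congr (Equiv.subtypeEquivRight fun u => ?_)
    simp only [Finset.mem_filter, Finset.mem_univ, true_and]
    exact ⟨fun h => ⟨h.2.2, h.1, h.2.1⟩, fun h => ⟨h.2.1, h.2.2, h.1⟩⟩
  · obtain ⟨g, hg1, hg2⟩ := pairs hS hbc (t_smul_ne hS).symm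
    rw [key g, hg1, hg2, ← card_K hS, ← Nat.card_eq_finsetCard]
    refine (Nat.card_eq_of_bijective (fun k : 𝔎 => (⟨t * k, ?_⟩ :
      ↥(Finset.univ.filter fun u : G => u ≠ 1 ∧ u * u = 1 ∧ u • a = t • a)))
      ⟨fun k k' h => Subtype.ext (mul_left_cancel (congrArg Subtype.val h)), fun u => ?_⟩).symm
    · simp only [Finset.mem_filter, Finset.mem_univ, true_and]
      obtain ⟨h1, h2', h3, -⟩ := K_swap hS k.2
      exact ⟨h1, h2', h3⟩
    · obtain ⟨-, -, huu, hua⟩ := Finset.mem_filter.1 u.2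
      exact ⟨⟨t * u, mem_K_of_swap hS huu hua⟩, Subtype.ext (t_mul_t_mul hS (u : G))⟩

theorem mem_classFinset_iff [Fintype G] {s : G} (hs : s ∈ 𝔍) (u : G) :
    u ∈ CharIntegral.classFinset s ↔ u ≠ 1 ∧ u * u = 1 := by
  rw [CharIntegral.mem_classFinset]
  constructor
  · intro h
    obtain ⟨g, rfl⟩ := isConj_iff.1 h
    exact conj_involution hS hs.2.1 hs.2.2 g
  · rintro ⟨hu, huu⟩
    obtain ⟨g, hg⟩ := conj_t hS hu huu
    obtain ⟨g', hg'⟩ := conj_t hS hs.2.1 hs.2.2
    exact isConj_iff.2 ⟨g⁻¹ * g', by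
      rw [show g⁻¹ * g' * s * (g⁻¹ * g')⁻¹ = g⁻¹ * (g' * s * g'⁻¹) * g by group, hg', ← hg]
      group⟩

/-- The permutation character over the products of two involutions. -/
theorem sum_fix_pairs [Fintype G] [Fintype Ω] [DecidableEq Ω] {s : G} (hs : s ∈ 𝔍) :
    ∑ x ∈ CharIntegral.classFinset s, ∑ y ∈ CharIntegral.classFinset s,
      (Finset.univ.filter fun c : Ω => (x * y) • c = c).card =
      (CharIntegral.classFinset s).card ^ 2 := by
  classical
  have hfilt : ∀ b c : Ω, ((CharIntegral.classFinset s).filter fun u => u • b = c) =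
      Finset.univ.filter fun u : G => u ≠ 1 ∧ u * u = 1 ∧ u • b = c := fun b c => by
    ext u
    simp only [Finset.mem_filter, Finset.mem_univ, true_and, mem_classFinset_iff hS hs, and_assoc]
  have hcard : (CharIntegral.classFinset s).card = Fintype.card Ω * Nat.card 𝔍 := by
    rw [Finset.card_eq_sum_card_fiberwise (f := fun u : G => u • a) (t := Finset.univ)
      (fun u _ => Finset.mem_coe.2 (Finset.mem_univ _)),
      Finset.sum_congr rfl fun c _ => (congrArg Finset.card (hfilt a c)).trans (card_involution_maps hS a c),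
      Finset.sum_const, Finset.card_univ, smul_eq_mul]
  have hinner : ∀ x ∈ CharIntegral.classFinset s,
      ∑ y ∈ CharIntegral.classFinset s, (Finset.univ.filter fun c : Ω => (x * y) • c = c).card =
        (CharIntegral.classFinset s).card := fun x hx => by
    simp only [Finset.card_filter]
    rw [Finset.sum_comm, hcard, ← smul_eq_mul, ← Finset.card_univ, ← Finset.sum_const]
    refine Finset.sum_congr rfl fun c _ => ?_
    rw [← Finset.card_filter, ← card_involution_maps hS c (x⁻¹ • c), ← hfilt]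
    refine congrArg Finset.card (Finset.filter_congr fun y _ => ?_)
    rw [mul_smul, eq_inv_smul_iff]
  rw [Finset.sum_congr rfl hinner, Finset.sum_const, smul_eq_mul, sq]

include h2

theorem mul_mem_K {k k' : G} (hk : k ∈ 𝔎) (hk' : k' ∈ 𝔎) : k * k' ∈ 𝔎 := by
  obtain ⟨C, hC, -, -⟩ := CfsgLib.OddTransitive.RankOne.exists_cyclic hS h2
  rw [← hC] at hk hk' ⊢
  exact mul_mem hk hk'

theorem inv_mem_K {k : G} (hk : k ∈ 𝔎) : k⁻¹ ∈ 𝔎 := by
  obtain ⟨C, hC, -, -⟩ := CfsgLib.OddTransitive.RankOne.exists_cyclic hS h2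
  rw [← hC] at hk ⊢
  exact inv_mem hk

/-- A product of two involutions in the point stabiliser is in the kernel. -/
theorem Lam.hom_product (l : Lam a t Q) {x y : G} (hx : x ≠ 1) (hxx : x * x = 1) (hy : y ≠ 1)
    (hyy : y * y = 1) (hm : x * y ∈ stabilizer G a) : l.hom ⟨x * y, hm⟩ = 1 := by
  have hxy : y • a = x • a := by
    have h : (x * y) • a = a := hm
    rw [mul_smul] at h
    calc y • a = x • (x • (y • a)) := by rw [← mul_smul x x, hxx, one_smul]
      _ = x • a := by rw [h]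
  by_cases hxa : x • a = a
  · exact l.map_Q _ (mul_mem (involution_mem_Q hS hxa hxx) (involution_mem_Q hS (hxy.trans hxa) hyy))
  · obtain ⟨z, hz, hzc⟩ := exists_smul_eq_ta hS hxa
    have hza : z • a = a := Q_fix hS hz
    have hsw : ∀ u : G, u * u = 1 → u • a = x • a → t * (z⁻¹ * u * z) ∈ 𝔎 := fun u huu hua => by
      refine mem_K_of_swap hS ?_ ?_
      · rw [show z⁻¹ * u * z * (z⁻¹ * u * z) = z⁻¹ * (u * u) * z by group, huu, mul_one, inv_mul_cancel]
      · rw [mul_smul, mul_smul, hza, hua, ← hzc, inv_smul_smul]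
    have hkx := hsw x hxx rfl
    have hky := hsw y hyy hxy
    have hzS : z ∈ stabilizer G a := hS.le hz
    have hmz : z⁻¹ * (x * y) * z ∈ stabilizer G a := mul_mem (mul_mem (inv_mem hzS) hm) hzS
    have e1 : l.hom ⟨_, hmz⟩ = l.hom ⟨x * y, hm⟩ := by
      rw [show (⟨_, hmz⟩ : ↥(stabilizer G a)) = ⟨z, hzS⟩⁻¹ * ⟨x * y, hm⟩ * ⟨z, hzS⟩ from Subtype.ext rfl,
        map_mul, map_mul, map_inv, mul_comm (l.hom ⟨z, hzS⟩)⁻¹, inv_mul_cancel_right]
    rw [← e1]
    refine l.map_K _ ?_
    show z⁻¹ * (x * y) * z ∈ 𝔎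
    have e2 : z⁻¹ * (x * y) * z = (t * (z⁻¹ * x * z))⁻¹ * (t * (z⁻¹ * y * z)) := by
      conv_lhs => rw [show x * y = x⁻¹ * y by rw [inv_eq_of_mul_eq_one_right hxx]]
      group
    rw [e2]
    exact mul_mem_K hS h2 (inv_mem_K hS h2 hkx) hky

/-- On products of two involutions the induced character counts fixed points. -/
theorem Lam.ind_product [Fintype G] [Fintype Ω] [DecidableEq Ω] (l : Lam a t Q) {x y : G}
    (hx : x ≠ 1) (hxx : x * x = 1) (hy : y ≠ 1) (hyy : y * y = 1) :
    l.ind (x * y) = ((Finset.univ.filter fun c : Ω => (x * y) • c = c).card : ℂ) := by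
  haveI : Fintype 𝔇 := Fintype.ofFinite _
  rw [l.ind_eq_of_const hS (r := 1) fun g hm => ?_, one_mul]
  have hx' := conj_involution hS hx hxx g⁻¹
  have hy' := conj_involution hS hy hyy g⁻¹
  rw [inv_inv] at hx' hy'
  have e : g⁻¹ * (x * y) * g = g⁻¹ * x * g * (g⁻¹ * y * g) := by group
  have hm' : g⁻¹ * x * g * (g⁻¹ * y * g) ∈ stabilizer G a := e ▸ hm
  rw [show (⟨_, hm⟩ : ↥(stabilizer G a)) = ⟨_, hm'⟩ from Subtype.ext e,
    Lam.hom_product hS h2 l hx'.1 hx'.2 hy'.1 hy'.2 hm', Units.val_one]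

/-- The equation for the values of the constituents on involutions. -/
theorem Lam.involution_equation [Fintype G] (l : Lam a t Q) {χ χ' : Cfsg.IrrCharacter G}
    (he : l.ind = (χ : G → ℂ) + (χ' : G → ℂ)) {s : G} (hs : s ∈ 𝔍) :
    (χ : G → ℂ) s ^ 2 / (χ : G → ℂ) 1 + (χ' : G → ℂ) s ^ 2 / (χ' : G → ℂ) 1 = 1 := by
  classical
  obtain ⟨_, -⟩ := card_points hS
  haveI := Fintype.ofFinite Ω
  have h1 : ∑ x ∈ CharIntegral.classFinset s, ∑ y ∈ CharIntegral.classFinset s, l.ind (x * y) =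
      ((CharIntegral.classFinset s).card : ℂ) ^ 2 := by
    rw [← Nat.cast_pow, ← sum_fix_pairs hS hs, Nat.cast_sum]
    refine Finset.sum_congr rfl fun x hx => ?_
    rw [Nat.cast_sum]
    refine Finset.sum_congr rfl fun y hy => ?_
    exact Lam.ind_product hS h2 l ((mem_classFinset_iff hS hs x).1 hx).1 ((mem_classFinset_iff hS hs x).1 hx).2
      ((mem_classFinset_iff hS hs y).1 hy).1 ((mem_classFinset_iff hS hs y).1 hy).2
  simp only [he, Pi.add_apply, Finset.sum_add_distrib, sum_class_pairs] at h1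
  have hne : ((CharIntegral.classFinset s).card : ℂ) ^ 2 ≠ 0 := pow_ne_zero _ (Nat.cast_ne_zero.2
    (Finset.card_pos.2 ⟨s, (mem_classFinset_iff hS hs s).2 hs.2⟩).ne')
  rw [mul_div_assoc, mul_div_assoc, ← mul_add] at h1
  exact mul_left_cancel₀ hne (h1.trans (mul_one _).symm)

end CfsgLib.Lie.RankOneClass
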