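import Cfsg.Agent.Lib.Lie.RankOneClass.Mult
import Cfsg.Agent.Lib.Char.Real

/-!
Owner: helper5. The components of the exceptional characters over the odd part of `Q`.
-/

set_option autoImplicit false
set_option linter.unusedSectionVars false

namespace CfsgLib.Lie.RankOneClass

open MulAction CfsgLib.Lie.RankOne CfsgLib.Char
open scoped ComplexConjugate

variable {G Ω : Type*} [Group G] [MulAction G Ω] [Fintype G] [FaithfulSMul G Ω] {a : Ω} {t : G}
  {Q : Subgroup G} {F : Type} [Field F] [Fintype F] (C : Coord a t F) [Fintype ↥Q]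

local notation "𝔇" => ((stabilizer G a ⊓ stabilizer G (t • a)) : Subgroup G)
local notation "𝔎" => Cfsg.invertedBy (stabilizer G a ⊓ stabilizer G (t • a)) t
local notation "𝔍" => Cfsg.involutionsIn (stabilizer G a : Set G)

variable (hS : Cfsg.IsRankOneSetup G Ω a t Q)
  (h2 : ∃ x y : G, x ≠ 1 ∧ y ≠ 1 ∧ x ≠ y ∧ x * x = 1 ∧ y * y = 1 ∧ x * y = y * x)

section Moves

include h2 C

/-- An outer element does not centralise the inverted elements. -/
theorem exists_K_noncomm {d : 𝔇} (hd : C.aut ⟨d, (Subgroup.mem_inf.1 d.2).1⟩ ≠ 1) :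
    ∃ k ∈ 𝔎, (d : G) * k ≠ k * d := by
  by_contra hcon
  push Not at hcon
  obtain ⟨m, hm⟩ := C.aut_conj ⟨d, (Subgroup.mem_inf.1 d.2).1⟩
  refine hd (RingEquiv.ext fun x => ?_)
  by_cases hx : x = 0
  · rw [hx, map_zero, map_zero]
  set l : Fˣ := Units.mk0 x hx
  have hc := hcon _ (C.k_mem l)
  have e1 : (d : G) * (C.k l * C.z 1 * (C.k l)⁻¹) * (d : G)⁻¹ =
      C.k l * ((d : G) * C.z 1 * (d : G)⁻¹) * (C.k l)⁻¹ := by
    calc (d : G) * (C.k l * C.z 1 * (C.k l)⁻¹) * (d : G)⁻¹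
        = ((d : G) * C.k l) * C.z 1 * ((d : G) * C.k l)⁻¹ := by group
      _ = (C.k l * d) * C.z 1 * (C.k l * d)⁻¹ := by rw [hc]
      _ = _ := by group
  rw [C.k_conj, hm, hm, C.k_conj, mul_one] at e1
  have e2 := C.z_inj e1
  rw [Units.val_mk0, map_one, mul_one, mul_comm x] at e2
  exact mul_left_cancel₀ (Units.ne_zero m) e2

include hS

variable (P : QDec Q) (hN : NoExt t Q) (hCS : CentShape a t Q)
include hN hCS

/-- An outer element moves some conjugate under `K` of a nontrivial character of the two-part. -/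
theorem exists_K_moves {d : 𝔇} (hd : C.aut ⟨d, (Subgroup.mem_inf.1 d.2).1⟩ ≠ 1)
    {α : Cfsg.IrrCharacter P.S} (hα : α ≠ trivChar P.S) :
    ∃ k : 𝔇, twS hS P d (twS hS P k α) ≠ twS hS P k α := by
  classical
  by_contra hcon
  push Not at hcon
  obtain ⟨k, hk, hne⟩ := exists_K_noncomm C h2 hd
  obtain ⟨K, hK, -, hn⟩ := CfsgLib.OddTransitive.RankOne.exists_cyclic hS h2
  set e : 𝔇 := ⟨k, hk.1⟩ with he
  set c : 𝔇 := d⁻¹ * (e⁻¹ * d * e) with hc
  have hdd : twS hS P d α = α := by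
    have := hcon 1
    rwa [twS_one] at this
  have hd' : twS hS P d⁻¹ α = α := by
    conv_lhs => rw [← hdd]
    rw [← twS_mul, inv_mul_cancel, twS_one]
  have hee : twS hS P (e⁻¹ * d * e) α = α := by
    rw [twS_mul, twS_mul, hcon e, ← twS_mul, inv_mul_cancel, twS_one]
  have hcfix : twS hS P c α = α := by rw [hc, twS_mul, hee, hd']
  have hcK : (c : G) ∈ 𝔎 := by
    have h1 : (d : G)⁻¹ * k⁻¹ * d ∈ K := by
      have := hn (d : G)⁻¹ (inv_mem d.2) k⁻¹ (inv_mem (by rw [← SetLike.mem_coe, hK]; exact hk))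
      rwa [inv_inv] at this
    rw [← hK, SetLike.mem_coe]
    show (d : G)⁻¹ * (k⁻¹ * d * k) ∈ K
    rw [show (d : G)⁻¹ * (k⁻¹ * d * k) = ((d : G)⁻¹ * k⁻¹ * d) * k by group]
    exact mul_mem h1 (by rw [← SetLike.mem_coe, hK]; exact hk)
  have hc1 : c ≠ 1 := fun h => hne (by
    have h1 : (d : G)⁻¹ * (k⁻¹ * d * k) = 1 := congrArg Subtype.val h
    rw [inv_mul_eq_one] at h1
    conv_rhs => rw [h1]
    group)
  obtain ⟨r, hr, j, hj⟩ := Nat.exists_prime_and_dvd (orderOf_eq_one_iff.not.2 hc1)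
  have hj0 : j ≠ 0 := fun h => (orderOf_pos c).ne' (by rw [hj, h, mul_zero])
  have hord : orderOf (c ^ j) = r := by
    rw [orderOf_pow_of_dvd hj0 ⟨r, by rw [hj, mul_comm]⟩, hj, Nat.mul_div_cancel _ (Nat.pos_of_ne_zero hj0)]
  have hfixj : ∀ i : ℕ, twS hS P (c ^ i) α = α := by
    intro i
    induction i with
    | zero => rw [pow_zero, twS_one]
    | succ i ih => rw [pow_succ, twS_mul, hcfix, ih]
  have hco : ¬ r ∣ Nat.card P.S := fun h => hr.ne_one (Nat.eq_one_of_dvd_coprimes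
    (coprime_D_Q hS h2 hCS C hN) (hord ▸ orderOf_dvd_natCard (c ^ j))
    (h.trans (Subgroup.card_dvd_of_le P.S_le)))
  have hKj : ((c ^ j : 𝔇) : G) ∈ 𝔎 := by
    rw [SubmonoidClass.coe_pow]
    exact K_pow hS hcK j
  obtain ⟨y, hy, hy1, hcy⟩ := exists_fixed_of_fixed_irr P.S hr (d := ((c ^ j : 𝔇) : G))
    (by rw [Subgroup.orderOf_coe, hord])
    (fun y hy => P.conj_S (fun z hz => Q_conj hS (c ^ j).2 hz) hy)
    (fun y hy => by
      have := P.conj_S (d := ((c ^ j : 𝔇) : G)⁻¹) (fun z hz => Q_conj hS (inv_mem (c ^ j).2) hz) hy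
      rwa [inv_inv] at this) hco α hα (fun y => by
      have h := congrFun (congrArg Subtype.val (hfixj j)) ⟨((c ^ j : 𝔇) : G) * y * ((c ^ j : 𝔇) : G)⁻¹,
        P.conj_S (fun z hz => Q_conj hS (c ^ j).2 hz) y.2⟩
      refine h.symm.trans (congrArg (α : P.S → ℂ) (Subtype.ext ?_))
      show ((c ^ j : 𝔇) : G)⁻¹ * (((c ^ j : 𝔇) : G) * y * ((c ^ j : 𝔇) : G)⁻¹) * (c ^ j : 𝔇) = y
      group)
  have hne1 : ((c ^ j : 𝔇) : G) ≠ 1 := fun h => by
    rw [← Subgroup.orderOf_coe, h, orderOf_one] at hord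
    exact hr.ne_one hord.symm
  have h4 : y ∈ Q ⊓ Subgroup.centralizer ({((c ^ j : 𝔇) : G)} : Set G) :=
    Subgroup.mem_inf.2 ⟨P.S_le hy, Subgroup.mem_centralizer_singleton_iff.2 hcy.symm⟩
  rw [fixed_point_free hS hKj hne1] at h4
  exact hy1 (Subgroup.mem_bot.1 h4)

end Moves

section Eta

variable {C} (Sp : Split C Q) {P : QDec Q} (Rl : Rel C P) (hN : NoExt t Q) (hCS : CentShape a t Q)
variable [Fintype P.S] [Fintype P.O] [Fintype ↥((stabilizer G a ⊓ stabilizer G (t • a)) : Subgroup G)]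

theorem twO_conjIrr (d : 𝔇) (η : Cfsg.IrrCharacter P.O) :
    twO hS P d (conjIrr η) = conjIrr (twO hS P d η) := rfl

include h2 hN hCS Sp in
/-- The stabiliser is small compared with the number of pairs. -/
theorem stab_bound {η : Cfsg.IrrCharacter P.O} (hη : η ≠ trivChar P.O) :
    Nat.card (stabO hS P η) + 1 ≤ 2 * Sp.L ∧
      ∀ α : Cfsg.IrrCharacter P.S, stabQ hS (P.irrPr α η : ↥Q → ℂ) = ⊥ ∨
        ∀ d ∈ stabO hS P η, twS hS P d α = α := by
  have hL := Sp.one_le_L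
  rcases stabO_cases hS P h2 C hN hCS hη with hb | ⟨p, hp, hq, hA, hcard, -⟩
  · rw [hb, Subgroup.card_bot]
    refine ⟨by omega, fun α => Or.inl (eq_bot_iff.2 fun d hd => ?_)⟩
    have := ((stabQ_pr hS P d α η).1 hd).2
    rwa [hb] at this
  · have hpL := Sp.L_big p hp hA
    have hp2 : p ≠ 2 := by
      rintro rfl
      haveI : Fact (Nat.Prime 2) := ⟨Nat.prime_two⟩
      obtain ⟨d, hd⟩ := exists_prime_orderOf_dvd_card' (G := stabO hS P η) 2 (by rw [hcard])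
      have hodd : Odd (orderOf ((d : 𝔇) : G)) := D_odd hS (d : 𝔇).2
      rw [Subgroup.orderOf_coe, Subgroup.orderOf_coe, hd] at hodd
      exact Nat.not_odd_iff_even.2 even_two hodd
    refine ⟨by rw [hcard]; have := hp.two_le; omega, fun α => ?_⟩
    have hle : stabQ hS (P.irrPr α η : ↥Q → ℂ) ≤ stabO hS P η := fun d hd => ((stabQ_pr hS P d α η).1 hd).2
    rcases (Nat.dvd_prime hp).1 (hcard ▸ Subgroup.card_dvd_of_le hle) with h | h
    · exact Or.inl (Subgroup.eq_bot_of_card_eq _ h)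
    · have he := Subgroup.eq_of_le_of_card_ge hle (by rw [h, hcard])
      exact Or.inr fun d hd => ((stabQ_pr hS P d α η).1 (he ▸ hd)).1

open Classical in
include h2 hN hCS Sp in
/-- Half of the linear characters give products with trivial stabiliser. -/
theorem card_free_lin {η : Cfsg.IrrCharacter P.O} (hη : η ≠ trivChar P.O) [Fintype ↥Rl.lin] :
    Nat.card ↥Rl.lin ≤ 2 * (Finset.univ.filter fun α : ↥Rl.lin =>
      stabQ hS (P.irrPr (Rel.linIrr (α : P.S →* ℂˣ)) η : ↥Q → ℂ) = ⊥).card := by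
  set F0 := Finset.univ.filter fun α : ↥Rl.lin =>
      stabQ hS (P.irrPr (Rel.linIrr (α : P.S →* ℂˣ)) η : ↥Q → ℂ) = ⊥ with hF0
  by_cases hall : ∀ α : ↥Rl.lin, α ∈ F0
  · rw [Finset.eq_univ_iff_forall.2 hall, Finset.card_univ, Nat.card_eq_fintype_card]
    omega
  push Not at hall
  obtain ⟨α₀, hα₀⟩ := hall
  have hb : stabO hS P η ≠ ⊥ := fun hb => hα₀ (Finset.mem_filter.2 ⟨Finset.mem_univ _,
    eq_bot_iff.2 fun d hd => by
      have := ((stabQ_pr hS P d _ η).1 hd).2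
      rwa [hb] at this⟩)
  rcases stabO_cases hS P h2 C hN hCS hη with h | ⟨p, -, -, -, -, haut⟩
  · exact absurd h hb
  obtain ⟨d, hd, hd1⟩ := (stabO hS P η).bot_or_exists_ne_one.resolve_left hb
  have hne := Rl.fixedLin_ne_top hS hd (haut d hd hd1)
  have h2le : 2 * Nat.card (Rl.fixedLin hS (stabO hS P η)) ≤ Nat.card ↥Rl.lin := by
    rw [mul_comm, ← Subgroup.card_mul_index (Rl.fixedLin hS (stabO hS P η))]
    exact Nat.mul_le_mul_left _ (Subgroup.one_lt_index_of_ne_top hne)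
  have hsub : Finset.univ.filter (fun α : ↥Rl.lin => α ∈ Rl.fixedLin hS (stabO hS P η)) ⊇ F0ᶜ := by
    intro α hα
    refine Finset.mem_filter.2 ⟨Finset.mem_univ _, fun e he => ?_⟩
    rcases (stab_bound hS h2 Sp hN hCS hη).2 (Rel.linIrr (α : P.S →* ℂˣ)) with h | h
    · exact ((Finset.mem_compl.1 hα) (Finset.mem_filter.2 ⟨Finset.mem_univ _, h⟩)).elim
    · exact Rel.linIrr_injective (h e he)
  have h3 := Finset.card_le_card hsub
  have hcf : (Finset.univ.filter fun α : ↥Rl.lin => α ∈ Rl.fixedLin hS (stabO hS P η)).card =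
      Nat.card (Rl.fixedLin hS (stabO hS P η)) := by
    rw [← Fintype.card_subtype, ← Nat.card_eq_fintype_card]
  rw [Finset.card_compl, hcf, ← Nat.card_eq_fintype_card] at h3
  omega

theorem deg_irrPr (α : Cfsg.IrrCharacter P.S) (η : Cfsg.IrrCharacter P.O) :
    (P.irrPr α η : ↥Q → ℂ) 1 = (α : P.S → ℂ) 1 * (η : P.O → ℂ) 1 := P.pr_one _ _

theorem deg_linIrr (α : P.S →* ℂˣ) : (Rel.linIrr α : P.S → ℂ) 1 = 1 := by
  rw [Rel.linIrr_apply, map_one, Units.val_one]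

theorem irrPr_ne_triv {η : Cfsg.IrrCharacter P.O} (hη : η ≠ trivChar P.O) (α : Cfsg.IrrCharacter P.S) :
    P.irrPr α η ≠ trivChar Q := fun h => hη (P.irrPr_triv α η h)

include h2 hN hCS Rl in
/-- On each component over the odd part the multiplicities are proportional to the degrees. -/
theorem mult_eta {η : Cfsg.IrrCharacter P.O} (hη : η ≠ trivChar P.O) :
    ∃ α₀ : P.S →* ℂˣ, stabQ hS (P.irrPr (Rel.linIrr α₀) η : ↥Q → ℂ) = ⊥ ∧
      ∀ α : Cfsg.IrrCharacter P.S, (Sp.mult (P.irrPr α η) : ℂ) =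
        (Sp.mult (P.irrPr (Rel.linIrr α₀) η) : ℂ) * (α : P.S → ℂ) 1 := by
  classical
  haveI : Finite (P.S →* ℂˣ) := Finite.of_injective Rel.linIrr Rel.linIrr_injective
  haveI := Fintype.ofFinite ↥Rl.lin
  obtain ⟨hbound, hdich⟩ := stab_bound hS h2 Sp hN hCS hη
  have hL := Sp.one_le_L
  have hfree := card_free_lin hS h2 Sp Rl hN hCS hη
  set F0 := Finset.univ.filter fun α : ↥Rl.lin =>
    stabQ hS (P.irrPr (Rel.linIrr (α : P.S →* ℂˣ)) η : ↥Q → ℂ) = ⊥ with hF0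
  obtain ⟨α₀, hα₀⟩ : F0.Nonempty := Finset.card_pos.1 (by have := Nat.card_pos (α := ↥Rl.lin); omega)
  rw [hF0, Finset.mem_filter] at hα₀
  refine ⟨α₀, hα₀.2, ?_⟩
  set m₀ := Sp.mult (P.irrPr (Rel.linIrr (α₀ : P.S →* ℂˣ)) η) with hm₀
  have hstabbar : ∀ β : Cfsg.IrrCharacter P.S,
      stabQ hS (P.irrPr β (conjIrr η) : ↥Q → ℂ) = stabQ hS (P.irrPr β η : ↥Q → ℂ) := fun β => by
    ext d
    rw [stabQ_pr, stabQ_pr, mem_stabO, mem_stabO, twO_conjIrr]
    exact and_congr_right fun _ => ⟨fun h => by rw [← conjIrr_conjIrr (twO hS P d η), h, conjIrr_conjIrr],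
      fun h => by rw [h]⟩
  have hηne : conjIrr η ≠ η := fun h => hη (real_irr_eq_one_of_odd P.odd η fun g => by
    have h1 := congrFun (congrArg Subtype.val h) g
    rw [conjIrr_apply] at h1
    exact Complex.conj_eq_iff_im.1 h1)
  have hηbar : conjIrr η ≠ trivChar P.O := fun h => hη (by
    rw [← conjIrr_conjIrr η, h]
    exact Subtype.ext (funext fun g => by simp))
  obtain ⟨e, -, hedeg⟩ := IsIrr.exists_degree η.2
  have hebar : (conjIrr η : P.O → ℂ) 1 = (e : ℂ) := by rw [conjIrr_apply, hedeg, Complex.conj_natCast]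
  set Γ : Finset (Cfsg.IrrCharacter Q) :=
    (F0.image fun β : ↥Rl.lin => P.irrPr (Rel.linIrr (β : P.S →* ℂˣ)) η) ∪
      (F0.image fun β : ↥Rl.lin => P.irrPr (Rel.linIrr (β : P.S →* ℂˣ)) (conjIrr η)) with hΓ
  have hmem : ∀ γ ∈ Γ, ∃ β : ↥Rl.lin, ∃ η₁, (η₁ = η ∨ η₁ = conjIrr η) ∧
      γ = P.irrPr (Rel.linIrr (β : P.S →* ℂˣ)) η₁ ∧ stabQ hS (γ : ↥Q → ℂ) = ⊥ := by
    intro γ hγ
    rcases Finset.mem_union.1 hγ with h | h <;> obtain ⟨β, hβ, rfl⟩ := Finset.mem_image.1 h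
    · exact ⟨β, η, Or.inl rfl, rfl, (Finset.mem_filter.1 hβ).2⟩
    · exact ⟨β, _, Or.inr rfl, rfl, (hstabbar _).trans (Finset.mem_filter.1 hβ).2⟩
  have hinj : ∀ η₁, Function.Injective fun β : ↥Rl.lin => P.irrPr (Rel.linIrr (β : P.S →* ℂˣ)) η₁ :=
    fun η₁ β β' h => Subtype.ext (Rel.linIrr_injective (P.irrPr_inj h).1)
  have hΓcard : Γ.card = 2 * F0.card := by
    rw [hΓ, Finset.card_union_of_disjoint, Finset.card_image_of_injective _ (hinj _),
      Finset.card_image_of_injective _ (hinj _), two_mul]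
    rw [Finset.disjoint_left]
    intro γ h h'
    obtain ⟨β, -, rfl⟩ := Finset.mem_image.1 h
    obtain ⟨β', -, he⟩ := Finset.mem_image.1 h'
    exact hηne (P.irrPr_inj he).2
  have hdeg : ∀ γ ∈ Γ, (γ : ↥Q → ℂ) 1 = (e : ℂ) := fun γ hγ => by
    obtain ⟨β, η₁, hη₁, rfl, -⟩ := hmem γ hγ
    rcases hη₁ with rfl | rfl
    · rw [deg_irrPr, deg_linIrr, one_mul, hedeg]
    · rw [deg_irrPr, deg_linIrr, one_mul, hebar]
  have hne : ∀ γ ∈ Γ, γ ≠ trivChar Q := fun γ hγ => by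
    obtain ⟨β, η₁, hη₁, rfl, -⟩ := hmem γ hγ
    rcases hη₁ with rfl | rfl
    · exact irrPr_ne_triv hη _
    · exact irrPr_ne_triv hηbar _
  have hα₀deg : (P.irrPr (Rel.linIrr (α₀ : P.S →* ℂˣ)) η : ↥Q → ℂ) 1 = (e : ℂ) := by
    rw [deg_irrPr, deg_linIrr, one_mul, hedeg]
  have hm : ∀ γ ∈ Γ, Sp.mult γ = m₀ := fun γ hγ => by
    refine pair_eq hS Sp (hne γ hγ) (irrPr_ne_triv hη _) ((hdeg γ hγ).trans hα₀deg.symm) ?_
    obtain ⟨-, -, -, -, hstab⟩ := hmem γ hγ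
    rw [hstab, hα₀.2, Subgroup.card_bot]
    omega
  have hμ : ∀ γ ∈ Γ, (Finset.univ.filter fun d : 𝔇 => ∃ γ' ∈ Γ, γ = twI hS d γ').card ≤
      Nat.card (stabO hS P η) := fun γ hγ => by
    rw [← Nat.card_eq_finsetCard]
    refine Nat.card_le_card_of_injective (fun d => (⟨d.1, ?_⟩ : ↥(stabO hS P η)))
      fun d d' h => Subtype.ext (congrArg (fun z : ↥(stabO hS P η) => (z : 𝔇)) h)
    obtain ⟨γ', hγ', he⟩ := (Finset.mem_filter.1 d.2).2
    obtain ⟨β, η₁, hη₁, rfl, -⟩ := hmem γ hγ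
    obtain ⟨β', η₂, hη₂, rfl, -⟩ := hmem γ' hγ'
    rw [twI_irrPr] at he
    have h := (P.irrPr_inj he).2
    show twO hS P d.1 η = η
    have hswap : twO hS P d.1 η = conjIrr η → twO hS P d.1 η = η := fun h1 => by
      have hsq : d.1 ^ 2 ∈ stabO hS P η := by
        rw [mem_stabO, pow_two, twO_mul, h1, twO_conjIrr, h1, conjIrr_conjIrr]
      have hodd : Odd (orderOf (d.1 : 𝔇)) := by
        rw [← Subgroup.orderOf_coe]
        exact D_odd hS d.1.2
      obtain ⟨i, hi⟩ := hodd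
      have h4 : d.1 = (d.1 ^ 2) ^ (i + 1) := by
        rw [← pow_mul, show 2 * (i + 1) = orderOf (d.1 : 𝔇) + 1 by omega, pow_succ, pow_orderOf_eq_one,
          one_mul]
      exact mem_stabO hS P |>.1 (h4 ▸ pow_mem hsq _)
    rcases hη₁ with rfl | rfl <;> rcases hη₂ with rfl | rfl
    · exact h.symm
    · rw [twO_conjIrr] at h
      exact hswap (by rw [← conjIrr_conjIrr (twO hS P d.1 η₁), ← h])
    · exact hswap h.symm
    · rw [twO_conjIrr] at h
      rw [← conjIrr_conjIrr (twO hS P d.1 η), ← h, conjIrr_conjIrr]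
  have hfreeθ : ∀ β : Cfsg.IrrCharacter P.S, stabQ hS (P.irrPr β η : ↥Q → ℂ) = ⊥ →
      (Sp.mult (P.irrPr β η) : ℂ) = (m₀ : ℂ) * (β : P.S → ℂ) 1 := fun β hβ => by
    obtain ⟨b, -, hb⟩ := IsIrr.exists_degree β.2
    have hsq := Rl.sq_degree_le β hb
    have := avg_eq hS Sp (irrPr_ne_triv hη β) Γ (b := b) (e := e) (m₀ := m₀)
      ⟨_, Finset.mem_union_left _ (Finset.mem_image_of_mem _ (hF0 ▸ Finset.mem_filter.2 hα₀))⟩
      (fun h => hne _ h rfl) hdeg (by rw [deg_irrPr, hb, hedeg]) hm hμ ?_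
    · rw [this, hb, Nat.cast_mul, mul_comm]
    rw [hβ, Subgroup.card_bot, hΓcard]
    have h1 : (b : ℝ) ^ 2 ≤ ((2 * F0.card : ℕ) : ℝ) := by exact_mod_cast hsq.trans hfree
    have h3 : (0 : ℝ) < ((2 * F0.card : ℕ) : ℝ) := by
      have := Nat.card_pos (α := ↥Rl.lin)
      exact_mod_cast (show 0 < 2 * F0.card by omega)
    have h5 : (b : ℝ) ^ 2 * (Nat.card (stabO hS P η) : ℝ) / ((2 * F0.card : ℕ) : ℝ) ≤
        (Nat.card (stabO hS P η) : ℝ) := by
      rw [div_le_iff₀ h3, mul_comm (Nat.card (stabO hS P η) : ℝ)]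
      exact mul_le_mul_of_nonneg_right h1 (Nat.cast_nonneg _)
    have h6 : (Nat.card (stabO hS P η) : ℝ) + 1 ≤ 2 * (Sp.L : ℝ) := by exact_mod_cast hbound
    push_cast at h5 ⊢
    linarith
  intro α
  rcases hdich α with h | h
  · exact hfreeθ α h
  by_cases hb : stabQ hS (P.irrPr α η : ↥Q → ℂ) = ⊥
  · exact hfreeθ α hb
  have hstab : Nat.card (stabQ hS (P.irrPr α η : ↥Q → ℂ)) ≤ Nat.card (stabO hS P η) :=
    Nat.card_le_card_of_injective (Subgroup.inclusion fun d hd => ((stabQ_pr hS P d α η).1 hd).2)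
      (Subgroup.inclusion_injective _)
  by_cases hα : α = trivChar P.S
  · have he : Sp.mult (P.irrPr α η) = m₀ := pair_eq hS Sp (irrPr_ne_triv hη _) (irrPr_ne_triv hη _)
      (by rw [deg_irrPr, deg_irrPr, hα, trivChar_apply, deg_linIrr]) (by
        rw [hα₀.2, Subgroup.card_bot]; omega)
    rw [he, hα, trivChar_apply, mul_one]
  · obtain ⟨d, hd, hd1⟩ := (stabQ hS (P.irrPr α η : ↥Q → ℂ)).bot_or_exists_ne_one.resolve_left hb
    have hdO := ((stabQ_pr hS P d α η).1 hd).2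
    rcases stabO_cases hS P h2 C hN hCS hη with hbot | ⟨p, -, -, -, -, haut⟩
    · exact absurd (Subgroup.mem_bot.1 (hbot ▸ hdO)) hd1
    obtain ⟨k, hk⟩ := exists_K_moves C hS h2 P hN hCS (haut d hdO hd1) hα
    have hkdeg : (twS hS P k α : P.S → ℂ) 1 = (α : P.S → ℂ) 1 := by
      show (α : P.S → ℂ) (conjS hS P k 1) = _
      rw [map_one]
    rcases hdich (twS hS P k α) with hk' | hk'
    · rw [← hkdeg, ← hfreeθ _ hk']
      refine congrArg Nat.cast (pair_eq hS Sp (irrPr_ne_triv hη _) (irrPr_ne_triv hη _) ?_ ?_)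
      · rw [deg_irrPr, deg_irrPr, hkdeg]
      · rw [hk', Subgroup.card_bot]; omega
    · exact absurd (hk' d hdO) hk

end Eta

end CfsgLib.Lie.RankOneClass
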