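import Cfsg.Agent.Lib.Lie.RankOneClass.OddPart

/-!
Owner: helper5. Tools for a nonabelian two-part: the linear characters modulo the involutions.
-/

set_option autoImplicit false
set_option linter.unusedSectionVars false

namespace CfsgLib.Lie.RankOneClass

open MulAction CfsgLib.Lie.RankOne CfsgLib.Char CfsgLib.OddTransitive.RankOne
open scoped ComplexConjugate

variable {G Ω : Type*} [Group G] [MulAction G Ω] [Fintype G] [FaithfulSMul G Ω] {a : Ω} {t : G}
  {Q : Subgroup G} {F : Type} [Field F] [Fintype F] {C : Coord a t F}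

local notation "𝔇" => ((stabilizer G a ⊓ stabilizer G (t • a)) : Subgroup G)
local notation "𝔎" => Cfsg.invertedBy (stabilizer G a ⊓ stabilizer G (t • a)) t
local notation "𝔍" => Cfsg.involutionsIn (stabilizer G a : Set G)

theorem QDec.S_eq (P : QDec Q) (h : Nat.card P.O = 1) : P.S = Q := by
  refine le_antisymm P.S_le fun y hy => ?_
  obtain ⟨s, hs, o, ho, rfl⟩ := P.prod y hy
  rw [Subgroup.eq_bot_of_card_eq P.O h, Subgroup.mem_bot] at ho
  rw [ho, mul_one]
  exact hs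

variable (hS : Cfsg.IsRankOneSetup G Ω a t Q)
  (h2 : ∃ x y : G, x ≠ 1 ∧ y ≠ 1 ∧ x ≠ y ∧ x * x = 1 ∧ y * y = 1 ∧ x * y = y * x)
  {P : QDec Q}
include hS h2

/-- In the nonabelian case the subgroup is the group of involutions. -/
theorem exists_rel_of_nonabelian (hna : ¬ ∀ x ∈ P.S, ∀ y ∈ P.S, x * y = y * x) :
    ∃ Rl : Rel C P, Rl.R = involutionGroup hS h2 := by
  obtain ⟨hsq, hcm, -⟩ := (P.S_cases hS h2).resolve_left hna
  obtain ⟨x₀, hx₀, hne⟩ : ∃ x₀ ∈ P.S, x₀ * x₀ ≠ 1 := by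
    by_contra h
    push Not at h
    refine hna fun x hx y hy => ?_
    have h1 := inv_eq_of_mul_eq_one_right (h _ (mul_mem hx hy))
    rw [← h1, mul_inv_rev, inv_eq_of_mul_eq_one_right (h x hx), inv_eq_of_mul_eq_one_right (h y hy)]
  refine ⟨⟨involutionGroup hS h2, P.ZJ_le hS h2, fun x hx y hy => ?_, hcm, fun d x hx => ?_,
    fun d hd => moves_mod_J hS h2 hx₀ ((hsq x₀ hx₀).resolve_left hne) hd, Or.inr (card_ZJ hS h2)⟩, rfl⟩
  · rcases hx with h | h
    · rw [h, one_mul, mul_one]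
    · exact J_central hS h2 h (P.S_le hy)
  · rcases hx with h | h
    · exact Or.inl (by rw [h, mul_one, inv_mul_cancel])
    · exact Or.inr (conj_J hS d h)

omit h2 in
/-- An inverted element fixing a nontrivial linear character is trivial. -/
theorem K_eq_one_of_fix {k : 𝔇} (hk : (k : G) ∈ 𝔎) {α : P.S →* ℂˣ}
    (hfix : α.comp (conjS hS P k) = α) (hne : α ≠ 1) : k = 1 := by
  classical
  by_contra hk1
  have hk1' : (k : G) ≠ 1 := fun h => hk1 (Subtype.ext h)
  let f : P.S → P.S := fun y => y⁻¹ * conjS hS P k y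
  have hf : Function.Injective f := fun y z h => by
    have h1 : (y : G)⁻¹ * ((k : G)⁻¹ * y * k) = (z : G)⁻¹ * ((k : G)⁻¹ * z * k) := congrArg Subtype.val h
    refine (Subtype.ext (mul_inv_eq_one.1 ?_)).symm
    have h3 : (k : G)⁻¹ * ((z : G) * (y : G)⁻¹) * k = (z : G) * (y : G)⁻¹ := by
      calc (k : G)⁻¹ * ((z : G) * (y : G)⁻¹) * k
          = ((z : G) * ((z : G)⁻¹ * ((k : G)⁻¹ * z * k))) * ((y : G) * ((y : G)⁻¹ * ((k : G)⁻¹ * y * k)))⁻¹ := by group
        _ = ((z : G) * ((y : G)⁻¹ * ((k : G)⁻¹ * y * k))) * ((y : G) * ((y : G)⁻¹ * ((k : G)⁻¹ * y * k)))⁻¹ := by rw [h1]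
        _ = (z : G) * (y : G)⁻¹ := by group
    have h4 : (z : G) * (y : G)⁻¹ ∈ Q ⊓ Subgroup.centralizer ({(k : G)} : Set G) := by
      refine Subgroup.mem_inf.2 ⟨P.S_le (mul_mem z.2 (inv_mem y.2)), Subgroup.mem_centralizer_singleton_iff.2 ?_⟩
      conv_rhs => rw [← h3]
      group
    rw [fixed_point_free hS hk hk1'] at h4
    exact Subgroup.mem_bot.1 h4
  refine hne (MonoidHom.ext fun s => ?_)
  obtain ⟨y, hy⟩ := Finite.surjective_of_injective hf s
  rw [← hy, map_mul, map_inv, ← MonoidHom.comp_apply α (conjS hS P k), hfix, inv_mul_cancel]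
  rfl

variable [Fintype ↥Q] [Fintype P.S] [Fintype P.O] (Sp : Split C Q) (Rl : Rel C P)
  (hN : NoExt t Q) (hCS : CentShape a t Q)
include hN hCS

open Classical in
/-- The multiplicities of the linear characters add up to the mean value on the involutions. -/
theorem Split.lin_sum [Fintype (Cfsg.IrrCharacter P.S)] [Fintype ↥Rl.lin]
    (hR : Rl.R = involutionGroup hS h2) {c : ℤ} (hc : ∀ s ∈ 𝔍, (Sp.χ : G → ℂ) s = (c : ℂ))
    {ψ₁ : ℕ} (hψ : Sp.psi (P := P) 1 = (ψ₁ : ℂ)) :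
    (ψ₁ : ℤ) + ((qq G a : ℤ) - 1) * c =
      (qq G a : ℤ) * ∑ γ : Rl.lin, (Sp.mult (P.irrPr (Rel.linIrr γ.1) (trivChar P.O)) : ℤ) := by
  haveI := Rl.normal
  letI : CommGroup (P.S ⧸ Rl.R.subgroupOf P.S) :=
    { (inferInstance : Group (P.S ⧸ Rl.R.subgroupOf P.S)) with
      mul_comm := fun u v => by
        obtain ⟨x, rfl⟩ := QuotientGroup.mk'_surjective _ u
        obtain ⟨y, rfl⟩ := QuotientGroup.mk'_surjective _ v
        rw [← map_mul, ← map_mul, QuotientGroup.mk'_apply, QuotientGroup.mk'_apply, QuotientGroup.eq,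
          Subgroup.mem_subgroupOf]
        have h := Rl.comm_mem y y.2 x x.2
        simpa [mul_assoc, mul_inv_rev] using h }
  -- orthogonality of the linear characters
  have horth : ∀ s : P.S, ∑ γ : Rl.lin, ((γ.1 s : ℂˣ) : ℂ) =
      if (s : G) ∈ Rl.R then (Nat.card Rl.lin : ℂ) else 0 := by
    intro s
    split_ifs with hs
    · rw [Finset.sum_congr rfl fun γ _ => by rw [γ.2 s hs, Units.val_one], Finset.sum_const,
        Finset.card_univ, Nat.card_eq_fintype_card, nsmul_eq_mul, mul_one]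
    · obtain ⟨φ, hφ⟩ := CommGroup.exists_apply_ne_one_of_hasEnoughRootsOfUnity (P.S ⧸ Rl.R.subgroupOf P.S) ℂ
        (a := QuotientGroup.mk' _ s) fun h => hs (by
          rw [QuotientGroup.mk'_apply, QuotientGroup.eq_one_iff, Subgroup.mem_subgroupOf] at h
          exact h)
      let γ₀ : Rl.lin := ⟨φ.comp (QuotientGroup.mk' _), fun y hy => by
        rw [MonoidHom.comp_apply, QuotientGroup.mk'_apply,
          (QuotientGroup.eq_one_iff y).2 (Subgroup.mem_subgroupOf.2 hy), map_one]⟩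
      have h1 : ∑ γ : Rl.lin, ((γ.1 s : ℂˣ) : ℂ) =
          ((γ₀.1 s : ℂˣ) : ℂ) * ∑ γ : Rl.lin, ((γ.1 s : ℂˣ) : ℂ) := by
        rw [Finset.mul_sum]
        refine (Fintype.sum_equiv (Equiv.mulLeft γ₀) _ _ fun γ => ?_).symm
        show ((γ₀.1 s : ℂˣ) : ℂ) * _ = (((γ₀.1 * γ.1) s : ℂˣ) : ℂ)
        rw [MonoidHom.mul_apply, Units.val_mul]
      by_contra hne
      exact hφ (Units.ext (mul_eq_right₀ hne |>.1 h1.symm))
  -- the multiplicity as an inner product
  have hm : ∀ γ : Rl.lin, (Sp.mult (P.irrPr (Rel.linIrr γ.1) (trivChar P.O)) : ℂ) =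
      (Nat.card P.S : ℂ)⁻¹ * ∑ s : P.S, Sp.psi s * conj ((γ.1 s : ℂˣ) : ℂ) := by
    intro γ
    rw [← classInner_sum_irr (fun α : Cfsg.IrrCharacter P.S => (Sp.mult (P.irrPr α (trivChar P.O)) : ℂ))
      (Rel.linIrr γ.1), Cfsg.classInner]
    congr 1
    refine Finset.sum_congr rfl fun s _ => ?_
    rw [Rel.linIrr_apply, Split.psi]
    simp only [Finset.sum_apply, Pi.smul_apply, smul_eq_mul]
  have hRc : Nat.card Rl.R = qq G a := by rw [hR, card_ZJ hS h2]
  have hsum : ∑ s : P.S, (if (s : G) ∈ Rl.R then Sp.psi s else 0) =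
      (ψ₁ : ℂ) + ((qq G a : ℂ) - 1) * c := by
    rw [← Finset.sum_filter, ← Finset.add_sum_erase _ _ (Finset.mem_filter.2
      ⟨Finset.mem_univ (1 : P.S), by rw [Subgroup.coe_one]; exact one_mem _⟩), hψ,
      Finset.sum_congr rfl (g := fun _ => (c : ℂ)) fun s hs => ?_, Finset.sum_const,
      Finset.card_erase_of_mem (Finset.mem_filter.2
        ⟨Finset.mem_univ (1 : P.S), by rw [Subgroup.coe_one]; exact one_mem _⟩), nsmul_eq_mul]
    · congr 2
      have h1 : (Finset.univ.filter fun s : P.S => (s : G) ∈ Rl.R).card = qq G a := by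
        rw [← hRc, ← Nat.card_congr (Subgroup.subgroupOfEquivOfLe Rl.le_S).toEquiv,
          Nat.card_eq_fintype_card, ← Fintype.card_subtype]
        exact Fintype.card_congr (Equiv.refl _)
      rw [h1, Nat.cast_sub (by rw [← hRc]; exact Nat.card_pos), Nat.cast_one]
    · have hs1 := Finset.ne_of_mem_erase hs
      have hs2 := (Finset.mem_filter.1 (Finset.mem_of_mem_erase hs)).2
      rw [hR] at hs2
      rcases hs2 with h | h
      · exact absurd (Subtype.ext h) hs1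
      · rw [← Sp.value_S hS h2 Rl hN hCS hs1, hc _ h]
  have hS0 : (Nat.card P.S : ℂ) ≠ 0 := Nat.cast_ne_zero.2 Nat.card_pos.ne'
  have key : (qq G a : ℂ) * ∑ γ : Rl.lin, (Sp.mult (P.irrPr (Rel.linIrr γ.1) (trivChar P.O)) : ℂ) =
      (ψ₁ : ℂ) + ((qq G a : ℂ) - 1) * c := by
    rw [Finset.sum_congr rfl fun γ _ => hm γ, ← Finset.mul_sum, Finset.sum_comm,
      Finset.sum_congr rfl (g := fun s : P.S => (Nat.card Rl.lin : ℂ) * if (s : G) ∈ Rl.R then Sp.psi s else 0)
        fun s _ => by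
          rw [← Finset.mul_sum, ← map_sum, horth]
          split_ifs
          · rw [Complex.conj_natCast, mul_comm]
          · rw [map_zero, mul_zero, mul_zero],
      ← Finset.mul_sum, hsum, ← hRc, ← Rl.card_lin, Nat.cast_mul, mul_inv]
    have h1 : (Nat.card Rl.R : ℂ) ≠ 0 := Nat.cast_ne_zero.2 Nat.card_pos.ne'
    have h2' : (Nat.card Rl.lin : ℂ) ≠ 0 := Nat.cast_ne_zero.2 Nat.card_pos.ne'
    field_simp
  exact_mod_cast key.symm

end CfsgLib.Lie.RankOneClass
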