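import Cfsg.Agent.Lib.Lie.RankOneClass.Equation
import Cfsg.Agent.Lib.Char.Integral
import Cfsg.Agent.S1120

/-!
Owner: helper5. Without proper extensions the constituents of the induced characters are faithful.
-/

set_option autoImplicit false
set_option linter.unusedSectionVars false

namespace CfsgLib.Lie.RankOneClass

open MulAction CfsgLib.Lie.RankOne CfsgLib.Char

variable {G Ω : Type*} [Group G] [MulAction G Ω] [Finite G] [FaithfulSMul G Ω] {a : Ω} {t : G}
  {Q : Subgroup G}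

local notation "𝔇" => ((stabilizer G a ⊓ stabilizer G (t • a)) : Subgroup G)
local notation "𝔎" => Cfsg.invertedBy (stabilizer G a ⊓ stabilizer G (t • a)) t
local notation "𝔍" => Cfsg.involutionsIn (stabilizer G a : Set G)

variable (hS : Cfsg.IsRankOneSetup G Ω a t Q)
  (h2 : ∃ x y : G, x ≠ 1 ∧ y ≠ 1 ∧ x ≠ y ∧ x * x = 1 ∧ y * y = 1 ∧ x * y = y * x)
include hS h2

/-- The point stabiliser has trivial core. -/
theorem core_trivial : (stabilizer G a).normalCore = ⊥ := by
  rw [eq_bot_iff]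
  intro x hx
  refine Subgroup.mem_bot.2 (FaithfulSMul.eq_of_smul_eq_smul fun c : Ω => ?_)
  obtain ⟨g, rfl⟩ := transitive' hS a c
  have h : (g⁻¹ * x * g⁻¹⁻¹) • a = a := hx g⁻¹
  rw [inv_inv, mul_smul, mul_smul, inv_smul_eq_iff] at h
  rw [h, one_smul]

/-- A normal subgroup is trivial or contains `Q` and `t`. -/
theorem normal_cases (L : Subgroup G) (hL : L.Normal) : L = ⊥ ∨ (Q ≤ L ∧ t ∈ L) := by
  classical
  by_cases hinv : ∃ u ∈ L, u ≠ 1 ∧ u * u = 1
  · right
    obtain ⟨u, hu, hu1, huu⟩ := hinv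
    have hall : ∀ x : G, x ≠ 1 → x * x = 1 → x ∈ L := fun x hx hxx => by
      obtain ⟨g, hg⟩ := conj_t hS hu1 huu
      obtain ⟨g', hg'⟩ := conj_t hS hx hxx
      have h1 := hL.conj_mem u hu g
      rw [hg, ← hg'] at h1
      have h3 := hL.conj_mem _ h1 g'⁻¹
      rwa [show g'⁻¹ * (g' * x * g'⁻¹) * g'⁻¹⁻¹ = x by group] at h3
    have ht : t ∈ L := hall t hS.ne_one hS.mul_self
    refine ⟨fun y hy => ?_, ht⟩
    obtain ⟨p, hp, k, hk, hkp⟩ := exists_K_prime hS h2
    have hk1 : k ≠ 1 := fun h => by rw [h, orderOf_one] at hkp; exact hp.ne_one hkp.symm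
    have hkL : k ∈ L := by
      have := mul_mem ht (hall (t * k) (K_swap hS hk).1 (K_swap hS hk).2.1)
      rwa [t_mul_t_mul hS] at this
    have hmem : ∀ z : ↥Q, (z : G)⁻¹ * k * z * k⁻¹ ∈ Q := fun z => by
      have h1 := mul_mem (inv_mem z.2) (Q_conj hS hk.1 z.2)
      rwa [show (z : G)⁻¹ * (k * z * k⁻¹) = (z : G)⁻¹ * k * z * k⁻¹ by group] at h1
    let f : ↥Q → ↥Q := fun z => ⟨_, hmem z⟩
    have hf : Function.Injective f := fun z w h => by
      have h1 : (z : G)⁻¹ * k * z * k⁻¹ = (w : G)⁻¹ * k * w * k⁻¹ := congrArg Subtype.val h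
      have hz : (z : G)⁻¹ * k * z = (w : G)⁻¹ * k * w := mul_right_cancel h1
      have h3 : ((w : G) * (z : G)⁻¹) * k = k * ((w : G) * (z : G)⁻¹) := by
        calc ((w : G) * (z : G)⁻¹) * k = w * ((z : G)⁻¹ * k * z) * (z : G)⁻¹ := by group
          _ = w * ((w : G)⁻¹ * k * w) * (z : G)⁻¹ := by rw [hz]
          _ = k * ((w : G) * (z : G)⁻¹) := by group
      refine (Subtype.ext (mul_inv_eq_one.1 ?_)).symm
      have h4 : (⟨_, mul_mem w.2 (inv_mem z.2)⟩ : ↥Q).1 ∈
          Q ⊓ Subgroup.centralizer ({k} : Set G) :=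
        Subgroup.mem_inf.2 ⟨mul_mem w.2 (inv_mem z.2), Subgroup.mem_centralizer_singleton_iff.2 h3⟩
      rw [fixed_point_free hS hk hk1] at h4
      exact Subgroup.mem_bot.1 h4
    obtain ⟨z, hz⟩ := Finite.surjective_of_injective hf ⟨y, hy⟩
    have hy' : (z : G)⁻¹ * k * z * k⁻¹ = y := congrArg Subtype.val hz
    rw [← hy']
    refine mul_mem ?_ (inv_mem hkL)
    have h5 := hL.conj_mem k hkL (z : G)⁻¹
    rwa [inv_inv] at h5
  · left
    push Not at hinv
    have hodd : ¬ 2 ∣ Nat.card L := fun hd => by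
      haveI : Fact (Nat.Prime 2) := ⟨Nat.prime_two⟩
      obtain ⟨u, hu⟩ := exists_prime_orderOf_dvd_card' (G := L) 2 hd
      refine hinv u u.2 (fun h => ?_) ?_
      · rw [show u = 1 from Subtype.ext h, orderOf_one] at hu
        omega
      · have h1 := pow_orderOf_eq_one u
        rw [hu, pow_two] at h1
        exact congrArg Subtype.val h1
    rw [eq_bot_iff, ← core_trivial hS h2, ← Cfsg.Agent.S1120.result hS h2]
    exact le_sSup ⟨hL, (Nat.Prime.coprime_iff_not_dvd Nat.prime_two).2 hodd |>.symm⟩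

/-- A nontrivial irreducible character is faithful when there are no proper extensions. -/
theorem faithful_of_noExt (hN : NoExt t Q) [Fintype G] (χ : Cfsg.IrrCharacter G)
    (hne : (χ : G → ℂ) ≠ fun _ => 1) {g : G} (hg : (χ : G → ℂ) g = (χ : G → ℂ) 1) : g = 1 := by
  obtain ⟨n, ρ, hρ, e⟩ := χ.2
  haveI := hρ
  have hgk : g ∈ MonoidHom.ker ρ := by
    rw [← e] at hg
    rw [MonoidHom.mem_ker]
    exact (CharIntegral.character_eq_finrank_iff ρ g).1 (hg.trans (Representation.char_one ρ))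
  rcases normal_cases hS h2 (MonoidHom.ker ρ) inferInstance with h | ⟨hQ, ht⟩
  · rw [h] at hgk
    exact Subgroup.mem_bot.1 hgk
  · exfalso
    have htop := hN _ inferInstance hQ ht
    have hconst : ∀ x : G, (χ : G → ℂ) x = (χ : G → ℂ) 1 := fun x => by
      rw [← e]
      show LinearMap.trace ℂ _ (ρ x) = LinearMap.trace ℂ _ (ρ 1)
      rw [MonoidHom.mem_ker.1 (htop ▸ Subgroup.mem_top x), map_one ρ]
    have h1 : χ = trivChar G := by
      by_contra hχ
      have h0 := classInner_irr_of_ne hχ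
      simp only [Cfsg.classInner, trivChar_apply, map_one, mul_one, hconst, Finset.sum_const,
        Finset.card_univ, nsmul_eq_mul, ← Nat.card_eq_fintype_card] at h0
      rw [inv_mul_cancel_left₀ (Nat.cast_ne_zero.mpr Nat.card_pos.ne')] at h0
      exact IsIrr.apply_one_ne_zero χ.2 h0
    exact hne (by rw [h1]; rfl)

/-- There are no faithful linear characters. -/
theorem not_linear (χ : Cfsg.IrrCharacter G) (hf : ∀ g, (χ : G → ℂ) g = (χ : G → ℂ) 1 → g = 1) :
    (χ : G → ℂ) 1 ≠ 1 := by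
  intro h1
  obtain ⟨l, hl⟩ := exists_linear_of_degree_one (IsIrr.isCharacter χ.2) h1
  have hab : ∀ x y : G, x * y = y * x := fun x y => by
    refine mul_inv_eq_one.1 (hf _ ?_)
    rw [hl]
    simp only [map_mul, map_inv, map_one, mul_comm (l x) (l y), mul_inv_cancel]
  obtain ⟨y, hy, hy1⟩ := Q_nontrivial hS
  refine hy1 (eq_one_of_fix_ta hS hy ?_)
  rw [← mul_smul, hab y t, mul_smul, Q_fix hS hy]

end CfsgLib.Lie.RankOneClass
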