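import Cfsg.Agent.Lib.Lie.RankOneClass.CoordFacts
import Mathlib.FieldTheory.Fixed
import Mathlib.FieldTheory.Finiteness
import Mathlib.Algebra.Ring.Action.Invariant

/-!
Owner: helper5. The fixed points of an element of `V` on the involutions, as fixed fields.
-/

set_option autoImplicit false
set_option linter.unusedSectionVars false

namespace CfsgLib.Lie.RankOneClass

open MulAction CfsgLib.Lie.RankOne

section Field

variable {F : Type*} [Field F] [Finite F]

/-- A finite field is a power of the fixed field of a group of automorphisms. -/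
theorem card_eq_pow_card (H : Subgroup (F ≃+* F)) :
    Nat.card F = Nat.card {x : F // ∀ σ ∈ H, σ x = x} ^ Nat.card H := by
  classical
  haveI : Finite (F ≃+* F) := Finite.of_injective (fun σ : F ≃+* F => (σ : F → F)) DFunLike.coe_injective
  haveI := Fintype.ofFinite H
  haveI : FaithfulSMul H F := ⟨fun h => Subtype.ext (RingEquiv.ext h)⟩
  rw [Module.natCard_eq_pow_finrank (K := FixedPoints.subfield H F), FixedPoints.finrank_eq_card,
    ← Nat.card_eq_fintype_card]
  refine congrArg (· ^ Nat.card H) (Nat.card_congr ?_)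
  exact Equiv.subtypeEquivRight fun x =>
    ⟨fun h σ hσ => h ⟨σ, hσ⟩, fun h σ => h σ σ.2⟩

/-- Automorphisms with the same fixed field generate the same group. -/
theorem mem_zpowers_of_fix {σ τ : F ≃+* F} (h : ∀ x, σ x = x → τ x = x) :
    τ ∈ Subgroup.zpowers σ := by
  haveI : Finite (F ≃+* F) := Finite.of_injective (fun σ : F ≃+* F => (σ : F → F)) DFunLike.coe_injective
  set H := Subgroup.closure ({σ, τ} : Set (F ≃+* F))
  have hle : Subgroup.zpowers σ ≤ H :=
    Subgroup.zpowers_le.2 (Subgroup.subset_closure (Set.mem_insert _ _))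
  have hfix : ∀ x : F, (∀ ρ ∈ Subgroup.zpowers σ, ρ x = x) ↔ ∀ ρ ∈ H, ρ x = x := fun x => by
    refine ⟨fun hx ρ hρ => ?_, fun hx ρ hρ => hx ρ (hle hρ)⟩
    have hσ := hx σ (Subgroup.mem_zpowers σ)
    induction hρ using Subgroup.closure_induction with
    | mem ρ hρ =>
      rcases hρ with rfl | rfl
      · exact hσ
      · exact h x hσ
    | one => rfl
    | mul u v _ _ hu hv => show u (v x) = x; rw [hv, hu]
    | inv u _ hu => exact (RingEquiv.symm_apply_eq u).2 hu.symm
  have h1 := card_eq_pow_card (Subgroup.zpowers σ)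
  have h2 := card_eq_pow_card H
  rw [Nat.card_congr (Equiv.subtypeEquivRight hfix), h2] at h1
  have hb : 2 ≤ Nat.card {x : F // ∀ ρ ∈ H, ρ x = x} := by
    haveI : Nontrivial {x : F // ∀ ρ ∈ H, ρ x = x} :=
      ⟨⟨⟨0, fun ρ _ => map_zero ρ⟩, ⟨1, fun ρ _ => map_one ρ⟩, fun e => zero_ne_one (congrArg Subtype.val e)⟩⟩
    exact Finite.one_lt_card
  have he := Subgroup.eq_of_le_of_card_ge hle (Nat.pow_right_injective hb h1).le
  exact he ▸ Subgroup.subset_closure (Set.mem_insert_of_mem _ rfl)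

end Field

/-- One more than the number of involutions of the point stabiliser commuting with `x`. -/
noncomputable def qx {G Ω : Type*} [Group G] [MulAction G Ω] (a : Ω) (x : G) : ℕ :=
  Nat.card {s : G // s ∈ Cfsg.involutionsIn (stabilizer G a : Set G) ∧ x * s = s * x} + 1

variable {G Ω : Type*} [Group G] [MulAction G Ω] [Finite G] [FaithfulSMul G Ω] {a : Ω} {t : G}
  {Q : Subgroup G} {F : Type} [Field F] [Fintype F] (C : Coord a t F)

local notation "𝔇" => ((stabilizer G a ⊓ stabilizer G (t • a)) : Subgroup G)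
local notation "𝔍" => Cfsg.involutionsIn (stabilizer G a : Set G)

variable (hS : Cfsg.IsRankOneSetup G Ω a t Q)
include hS

/-- The automorphism of an element of `V`. -/
abbrev Coord.autV {v : G} (hv : v ∈ Vg a t) : F ≃+* F :=
  C.aut ⟨v, (Subgroup.mem_inf.1 (mem_Vg.1 hv).1).1⟩

theorem Coord.commute_z {v : G} (hv : v ∈ Vg a t) (y : F) :
    v * C.z y = C.z y * v ↔ C.autV hv y = y := by
  rw [← mul_inv_eq_iff_eq_mul, C.conj_Vg hS hv y]
  exact ⟨fun h => C.z_inj h, fun h => congrArg C.z h⟩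

theorem Coord.qx_eq {v : G} (hv : v ∈ Vg a t) :
    qx a v = Nat.card {y : F // C.autV hv y = y} := by
  classical
  have e : {y : {y : F // C.autV hv y = y} // (y : F) ≠ 0} ≃ {s : G // s ∈ 𝔍 ∧ v * s = s * v} :=
    Equiv.ofBijective (fun y => ⟨C.z (y.1 : F), C.z_mem _ y.2, (C.commute_z hS hv _).2 y.1.2⟩)
      ⟨fun y y' h => Subtype.ext (Subtype.ext (C.z_inj (congrArg Subtype.val h :))), fun s => by
        obtain ⟨y, hy⟩ := C.z_surj s s.2.1
        refine ⟨⟨⟨y, (C.commute_z hS hv y).1 (hy ▸ s.2.2)⟩, fun h => s.2.1.2.1 ?_⟩, Subtype.ext hy⟩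
        rw [← hy, show y = 0 from h, C.z_zero]⟩
  haveI := Fintype.ofFinite {y : F // C.autV hv y = y}
  rw [qx, ← Nat.card_congr e, Nat.card_eq_fintype_card, Nat.card_eq_fintype_card, Fintype.card_subtype]
  have : (Finset.univ.filter fun y : {y : F // C.autV hv y = y} => (y : F) ≠ 0) =
      Finset.univ.erase ⟨0, map_zero _⟩ := by
    ext y
    simp [Subtype.ext_iff]
  rw [this, Finset.card_erase_of_mem (Finset.mem_univ _), Finset.card_univ]
  have : 0 < Fintype.card {y : F // C.autV hv y = y} := Fintype.card_pos_iff.2 ⟨⟨0, map_zero _⟩⟩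
  omega

variable (h2 : ∃ x y : G, x ≠ 1 ∧ y ≠ 1 ∧ x ≠ y ∧ x * x = 1 ∧ y * y = 1 ∧ x * y = y * x)
include h2

/-- The automorphisms fixing the fixed field of `v` come from powers of `v`. -/
theorem Coord.autV_mem_zpowers {v g : G} (hv : v ∈ Vg a t) (hg : g ∈ Vg a t)
    (h : ∀ s ∈ 𝔍, v * s = s * v → g * s = s * g) :
    C.autV hg ∈ Subgroup.zpowers (C.autV hv) := by
  refine mem_zpowers_of_fix fun y hy => ?_
  by_cases hy0 : y = 0
  · rw [hy0, map_zero]
  · exact (C.commute_z hS hg y).1 (h _ (C.z_mem y hy0) ((C.commute_z hS hv y).2 hy))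

theorem qx_of_Wg {v : G} (hv : v ∈ Wg a t) : qx a v = qq G a := by
  rw [qx, qq]
  exact congrArg (· + 1) (Nat.card_congr (Equiv.subtypeEquivRight fun s =>
    ⟨And.left, fun hs => ⟨hs, (mem_Wg.1 hv).2 s hs⟩⟩))

include C in
theorem Coord.qx_pow_two {v : G} (hv : v ∈ Vg a t) : ∃ m, 1 ≤ m ∧ qx a v = 2 ^ m := by
  obtain ⟨n, hn, hq⟩ := exists_pow_two hS h2
  haveI : Finite (F ≃+* F) := Finite.of_injective (fun σ : F ≃+* F => (σ : F → F)) DFunLike.coe_injective
  have h1 := card_eq_pow_card (Subgroup.zpowers (C.autV hv))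
  rw [C.card_field, hq, Nat.card_congr (Equiv.subtypeEquivRight (fun y : F => ?_) :
    {y : F // ∀ σ ∈ Subgroup.zpowers (C.autV hv), σ y = y} ≃ {y : F // C.autV hv y = y}), ← C.qx_eq hS hv] at h1
  · obtain ⟨m, -, hm⟩ := (Nat.dvd_prime_pow Nat.prime_two).1
      (h1 ▸ dvd_pow_self (qx a v) (Nat.card_pos (α := ↥(Subgroup.zpowers (C.autV hv)))).ne' :
        qx a v ∣ 2 ^ n)
    refine ⟨m, Nat.one_le_iff_ne_zero.2 fun h0 => ?_, hm⟩
    rw [hm, h0, pow_zero, one_pow] at h1
    exact (Nat.one_lt_two_pow (by omega : n ≠ 0)).ne' h1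
  · refine ⟨fun hy => hy _ (Subgroup.mem_zpowers _), fun hy σ hσ => ?_⟩
    obtain ⟨i, rfl⟩ := Subgroup.mem_zpowers_iff.1 hσ
    have hsm : C.autV hv • y = y := hy
    exact (Subgroup.zpow_mem (stabilizer (F ≃+* F) y) hsm i :)

/-- The case of a minimal fixed field. -/
theorem Coord.of_qx_two {v : G} (hv : v ∈ Vg a t) {p : ℕ} (hp : p.Prime) (hord : orderOf v = p)
    (h : qx a v = 2) :
    orderOf (C.autV hv) = p ∧ qq G a = 2 ^ p ∧ Nat.card C.aut.range = p := by
  obtain ⟨n, hn, hq⟩ := exists_pow_two hS h2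
  have hne : C.autV hv ≠ 1 := fun he => by
    have hq2 := (qx_of_Wg hS h2 ((C.aut_Vg_eq_one hS hv).1 he)).symm.trans h
    rw [hq] at hq2
    have := Nat.pow_right_injective le_rfl (hq2.trans (pow_one 2).symm)
    omega
  haveI := Fact.mk hp
  have hsord : orderOf (C.autV hv) = p := by
    refine orderOf_eq_prime ?_ hne
    rw [Coord.autV, ← map_pow]
    refine (congrArg C.aut (Subtype.ext ?_)).trans (map_one _)
    rw [SubmonoidClass.coe_pow, Subgroup.coe_one, ← hord, pow_orderOf_eq_one]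
  have hfix : ∀ H : Subgroup (F ≃+* F), C.autV hv ∈ H → Nat.card F = 2 ^ Nat.card H := by
    intro H hH
    have h1 := card_eq_pow_card H
    have h2' : Nat.card {y : F // ∀ σ ∈ H, σ y = y} = 2 := by
      have hle : Nat.card {y : F // ∀ σ ∈ H, σ y = y} ≤ 2 := by
        rw [← h, C.qx_eq hS hv]
        exact Nat.card_le_card_of_injective (fun y => (⟨y, y.2 _ hH⟩ : {y : F // C.autV hv y = y}))
          fun y y' e => Subtype.ext (congrArg Subtype.val e :)
      have hge : 1 < Nat.card {y : F // ∀ σ ∈ H, σ y = y} := by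
        haveI : Nontrivial {y : F // ∀ σ ∈ H, σ y = y} :=
          ⟨⟨⟨0, fun ρ _ => map_zero ρ⟩, ⟨1, fun ρ _ => map_one ρ⟩, fun e => zero_ne_one (congrArg Subtype.val e)⟩⟩
        exact Finite.one_lt_card
      omega
    rw [h2'] at h1
    exact h1
  have h3 := hfix _ (Subgroup.mem_zpowers _)
  rw [Nat.card_zpowers, hsord] at h3
  have h4 := hfix C.aut.range ⟨_, rfl⟩
  refine ⟨hsord, by rw [← C.card_field, h3], ?_⟩
  exact Nat.pow_right_injective le_rfl (h4.symm.trans h3)

end CfsgLib.Lie.RankOneClass
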