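import Cfsg.Agent.Lib.Lie.RankOneClass.QInd

/-!
Owner: helper5. The characters induced from the linear characters of the point stabiliser which are
trivial on `Q` and on the inverted elements.
-/

set_option autoImplicit false
set_option linter.unusedSectionVars false

namespace CfsgLib.Lie.RankOneClass

open MulAction CfsgLib.Lie.RankOne CfsgLib.Char
open scoped ComplexConjugate

variable {G Ω : Type*} [Group G] [MulAction G Ω]

/-- A linear character of the point stabiliser, trivial on `Q` and on the inverted elements. -/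
structure Lam (a : Ω) (t : G) (Q : Subgroup G) where
  /-- the linear character -/
  hom : ↥(stabilizer G a) →* ℂˣ
  map_Q : ∀ h : ↥(stabilizer G a), (h : G) ∈ Q → hom h = 1
  map_K : ∀ h : ↥(stabilizer G a),
    (h : G) ∈ Cfsg.invertedBy (stabilizer G a ⊓ stabilizer G (t • a)) t → hom h = 1
  map_t : ∀ h h' : ↥(stabilizer G a), (h : G) ∈ stabilizer G (t • a) → (h' : G) = t * h * t →
    hom h' = hom h

namespace Lam

variable {a : Ω} {t : G} {Q : Subgroup G} (l : Lam a t Q)

/-- The trivial character. -/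
def triv : Lam a t Q where
  hom := 1
  map_Q _ _ := rfl
  map_K _ _ := rfl
  map_t _ _ _ _ := rfl

/-- The powers. -/
def pow (j : ℕ) : Lam a t Q where
  hom := l.hom ^ j
  map_Q h hh := by rw [MonoidHom.pow_apply, l.map_Q h hh, one_pow]
  map_K h hh := by rw [MonoidHom.pow_apply, l.map_K h hh, one_pow]
  map_t h h' hh he := by rw [MonoidHom.pow_apply, MonoidHom.pow_apply, l.map_t h h' hh he]

/-- The function. -/
def fn : ↥(stabilizer G a) → ℂ := fun h => (l.hom h : ℂ)

/-- The induced character. -/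
noncomputable def ind [Fintype G] : G → ℂ := Cfsg.indFun (stabilizer G a) l.fn

theorem ind_isCharacter [Fintype G] : Cfsg.IsCharacter G l.ind :=
  isCharacter_indFun _ (IsIrr.isCharacter (isIrrCharacter_linear l.hom))

theorem ind_isClassFunction [Fintype G] : Cfsg.IsClassFunction G l.ind :=
  isClassFunction_indFun _ _

theorem triv_fn (h : ↥(stabilizer G a)) : (triv : Lam a t Q).fn h = 1 := Units.val_one

variable [Finite G] [FaithfulSMul G Ω]
  (hS : Cfsg.IsRankOneSetup G Ω a t Q)

local notation "𝔇" => ((stabilizer G a ⊓ stabilizer G (t • a)) : Subgroup G)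
local notation "𝔎" => Cfsg.invertedBy (stabilizer G a ⊓ stabilizer G (t • a)) t
local notation "𝔍" => Cfsg.involutionsIn (stabilizer G a : Set G)

include hS

theorem hom_conj {h : G} (hh : h ∈ stabilizer G a) {x : G} (hx : h • (x • a) = x • a)
    (hm : x⁻¹ * h * x ∈ stabilizer G a) : l.hom ⟨_, hm⟩ = l.hom ⟨h, hh⟩ := by
  by_cases hxa : x • a = a
  · have : (⟨_, hm⟩ : ↥(stabilizer G a)) = (⟨x, hxa⟩ : ↥(stabilizer G a))⁻¹ * ⟨h, hh⟩ * ⟨x, hxa⟩ :=
      Subtype.ext rfl
    rw [this, map_mul, map_mul, map_inv, mul_comm (l.hom ⟨x, hxa⟩)⁻¹, inv_mul_cancel_right]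
  · obtain ⟨y, hy, hd, hyx⟩ := exists_conj_D hS hh hxa hx
    have hd1 := (mem_D.1 hd).1
    have hd' : t * (y⁻¹ * h * y) * t ∈ stabilizer G a := (Subgroup.mem_inf.1 (tDt hS hd)).1
    have hh0 : t * y⁻¹ * x ∈ stabilizer G a := by
      show (t * y⁻¹ * x) • a = a
      rw [mul_smul, mul_smul, ← hyx, inv_smul_smul, t_smul_ta hS]
    have hdy : (⟨y⁻¹ * h * y, hd1⟩ : ↥(stabilizer G a)) =
        (⟨y, hS.le hy⟩ : ↥(stabilizer G a))⁻¹ * ⟨h, hh⟩ * ⟨y, hS.le hy⟩ := Subtype.ext rfl
    have hx' : (⟨_, hm⟩ : ↥(stabilizer G a)) = (⟨_, hh0⟩ : ↥(stabilizer G a))⁻¹ * ⟨_, hd'⟩ * ⟨_, hh0⟩ := by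
      refine Subtype.ext ?_
      show x⁻¹ * h * x = (t * y⁻¹ * x)⁻¹ * (t * (y⁻¹ * h * y) * t) * (t * y⁻¹ * x)
      have e1 : x⁻¹ * h * x = x⁻¹ * y * (t * t) * (y⁻¹ * h * y) * (t * t) * y⁻¹ * x := by
        rw [hS.mul_self]; group
      have e2 : (t * y⁻¹ * x)⁻¹ = x⁻¹ * y * t := by rw [mul_inv_rev, mul_inv_rev, t_inv hS]; group
      rw [e1, e2]
      group
    rw [hx', map_mul, map_mul, map_inv, mul_comm (l.hom ⟨_, hh0⟩)⁻¹, inv_mul_cancel_right,
      l.map_t ⟨_, hd1⟩ ⟨_, hd'⟩ (mem_D.1 hd).2 rfl, hdy, map_mul, map_mul, map_inv,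
      mul_comm (l.hom ⟨y, hS.le hy⟩)⁻¹, inv_mul_cancel_right]

variable [Fintype G] [Fintype Ω] [DecidableEq Ω]
  [Fintype ↥((stabilizer G a ⊓ stabilizer G (t • a)) : Subgroup G)]

omit [Finite G] [FaithfulSMul G Ω] in
/-- Each fibre of the orbit map has the size of the point stabiliser. -/
theorem card_fibre (p : Ω → Prop) [DecidablePred p] :
    (Finset.univ.filter fun x : G => p (x • a)).card =
      Nat.card ↥(stabilizer G a) * (Finset.univ.filter fun c : Ω => p c).card := by
  classical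
  rw [Finset.card_eq_sum_card_fiberwise (f := fun x : G => x • a)
    (t := Finset.univ.filter fun c : Ω => p c) (fun x hx => by
      simpa using hx), mul_comm, ← smul_eq_mul, ← Finset.sum_const]
  refine Finset.sum_congr rfl fun c hc => ?_
  have hpc : p c := (Finset.mem_filter.1 hc).2
  obtain ⟨x₀, rfl⟩ := transitive' hS a c
  rw [← Nat.card_eq_finsetCard]
  refine (Nat.card_eq_of_bijective (fun h : ↥(stabilizer G a) =>
    (⟨x₀ * h, by
      have hh : (h : G) • a = a := h.2
      simp only [Finset.mem_filter, Finset.mem_univ, true_and]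
      rw [mul_smul, hh]
      exact ⟨hpc, rfl⟩⟩ : ↥((Finset.univ.filter fun x : G => p (x • a)).filter fun x : G => x • a = x₀ • a)))
    ⟨fun h h' e => Subtype.ext (mul_left_cancel (congrArg Subtype.val e)), fun z => ?_⟩).symm
  have hz := (Finset.mem_filter.1 z.2).2
  exact ⟨⟨x₀⁻¹ * z, show (x₀⁻¹ * (z : G)) • a = a by rw [mul_smul, hz, inv_smul_smul]⟩,
    Subtype.ext (mul_inv_cancel_left x₀ (z : G))⟩

/-- The induced character counts fixed points where the linear character is constant. -/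
theorem ind_eq_of_const {g : G} {r : ℂ}
    (hr : ∀ x : G, ∀ hm : x⁻¹ * g * x ∈ stabilizer G a, (l.hom ⟨_, hm⟩ : ℂ) = r) :
    l.ind g = r * ((Finset.univ.filter fun c : Ω => g • c = c).card : ℂ) := by
  classical
  have hterm : ∀ x : G, Cfsg.extendByZero (stabilizer G a) l.fn (x⁻¹ * g * x) =
      if g • (x • a) = x • a then r else 0 := fun x => by
    have hiff : x⁻¹ * g * x ∈ stabilizer G a ↔ g • (x • a) = x • a := by
      show (x⁻¹ * g * x) • a = a ↔ _
      rw [mul_smul, mul_smul, inv_smul_eq_iff]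
    split_ifs with h
    · rw [extendByZero_of_mem _ _ (hiff.2 h)]
      exact hr x (hiff.2 h)
    · exact extendByZero_of_notMem _ _ fun hm => h (hiff.1 hm)
  simp only [ind, Cfsg.indFun, hterm, Finset.sum_ite, Finset.sum_const_zero, add_zero, Finset.sum_const,
    nsmul_eq_mul]
  rw [card_fibre hS (fun c => g • c = c), Nat.cast_mul, mul_assoc, inv_mul_cancel_left₀
    (Nat.cast_ne_zero.mpr Nat.card_pos.ne'), mul_comm]

/-- On the point stabiliser. -/
theorem ind_stab (h : ↥(stabilizer G a)) :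
    l.ind h = l.fn h * ((Finset.univ.filter fun c : Ω => (h : G) • c = c).card : ℂ) := by
  refine l.ind_eq_of_const hS fun x hm => congrArg Units.val ?_
  refine l.hom_conj hS h.2 ?_ hm
  have hm' : (x⁻¹ * (h : G) * x) • a = a := hm
  rwa [mul_smul, mul_smul, inv_smul_eq_iff] at hm'

/-- At one. -/
theorem ind_one : l.ind 1 = (Nat.card Q : ℂ) + 1 := by
  classical
  have h := l.ind_stab hS 1
  rw [Subgroup.coe_one, fn, map_one, Units.val_one, one_mul,
    Finset.filter_true_of_mem (fun c _ => one_smul G c), Finset.card_univ, ← Nat.card_eq_fintype_card,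
    (card_points hS).2] at h
  rw [h, Nat.cast_add, Nat.cast_one]

/-- On the nontrivial elements of `Q`. -/
theorem ind_Q {y : G} (hy : y ∈ Q) (hy1 : y ≠ 1) : l.ind y = 1 := by
  classical
  have h := l.ind_stab hS ⟨y, hS.le hy⟩
  rw [fn, l.map_Q _ hy, Units.val_one, one_mul] at h
  rw [h, show (Finset.univ.filter fun c : Ω => y • c = c) = {a} from Finset.ext fun c => by
    simp only [Finset.mem_filter, Finset.mem_univ, true_and, Finset.mem_singleton]
    exact fix_iff hS hy hy1, Finset.card_singleton, Nat.cast_one]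

/-- The sum over the point stabiliser of a linear character weighted by fixed points. -/
theorem sum_weight :
    ∑ h : ↥(stabilizer G a), l.fn h * ((Finset.univ.filter fun c : Ω => (h : G) • c = c).card : ℂ) =
      2 * (Nat.card Q : ℂ) * ∑ d : 𝔇, l.fn ⟨d, (Subgroup.mem_inf.1 d.2).1⟩ := by
  classical
  set SD := ∑ d : 𝔇, l.fn ⟨d, (Subgroup.mem_inf.1 d.2).1⟩ with hSD
  have hH : ∑ h : ↥(stabilizer G a), l.fn h = (Nat.card Q : ℂ) * SD := by
    let e : ↥Q × 𝔇 → ↥(stabilizer G a) := fun p =>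
      ⟨(p.1 : G) * p.2, mul_mem (hS.le p.1.2) (Subgroup.mem_inf.1 p.2.2).1⟩
    have he : Function.Bijective e := by
      refine ⟨fun p p' h => ?_, fun h => ?_⟩
      · have h0 : (p.1 : G) * p.2 = p'.1 * p'.2 := congrArg Subtype.val h
        have h' : (p'.1 : G)⁻¹ * p.1 = p'.2 * (p.2 : G)⁻¹ := by
          rw [eq_mul_inv_iff_mul_eq, mul_assoc, h0, inv_mul_cancel_left]
        have h3 := eq_one_of_fix_ta hS (mul_mem (inv_mem p'.1.2) p.1.2) (by
          rw [h']; exact (Subgroup.mem_inf.1 (mul_mem p'.2.2 (inv_mem p.2.2))).2)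
        have h4 : p.1 = p'.1 := Subtype.ext (inv_mul_eq_one.1 h3).symm
        refine Prod.ext h4 (Subtype.ext ?_)
        rw [h4] at h0
        exact mul_left_cancel h0
      · obtain ⟨z, hz, d, hd, hzd⟩ := stab_eq_mul hS h.2
        exact ⟨(⟨z, hz⟩, ⟨d, hd⟩), Subtype.ext hzd.symm⟩
    rw [← he.sum_comp, Fintype.sum_prod_type, Finset.sum_congr rfl (fun y _ => Finset.sum_congr rfl
      fun d _ => (?_ : l.fn (e (y, d)) = l.fn ⟨d, (Subgroup.mem_inf.1 d.2).1⟩)), Finset.sum_const,
      Finset.card_univ, nsmul_eq_mul, ← Nat.card_eq_fintype_card]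
    rw [show e (y, d) = ⟨y, hS.le y.2⟩ * ⟨d, (Subgroup.mem_inf.1 d.2).1⟩ from Subtype.ext rfl, fn,
      map_mul, l.map_Q _ y.2, one_mul]
    rfl
  calc ∑ h : ↥(stabilizer G a), l.fn h * ((Finset.univ.filter fun c : Ω => (h : G) • c = c).card : ℂ)
      = ∑ c : Ω, ∑ h : ↥(stabilizer G a), if (h : G) • c = c then l.fn h else 0 := by
        rw [Finset.sum_comm]
        refine Finset.sum_congr rfl fun h _ => ?_
        rw [← Finset.sum_filter, Finset.sum_const, nsmul_eq_mul, mul_comm]
    _ = (∑ h : ↥(stabilizer G a), l.fn h) + ∑ _c ∈ Finset.univ.erase a, SD := by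
        rw [← Finset.add_sum_erase _ _ (Finset.mem_univ a)]
        congr 1
        · exact Finset.sum_congr rfl fun h _ => if_pos h.2
        refine Finset.sum_congr rfl fun c hc => ?_
        obtain ⟨y, hy, rfl⟩ := exists_smul_eq_ta hS (Finset.ne_of_mem_erase hc)
        let j : 𝔇 → ↥(stabilizer G a) := fun d => ⟨y * d * y⁻¹,
          mul_mem (mul_mem (hS.le hy) (Subgroup.mem_inf.1 d.2).1) (inv_mem (hS.le hy))⟩
        rw [← Finset.sum_filter]
        refine Finset.sum_bij (fun h hh => (⟨y⁻¹ * h * y, ?_⟩ : 𝔇)) (fun _ _ => Finset.mem_univ _)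
          (fun h₁ _ h₂ _ he => Subtype.ext ?_) (fun d _ => ⟨j d, ?_, ?_⟩) (fun h hh => ?_)
        · have hfix : (h : G) • (y • (t • a)) = y • (t • a) := (Finset.mem_filter.1 hh).2
          refine mem_D.2 ⟨mul_mem (mul_mem (inv_mem (hS.le hy)) h.2) (hS.le hy), ?_⟩
          rw [mul_smul, mul_smul, hfix, inv_smul_smul]
        · have he' : y⁻¹ * (h₁ : G) * y = y⁻¹ * h₂ * y := congrArg Subtype.val he
          simpa using he'
        · simp only [Finset.mem_filter, Finset.mem_univ, true_and]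
          show (y * (d : G) * y⁻¹) • (y • (t • a)) = _
          rw [mul_smul, mul_smul, inv_smul_smul, (mem_D.1 d.2).2]
        · refine Subtype.ext ?_
          show y⁻¹ * (y * (d : G) * y⁻¹) * y = d
          group
        · show l.fn h = l.fn ⟨y⁻¹ * h * y, _⟩
          rw [show (⟨y⁻¹ * (h : G) * y, _⟩ : ↥(stabilizer G a)) =
            (⟨y, hS.le hy⟩ : ↥(stabilizer G a))⁻¹ * h * ⟨y, hS.le hy⟩ from Subtype.ext rfl, fn, fn,
            map_mul, map_mul, map_inv, mul_comm (l.hom ⟨y, hS.le hy⟩)⁻¹, inv_mul_cancel_right]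
    _ = 2 * (Nat.card Q : ℂ) * SD := by
        rw [hH, Finset.sum_const, Finset.card_erase_of_mem (Finset.mem_univ a), Finset.card_univ,
          ← Nat.card_eq_fintype_card, (card_points hS).2, Nat.add_sub_cancel, nsmul_eq_mul]
        ring

/-- Inner products of the induced characters. -/
theorem inner_ind (m : Lam a t Q) :
    Cfsg.classInner l.ind m.ind =
      if ∀ h : ↥(stabilizer G a), (h : G) ∈ stabilizer G (t • a) → l.hom h = m.hom h then 2 else 0 := by
  classical
  rw [ind, frobenius_reciprocity _ l.fn m.ind_isClassFunction]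
  let n : Lam a t Q :=
    { hom := l.hom * m.hom⁻¹
      map_Q := fun h hh => by rw [MonoidHom.mul_apply, MonoidHom.inv_apply, l.map_Q h hh, m.map_Q h hh,
        inv_one, mul_one]
      map_K := fun h hh => by rw [MonoidHom.mul_apply, MonoidHom.inv_apply, l.map_K h hh, m.map_K h hh,
        inv_one, mul_one]
      map_t := fun h h' hh he => by rw [MonoidHom.mul_apply, MonoidHom.mul_apply, MonoidHom.inv_apply,
        MonoidHom.inv_apply, l.map_t h h' hh he, m.map_t h h' hh he] }
  have hterm : ∀ h : ↥(stabilizer G a), l.fn h * conj (m.ind h) =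
      n.fn h * ((Finset.univ.filter fun c : Ω => (h : G) • c = c).card : ℂ) := fun h => by
    rw [m.ind_stab hS h, map_mul, Complex.conj_natCast, ← mul_assoc]
    congr 1
    show (l.hom h : ℂ) * conj (m.hom h : ℂ) = ((l.hom h * (m.hom h)⁻¹ : ℂˣ) : ℂ)
    rw [Units.val_mul, Units.val_inv_eq_inv_val, Complex.inv_def]
    have hn : Complex.normSq (m.hom h : ℂ) = 1 := by
      have hp : (m.hom h : ℂ) ^ Nat.card ↥(stabilizer G a) = 1 := by
        rw [← Units.val_pow_eq_pow_val, ← map_pow, pow_card_eq_one', map_one, Units.val_one]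
      rw [Complex.normSq_eq_norm_sq, Complex.norm_eq_one_of_pow_eq_one hp Nat.card_pos.ne', one_pow]
    rw [hn, inv_one, Complex.ofReal_one, mul_one]
  rw [Cfsg.classInner, Finset.sum_congr rfl fun h _ => hterm h, n.sum_weight hS]
  have hcard : (Nat.card ↥(stabilizer G a) : ℂ) = (Nat.card Q : ℂ) * (Nat.card 𝔇 : ℂ) := by
    rw [← Nat.cast_mul, Nat.cast_inj]
    have h1 := card_group hS
    have hidx : (stabilizer G a).index = Nat.card Q + 1 := by
      haveI := hS.two_transitive
      haveI : IsPretransitive G Ω := MulAction.isPretransitive_of_is_two_pretransitive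
      rw [index_stabilizer_of_transitive, (card_points hS).2]
    rw [← Subgroup.card_mul_index (stabilizer G a), hidx] at h1
    exact Nat.eq_of_mul_eq_mul_right (Nat.succ_pos _) h1
  split_ifs with heq
  · have hone : ∀ d : 𝔇, n.fn ⟨d, (Subgroup.mem_inf.1 d.2).1⟩ = 1 := fun d => by
      show ((l.hom _ * (m.hom _)⁻¹ : ℂˣ) : ℂ) = 1
      rw [heq _ (Subgroup.mem_inf.1 d.2).2, mul_inv_cancel, Units.val_one]
    rw [Finset.sum_congr rfl fun d _ => hone d, Finset.sum_const, Finset.card_univ, nsmul_eq_mul, mul_one,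
      ← Nat.card_eq_fintype_card, hcard]
    field_simp [Nat.cast_ne_zero.mpr (Nat.card_pos (α := ↥Q)).ne',
      Nat.cast_ne_zero.mpr (Nat.card_pos (α := 𝔇)).ne']
    exact div_self (Nat.cast_ne_zero.mpr Nat.card_pos.ne')
  · let φ : 𝔇 →* ℂˣ := n.hom.comp (Subgroup.inclusion inf_le_left)
    have hφ : φ ≠ 1 := fun h => heq fun x hx => mul_inv_eq_one.1
      (DFunLike.congr_fun h ⟨x, Subgroup.mem_inf.2 ⟨x.2, hx⟩⟩)
    have hz : ∑ d : 𝔇, n.fn ⟨d, (Subgroup.mem_inf.1 d.2).1⟩ = 0 := by
      refine sum_hom_units_eq_zero ((Units.coeHom ℂ).comp φ) ?_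
      exact fun h => hφ (MonoidHom.ext fun d => Units.ext (DFunLike.congr_fun h d :))
    rw [hz, mul_zero, mul_zero]

end Lam

end CfsgLib.Lie.RankOneClass
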