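import Cfsg.Agent.Lib.Lie.RankOneClass.Lam
import Cfsg.Agent.Lib.Lie.RankOneClass.CoordFacts
import Cfsg.Agent.S0205
import Mathlib.GroupTheory.FiniteAbelian.Duality
import Mathlib.Analysis.Complex.Polynomial.Basic
import Mathlib.RingTheory.RootsOfUnity.AlgebraicallyClosed

/-!
Owner: helper5. The projection of the point stabiliser onto `V` and the choice of the linear character.
-/

set_option autoImplicit false
set_option linter.unusedSectionVars false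

namespace CfsgLib.Lie.RankOneClass

open MulAction CfsgLib.Lie.RankOne

variable {G Ω : Type*} [Group G] [MulAction G Ω] [Finite G] [FaithfulSMul G Ω] {a : Ω} {t : G}
  {Q : Subgroup G}

local notation "𝔇" => ((stabilizer G a ⊓ stabilizer G (t • a)) : Subgroup G)
local notation "𝔎" => Cfsg.invertedBy (stabilizer G a ⊓ stabilizer G (t • a)) t
local notation "𝔍" => Cfsg.involutionsIn (stabilizer G a : Set G)

variable (hS : Cfsg.IsRankOneSetup G Ω a t Q)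
  (h2 : ∃ x y : G, x ≠ 1 ∧ y ≠ 1 ∧ x ≠ y ∧ x * x = 1 ∧ y * y = 1 ∧ x * y = y * x)
include hS h2

/-- The point stabiliser maps onto `V` with kernel `Q K`. -/
theorem exists_projV :
    ∃ π : ↥(stabilizer G a) →* ↥(Vg a t), ∀ (h : ↥(stabilizer G a)) (v : ↥(Vg a t)),
      (∃ y ∈ Q, ∃ k ∈ 𝔎, (h : G) = y * ((v : G) * k)) → π h = v := by
  classical
  have hex : ∀ h : ↥(stabilizer G a), ∃ v : ↥(Vg a t), ∃ y ∈ Q, ∃ k ∈ 𝔎, (h : G) = y * ((v : G) * k) :=
    fun h => by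
      obtain ⟨y, hy, d, hd, he⟩ := stab_eq_mul hS h.2
      obtain ⟨v, hv, k, hk, rfl⟩ := exists_split hS hd
      exact ⟨⟨v, hv⟩, y, hy, k, hk, he⟩
  choose f hf using hex
  have huniq : ∀ (h : ↥(stabilizer G a)) (v : ↥(Vg a t)),
      (∃ y ∈ Q, ∃ k ∈ 𝔎, (h : G) = y * ((v : G) * k)) → f h = v := by
    rintro h v ⟨y, hy, k, hk, he⟩
    obtain ⟨y', hy', k', hk', he'⟩ := hf h
    rw [he] at he'
    have hd : (v : G) * k ∈ 𝔇 := mul_mem (mem_Vg.1 v.2).1 hk.1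
    have hd' : (f h : G) * k' ∈ 𝔇 := mul_mem (mem_Vg.1 (f h).2).1 hk'.1
    have h' : y'⁻¹ * y = (f h : G) * k' * ((v : G) * k)⁻¹ := by
      rw [eq_mul_inv_iff_mul_eq, mul_assoc, he', inv_mul_cancel_left]
    have h3 := eq_one_of_fix_ta hS (mul_mem (inv_mem hy') hy) (by
      rw [h']; exact (Subgroup.mem_inf.1 (mul_mem hd' (inv_mem hd))).2)
    rw [h3] at h'
    have h4 : (v : G) * k = f h * k' := (mul_inv_eq_one.1 h'.symm).symm
    exact Subtype.ext (split_unique hS v.2 (f h).2 hk hk' h4).1.symm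
  refine ⟨MonoidHom.mk' f fun h h' => ?_, huniq⟩
  obtain ⟨y, hy, k, hk, he⟩ := hf h
  obtain ⟨y', hy', k', hk', he'⟩ := hf h'
  refine huniq _ _ ?_
  obtain ⟨C, hC, -, hn⟩ := CfsgLib.OddTransitive.RankOne.exists_cyclic hS h2
  have hkv : ((f h' : G))⁻¹ * k * (f h' : G) ∈ 𝔎 := by
    have := hn (f h' : G)⁻¹ (inv_mem (mem_Vg.1 (f h').2).1) k
      (by rw [← SetLike.mem_coe, hC]; exact hk)
    rwa [inv_inv, ← SetLike.mem_coe, hC] at this
  have hkk : (f h' : G)⁻¹ * k * (f h' : G) * k' ∈ 𝔎 := by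
    rw [← hC] at hkv hk' ⊢
    exact mul_mem hkv hk'
  refine ⟨y * ((f h : G) * k * y' * ((f h : G) * k)⁻¹),
    mul_mem hy (Q_conj hS (mul_mem (mem_Vg.1 (f h).2).1 hk.1) hy'), _, hkk, ?_⟩
  rw [Subgroup.coe_mul, he, he', Subgroup.coe_mul]
  group

/-- A linear character of `V` gives a linear character of the point stabiliser. -/
theorem exists_lam_of_hom (ψ : ↥(Vg a t) →* ℂˣ) :
    ∃ l : Lam a t Q, ∀ (v : G) (hv : v ∈ Vg a t),
      l.hom ⟨v, (Subgroup.mem_inf.1 (mem_Vg.1 hv).1).1⟩ = ψ ⟨v, hv⟩ := by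
  obtain ⟨π, hπ⟩ := exists_projV hS h2
  have hone : (1 : G) ∈ 𝔎 := one_mem_K hS
  refine ⟨⟨ψ.comp π, fun h hh => ?_, fun h hh => ?_, fun h h' hh he => ?_⟩, fun v hv => ?_⟩
  · show ψ (π h) = 1
    rw [hπ h 1 ⟨h, hh, 1, hone, by rw [Subgroup.coe_one, mul_one, mul_one]⟩, map_one]
  · show ψ (π h) = 1
    rw [hπ h 1 ⟨1, one_mem _, h, hh, by rw [Subgroup.coe_one, one_mul, one_mul]⟩, map_one]
  · show ψ (π h') = ψ (π h)
    obtain ⟨v, hv, k, hk, hd⟩ := exists_split hS (show (h : G) ∈ 𝔇 from Subgroup.mem_inf.2 ⟨h.2, hh⟩)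
    have hk' : k⁻¹ ∈ 𝔎 := ⟨inv_mem hk.1, by rw [← conj_inv, hk.2]⟩
    rw [hπ h ⟨v, hv⟩ ⟨1, one_mem _, k, hk, by rw [one_mul, hd]⟩,
      hπ h' ⟨v, hv⟩ ⟨1, one_mem _, k⁻¹, hk', ?_⟩]
    rw [he, hd, one_mul, ← t_conj_inv hS hk]
    calc t * (v * k) * t = (t * v) * (k * t) := by group
      _ = (v * t) * (k * t) := by rw [(mem_Vg.1 hv).2]
      _ = v * (t * k * t) := by group
  · show ψ (π _) = _
    rw [hπ _ ⟨v, hv⟩ ⟨1, one_mem _, 1, hone, by rw [one_mul, mul_one]⟩]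

variable {F : Type} [Field F] [Fintype F] (C : Coord a t F)

/-- The choice of the linear character. -/
theorem exists_lam (hV : Vg a t ≠ ⊥) :
    ∃ l : Lam a t Q, (∃ h : ↥(stabilizer G a), (h : G) ∈ stabilizer G (t • a) ∧ l.hom h ≠ 1) ∧
      ∀ p : ℕ, p.Prime → Nat.card C.aut.range = p → l.hom ^ p = 1 := by
  classical
  by_cases hA : C.aut.range = ⊥
  · have hodd : Odd (Nat.card ↥(Vg a t)) := odd_card_Vg hS
    haveI : Group.IsSolvable ↥(Vg a t) := Cfsg.Agent.S0205.result hodd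
    haveI : Nontrivial ↥(Vg a t) := (Subgroup.nontrivial_iff_ne_bot _).2 hV
    obtain ⟨v, hv⟩ : ∃ v : ↥(Vg a t), v ∉ commutator ↥(Vg a t) := by
      by_contra h
      push Not at h
      exact (IsSolvable.commutator_lt_top_of_nontrivial (G := ↥(Vg a t))).ne (eq_top_iff.2 fun x _ => h x)
    have hv1 : Abelianization.of v ≠ 1 := fun h => hv ((QuotientGroup.eq_one_iff v).1 h)
    obtain ⟨φ, hφ⟩ := CommGroup.exists_apply_ne_one_of_hasEnoughRootsOfUnity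
      (Abelianization ↥(Vg a t)) ℂ hv1
    obtain ⟨l, hl⟩ := exists_lam_of_hom hS h2 (φ.comp Abelianization.of)
    refine ⟨l, ⟨⟨v, (Subgroup.mem_inf.1 (mem_Vg.1 v.2).1).1⟩, (Subgroup.mem_inf.1 (mem_Vg.1 v.2).1).2,
      by rw [hl v v.2]; exact hφ⟩, fun p hp hc => ?_⟩
    rw [hA, Subgroup.card_bot] at hc
    exact absurd hc.symm hp.ne_one
  · letI : CommGroup ↥C.aut.range :=
      { (inferInstance : Group ↥C.aut.range) with
        mul_comm := fun x y => Subtype.ext (Coord.aut_comm (x : F ≃+* F) y) }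
    haveI : Finite ↥C.aut.range := Finite.of_surjective _ C.aut.rangeRestrict_surjective
    obtain ⟨g, hg, hg1⟩ := C.aut.range.bot_or_exists_ne_one.resolve_left hA
    obtain ⟨φ, hφ⟩ := CommGroup.exists_apply_ne_one_of_hasEnoughRootsOfUnity ↥C.aut.range ℂ
      (a := ⟨g, hg⟩) fun h => hg1 (congrArg Subtype.val h)
    obtain ⟨h0, rfl⟩ := MonoidHom.mem_range.1 hg
    obtain ⟨v, hv, hev⟩ := C.aut_eq_Vg hS h2 h0.2
    have hin : ∀ x : G, x ∈ Vg a t → x ∈ stabilizer G a := fun x hx => (Subgroup.mem_inf.1 (mem_Vg.1 hx).1).1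
    obtain ⟨l, hl⟩ := exists_lam_of_hom hS h2 ((φ.comp C.aut.rangeRestrict).comp (Subgroup.inclusion hin))
    refine ⟨l, ⟨⟨v, hin v hv⟩, (Subgroup.mem_inf.1 (mem_Vg.1 hv).1).2, ?_⟩, fun p hp hc => ?_⟩
    · rw [hl v hv]
      intro h
      refine hφ (Eq.trans (congrArg φ (Subtype.ext ?_)) h)
      exact hev
    · refine MonoidHom.ext fun h => ?_
      obtain ⟨y, hy, d, hd, he⟩ := stab_eq_mul hS h.2
      obtain ⟨w, hw, k, hk, rfl⟩ := exists_split hS hd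
      have h' : h = ⟨y, hS.le hy⟩ * (⟨w, hin w hw⟩ * ⟨k, (Subgroup.mem_inf.1 hk.1).1⟩) := Subtype.ext he
      rw [h', MonoidHom.pow_apply, map_mul, map_mul, l.map_Q _ hy, l.map_K ⟨k, (Subgroup.mem_inf.1 hk.1).1⟩ hk, hl w hw, one_mul, mul_one,
        MonoidHom.comp_apply, MonoidHom.comp_apply, ← map_pow, ← hc, pow_card_eq_one', map_one,
        MonoidHom.one_apply]

end CfsgLib.Lie.RankOneClass
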