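import Cfsg.Agent.Lib.Lie.RankOneClass.QProd
import Cfsg.Agent.Lib.Char.Coherence.Filtration
import Mathlib.GroupTheory.FiniteAbelian.Duality
import Mathlib.Analysis.Complex.Polynomial.Basic
import Mathlib.RingTheory.RootsOfUnity.AlgebraicallyClosed

/-!
Owner: helper5. Linear characters of the two-part of `Q` trivial on a subgroup with abelian factor.
-/

set_option autoImplicit false
set_option linter.unusedSectionVars false

namespace CfsgLib.Lie.RankOneClass

open MulAction CfsgLib.Lie.RankOne CfsgLib.Char CfsgLib.OddTransitive.RankOne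

variable {G Ω : Type*} [Group G] [MulAction G Ω] [Finite G] [FaithfulSMul G Ω] {a : Ω} {t : G}
  {Q : Subgroup G}

local notation "𝔇" => ((stabilizer G a ⊓ stabilizer G (t • a)) : Subgroup G)
local notation "𝔎" => Cfsg.invertedBy (stabilizer G a ⊓ stabilizer G (t • a)) t
local notation "𝔍" => Cfsg.involutionsIn (stabilizer G a : Set G)

variable (hS : Cfsg.IsRankOneSetup G Ω a t Q)

/-- A central subgroup of the two-part with abelian factor group, moved by the outer elements. -/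
structure Rel {F : Type} [Field F] (C : Coord a t F) (P : QDec Q) where
  /-- the subgroup -/
  R : Subgroup G
  le_S : R ≤ P.S
  central : ∀ x ∈ R, ∀ y ∈ P.S, x * y = y * x
  comm_mem : ∀ x ∈ P.S, ∀ y ∈ P.S, x⁻¹ * y⁻¹ * x * y ∈ R
  conj_mem : ∀ d : 𝔇, ∀ x ∈ R, (d : G)⁻¹ * x * d ∈ R
  moves : ∀ d : 𝔇, C.aut ⟨d, (Subgroup.mem_inf.1 d.2).1⟩ ≠ 1 → ∃ x ∈ P.S, x⁻¹ * ((d : G)⁻¹ * x * d) ∉ R
  small : R = ⊥ ∨ Nat.card R = qq G a

variable {F : Type} [Field F] [Fintype F] {C : Coord a t F} {P : QDec Q}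

namespace Rel

variable (Rl : Rel C P)

theorem normal : (Rl.R.subgroupOf P.S).Normal :=
  ⟨fun x hx g => by
    rw [Subgroup.mem_subgroupOf] at hx ⊢
    rw [Subgroup.coe_mul, Subgroup.coe_mul, Subgroup.coe_inv, ← Rl.central _ hx _ g.2, mul_inv_cancel_right]
    exact hx⟩

/-- The linear characters trivial on the subgroup. -/
def lin : Subgroup (P.S →* ℂˣ) where
  carrier := {α | ∀ s : P.S, (s : G) ∈ Rl.R → α s = 1}
  one_mem' _ _ := rfl
  mul_mem' {α β} hα hβ s hs := by rw [MonoidHom.mul_apply, hα s hs, hβ s hs, one_mul]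
  inv_mem' {α} hα s hs := by rw [MonoidHom.inv_apply, hα s hs, inv_one]

/-- A linear character as an irreducible character. -/
def linIrr (α : P.S →* ℂˣ) : Cfsg.IrrCharacter P.S := ⟨fun s => (α s : ℂ), isIrrCharacter_linear α⟩

theorem linIrr_apply (α : P.S →* ℂˣ) (s : P.S) : (linIrr α : P.S → ℂ) s = (α s : ℂ) := rfl

theorem linIrr_injective : Function.Injective (linIrr (P := P)) := fun α β h =>
  MonoidHom.ext fun s => Units.ext (congrFun (congrArg Subtype.val h) s)

include hS in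
theorem twS_linIrr (d : 𝔇) (α : P.S →* ℂˣ) :
    twS hS P d (linIrr α) = linIrr (α.comp (conjS hS P d)) := rfl

theorem comp_mem (d : 𝔇) {α : P.S →* ℂˣ} (hα : α ∈ Rl.lin) : α.comp (conjS hS P d) ∈ Rl.lin :=
  fun s hs => hα _ (Rl.conj_mem d _ hs)

theorem card_lin : Nat.card Rl.lin * Nat.card Rl.R = Nat.card P.S := by
  classical
  haveI := Rl.normal
  letI : CommGroup (P.S ⧸ Rl.R.subgroupOf P.S) :=
    { (inferInstance : Group (P.S ⧸ Rl.R.subgroupOf P.S)) with
      mul_comm := fun u v => by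
        obtain ⟨x, rfl⟩ := QuotientGroup.mk'_surjective _ u
        obtain ⟨y, rfl⟩ := QuotientGroup.mk'_surjective _ v
        rw [← map_mul, ← map_mul, QuotientGroup.mk'_apply, QuotientGroup.mk'_apply, QuotientGroup.eq,
          Subgroup.mem_subgroupOf]
        have h := Rl.comm_mem y y.2 x x.2
        simpa [mul_assoc, mul_inv_rev] using h }
  have e : (P.S ⧸ Rl.R.subgroupOf P.S →* ℂˣ) ≃ Rl.lin :=
    { toFun := fun f => ⟨f.comp (QuotientGroup.mk' _), fun s hs => by
        rw [MonoidHom.comp_apply, QuotientGroup.mk'_apply,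
          (QuotientGroup.eq_one_iff s).2 (Subgroup.mem_subgroupOf.2 hs), map_one]⟩
      invFun := fun α => QuotientGroup.lift _ α.1 fun s hs =>
        MonoidHom.mem_ker.2 (α.2 s (Subgroup.mem_subgroupOf.1 hs))
      left_inv := fun f => MonoidHom.ext fun u => by
        obtain ⟨x, rfl⟩ := QuotientGroup.mk'_surjective _ u
        rfl
      right_inv := fun α => Subtype.ext (MonoidHom.ext fun s => rfl) }
  rw [← Nat.card_congr e, CommGroup.card_monoidHom_of_hasEnoughRootsOfUnity,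
    ← Nat.card_congr (Subgroup.subgroupOfEquivOfLe Rl.le_S).toEquiv,
    ← Subgroup.card_eq_card_quotient_mul_card_subgroup]

theorem sq_degree_le (α : Cfsg.IrrCharacter P.S) {b : ℕ} (hb : (α : P.S → ℂ) 1 = b) :
    b ^ 2 ≤ Nat.card Rl.lin := by
  haveI := Rl.normal
  have h := CfsgLib.Coh.sq_charDegree_le_index α ⊥ (Rl.R.subgroupOf P.S)
    (fun g hg => by rw [Subgroup.mem_bot.1 hg]) bot_le (fun d hd g => by
      rw [Subgroup.mem_bot]
      refine Subtype.ext ?_
      rw [Subgroup.coe_mul, Subgroup.coe_mul, Subgroup.coe_mul, Subgroup.coe_inv, Subgroup.coe_inv,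
        Rl.central _ (Subgroup.mem_subgroupOf.1 hd) _ g.2, mul_inv_cancel_right, mul_inv_cancel]
      rfl)
  have hdeg : Cfsg.charDegree (α : P.S → ℂ) = b := by
    have h1 := CfsgLib.CharDegree.cast_irrDegree α
    rw [hb] at h1
    exact_mod_cast h1
  rw [hdeg] at h
  refine h.trans (le_of_eq ?_)
  refine Nat.eq_of_mul_eq_mul_right (Nat.card_pos (α := Rl.R)) ?_
  rw [Rl.card_lin]
  nth_rw 1 [← Nat.card_congr (Subgroup.subgroupOfEquivOfLe Rl.le_S).toEquiv]
  exact Subgroup.index_mul_card _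

/-- The linear characters fixed by a subgroup of the two-point stabiliser. -/
def fixedLin (T : Subgroup 𝔇) : Subgroup ↥Rl.lin where
  carrier := {α | ∀ d ∈ T, (α : P.S →* ℂˣ).comp (conjS hS P d) = α}
  one_mem' _ _ := rfl
  mul_mem' {α β} hα hβ d hd := by
    show ((α : P.S →* ℂˣ) * β).comp (conjS hS P d) = (α : P.S →* ℂˣ) * β
    rw [MonoidHom.mul_comp, hα d hd, hβ d hd]
  inv_mem' {α} hα d hd := by
    show ((α : P.S →* ℂˣ)⁻¹).comp (conjS hS P d) = (α : P.S →* ℂˣ)⁻¹
    refine MonoidHom.ext fun s => ?_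
    rw [MonoidHom.comp_apply, MonoidHom.inv_apply, MonoidHom.inv_apply, ← MonoidHom.comp_apply, hα d hd]

/-- An outer element moves a linear character. -/
theorem fixedLin_ne_top {T : Subgroup 𝔇} {d : 𝔇} (hd : d ∈ T)
    (hne : C.aut ⟨d, (Subgroup.mem_inf.1 d.2).1⟩ ≠ 1) : Rl.fixedLin hS T ≠ ⊤ := by
  intro htop
  classical
  haveI := Rl.normal
  obtain ⟨x, hx, hxR⟩ := Rl.moves d hne
  letI : CommGroup (P.S ⧸ Rl.R.subgroupOf P.S) :=
    { (inferInstance : Group (P.S ⧸ Rl.R.subgroupOf P.S)) with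
      mul_comm := fun u v => by
        obtain ⟨x, rfl⟩ := QuotientGroup.mk'_surjective _ u
        obtain ⟨y, rfl⟩ := QuotientGroup.mk'_surjective _ v
        rw [← map_mul, ← map_mul, QuotientGroup.mk'_apply, QuotientGroup.mk'_apply, QuotientGroup.eq,
          Subgroup.mem_subgroupOf]
        have h := Rl.comm_mem y y.2 x x.2
        simpa [mul_assoc, mul_inv_rev] using h }
  refine hxR ?_
  have hq : QuotientGroup.mk' (Rl.R.subgroupOf P.S) (conjS hS P d ⟨x, hx⟩) =
      QuotientGroup.mk' (Rl.R.subgroupOf P.S) ⟨x, hx⟩ := by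
    refine (CommGroup.forall_apply_eq_apply_iff (M := ℂ) (G := P.S ⧸ Rl.R.subgroupOf P.S)).1 fun φ => ?_
    have hα : φ.comp (QuotientGroup.mk' _) ∈ Rl.lin := fun s hs => by
      rw [MonoidHom.comp_apply, QuotientGroup.mk'_apply,
        (QuotientGroup.eq_one_iff s).2 (Subgroup.mem_subgroupOf.2 hs), map_one]
    exact DFunLike.congr_fun ((show (⟨_, hα⟩ : ↥Rl.lin) ∈ Rl.fixedLin hS T from htop ▸ Subgroup.mem_top _) d hd)
      ⟨x, hx⟩
  rw [QuotientGroup.mk'_apply, QuotientGroup.mk'_apply, eq_comm, QuotientGroup.eq,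
    Subgroup.mem_subgroupOf] at hq
  exact hq

end Rel

variable (h2 : ∃ x y : G, x ≠ 1 ∧ y ≠ 1 ∧ x ≠ y ∧ x * x = 1 ∧ y * y = 1 ∧ x * y = y * x)

include hS in
theorem conj_J (d : 𝔇) {x : G} (hx : x ∈ 𝔍) : (d : G)⁻¹ * x * d ∈ 𝔍 := by
  have := conj_mem_J hS hx (d := (d : G)⁻¹) (inv_mem (Subgroup.mem_inf.1 d.2).1)
  rwa [inv_inv] at this

include hS h2 in
/-- Every element of `J` is a square in a non-elementary two-part. -/
theorem exists_sqrt {x₀ : G} (hx₀ : x₀ ∈ P.S) (hsq : x₀ * x₀ ∈ 𝔍) {s : G} (hs : s ∈ 𝔍) :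
    ∃ x ∈ P.S, x * x = s := by
  obtain ⟨k, ⟨hk, he⟩, -⟩ := exists_unique_K hS hsq hs
  refine ⟨k⁻¹ * x₀ * k, ?_, by rw [← he]; group⟩
  have := P.conj_S (d := k⁻¹) (fun y hy => Q_conj hS (inv_mem hk.1) hy) hx₀
  rwa [inv_inv] at this

include hS h2 in
/-- An outer element moves the two-part modulo the involutions, unless this is elementary. -/
theorem moves_mod_J {x₀ : G} (hx₀ : x₀ ∈ P.S) (hsq : x₀ * x₀ ∈ 𝔍) {d : 𝔇}
    (hne : C.aut ⟨d, (Subgroup.mem_inf.1 d.2).1⟩ ≠ 1) :
    ∃ x ∈ P.S, x⁻¹ * ((d : G)⁻¹ * x * d) ∉ involutionGroup hS h2 := by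
  by_contra hcon
  push Not at hcon
  have hfix : ∀ s ∈ 𝔍, (d : G)⁻¹ * s * d = s := fun s hs => by
    obtain ⟨x, hx, rfl⟩ := exists_sqrt hS h2 hx₀ hsq hs
    have hz := hcon x hx
    generalize hzz : x⁻¹ * ((d : G)⁻¹ * x * d) = z at hz
    have e : (d : G)⁻¹ * x * d = x * z := by rw [← hzz, mul_inv_cancel_left]
    have hzc : z * x = x * z := by
      rcases hz with h | h
      · rw [h, one_mul, mul_one]
      · exact J_central hS h2 h (P.S_le hx)
    have hz2 : z * z = 1 := by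
      rcases hz with h | h
      · rw [h, one_mul]
      · exact h.2.2
    calc (d : G)⁻¹ * (x * x) * d = ((d : G)⁻¹ * x * d) * ((d : G)⁻¹ * x * d) := by group
      _ = x * (z * x) * z := by rw [e]; group
      _ = x * x * (z * z) := by rw [hzc]; group
      _ = x * x := by rw [hz2, mul_one]
  refine hne (C.aut_unique _ 1 1 fun y => ?_)
  show (d : G) * C.z y * (d : G)⁻¹ = C.z (1 * y)
  rw [one_mul]
  by_cases hy : y = 0
  · rw [hy, C.z_zero, mul_one, mul_inv_cancel]
  · conv_lhs => rw [← hfix _ (C.z_mem y hy)]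
    group

include hS h2 in
/-- The subgroup exists. -/
theorem exists_rel : Nonempty (Rel C P) := by
  rcases P.S_cases hS h2 with hab | ⟨hsq, hcm, -⟩
  · refine ⟨⟨⊥, bot_le, fun x hx y _ => by rw [Subgroup.mem_bot.1 hx, one_mul, mul_one],
      fun x hx y hy => ?_, fun d x hx => ?_, fun d hd => ?_, Or.inl rfl⟩⟩
    · have hc : Commute x y := hab x hx y hy
      rw [Subgroup.mem_bot, show x⁻¹ * y⁻¹ * x * y = x⁻¹ * (y⁻¹ * (x * y)) by group, hc.eq,
        inv_mul_cancel_left, inv_mul_cancel]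
    · rw [Subgroup.mem_bot] at hx ⊢
      rw [hx, mul_one, inv_mul_cancel]
    · by_contra hcon
      push Not at hcon
      refine hd (C.aut_unique _ 1 1 fun y => ?_)
      show (d : G) * C.z y * (d : G)⁻¹ = C.z (1 * y)
      have h := hcon (C.z y) (P.mem_S (C.z_mem_Q hS y) (i := 1) (by
        rw [pow_one, pow_two, ← C.z_add]
        haveI := C.charTwo
        rw [CharTwo.add_self_eq_zero, C.z_zero]))
      rw [Subgroup.mem_bot, inv_mul_eq_one] at h
      rw [one_mul]
      conv_lhs => rw [h]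
      group
  · by_cases hab : ∀ x ∈ P.S, x * x = 1
    · refine ⟨⟨⊥, bot_le, fun x hx y _ => by rw [Subgroup.mem_bot.1 hx, one_mul, mul_one],
        fun x hx y hy => ?_, fun d x hx => ?_, fun d hd => ?_, Or.inl rfl⟩⟩
      · rw [Subgroup.mem_bot, inv_eq_of_mul_eq_one_right (hab x hx), inv_eq_of_mul_eq_one_right (hab y hy),
          show x * y * x * y = x * y * (x * y) by group, hab _ (mul_mem hx hy)]
      · rw [Subgroup.mem_bot] at hx ⊢
        rw [hx, mul_one, inv_mul_cancel]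
      · by_contra hcon
        push Not at hcon
        refine hd (C.aut_unique _ 1 1 fun y => ?_)
        show (d : G) * C.z y * (d : G)⁻¹ = C.z (1 * y)
        have h := hcon (C.z y) (P.mem_S (C.z_mem_Q hS y) (i := 1) (by
          rw [pow_one, pow_two, ← C.z_add]
          haveI := C.charTwo
          rw [CharTwo.add_self_eq_zero, C.z_zero]))
        rw [Subgroup.mem_bot, inv_mul_eq_one] at h
        rw [one_mul]
        conv_lhs => rw [h]
        group
    · push Not at hab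
      obtain ⟨x₀, hx₀, hne⟩ := hab
      refine ⟨⟨involutionGroup hS h2, P.ZJ_le hS h2, fun x hx y hy => ?_, hcm, fun d x hx => ?_,
        fun d hd => moves_mod_J hS h2 hx₀ ((hsq x₀ hx₀).resolve_left hne) hd, Or.inr (card_ZJ hS h2)⟩⟩
      · rcases hx with h | h
        · rw [h, one_mul, mul_one]
        · exact J_central hS h2 h (P.S_le hy)
      · rcases hx with h | h
        · exact Or.inl (by rw [h, mul_one, inv_mul_cancel])
        · exact Or.inr (conj_J hS d h)

end CfsgLib.Lie.RankOneClass
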