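import Cfsg.Prelude.Def_Classical
import Mathlib.GroupTheory.Perm.Basic
import Mathlib.FieldTheory.Finite.Basic

/-!
Owner: helper5. The isotropic points of the hermitian form `X Y^q + Y X^q + Z Z^q` over a field with `q^2`
elements, in affine coordinates, with the root group at `(1:0:0)` and the swap of `X` and `Y`.
-/

set_option autoImplicit false

namespace CfsgLib.Lie.RankOneClass.Model

variable (L : Type*) [Field L] (q : ℕ)

/-- Affine isotropic points `(p : 1 : c)`. -/
abbrev HPt : Type _ := {pc : L × L // pc.1 + pc.1 ^ q + pc.2 ^ (q + 1) = 0}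

/-- All isotropic points: `none` is `(1 : 0 : 0)`. -/
abbrev Point : Type _ := Option (HPt L q)

variable {L q}

/-- A permutation of the points is the root element of `x` if it fixes `none` and translates the affine
points by the law of the Heisenberg group. -/
def IsRoot (x : HPt L q) (σ : Equiv.Perm (Point L q)) : Prop :=
  σ none = none ∧ ∀ y : HPt L q, ∃ z : HPt L q, σ (some y) = some z ∧
    z.1 = (y.1.1 + x.1.1 + x.1.2 ^ q * y.1.2, y.1.2 + x.1.2)

/-- A permutation of the points is the swap of the first two coordinates. -/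
def IsSwap (σ : Equiv.Perm (Point L q)) : Prop :=
  (∀ y : HPt L q, y.1.1 = 0 → σ (some y) = none ∧ σ none = some y) ∧
    ∀ y : HPt L q, y.1.1 ≠ 0 → ∃ z : HPt L q, σ (some y) = some z ∧ z.1 = (1 / y.1.1, y.1.2 / y.1.1)

/-- The group generated by the root elements and the swap. -/
def rootGroup (L : Type*) [Field L] (q : ℕ) : Subgroup (Equiv.Perm (Point L q)) :=
  Subgroup.closure ({σ | ∃ x, IsRoot x σ} ∪ {σ | IsSwap σ})

end CfsgLib.Lie.RankOneClass.Model
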