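import Cfsg.Agent.Lib.Lie.RankOneClass.Faithful
import Cfsg.Agent.Lib.Lie.RankOneClass.LamExists
import Cfsg.Agent.Lib.Lie.RankOneClass.Transfer
import Cfsg.Agent.Lib.Char.PowerTwist

/-!
Owner: helper5. The pair of exceptional characters and the vanishing criterion.
-/

set_option autoImplicit false
set_option linter.unusedSectionVars false

namespace CfsgLib.Lie.RankOneClass

open MulAction CfsgLib.Lie.RankOne CfsgLib.Char
open scoped ComplexConjugate

/-- The two constituents of an induced linear character, and what is needed about them. -/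
structure Split {G Ω : Type*} [Group G] [MulAction G Ω] [Fintype G] {a : Ω} {t : G} {F : Type} [Field F]
    (C : Coord a t F) (Q : Subgroup G) [Fintype ↥Q] where
  /-- the first constituent -/
  χ : Cfsg.IrrCharacter G
  /-- the second constituent -/
  χ' : Cfsg.IrrCharacter G
  /-- the number of conjugate pairs -/
  L : ℕ
  one_le_L : 1 ≤ L
  L_big : ∀ p : ℕ, p.Prime → Nat.card C.aut.range = p → p - 1 ≤ L
  sum_one : (χ : G → ℂ) 1 + (χ' : G → ℂ) 1 = (Nat.card Q : ℂ) + 1
  sum_Q : ∀ y ∈ Q, y ≠ 1 → (χ : G → ℂ) y + (χ' : G → ℂ) y = 1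
  eqn : ∀ s ∈ Cfsg.involutionsIn (stabilizer G a : Set G),
    (χ : G → ℂ) s ^ 2 / (χ : G → ℂ) 1 + (χ' : G → ℂ) s ^ 2 / (χ' : G → ℂ) 1 = 1
  faithful : ∀ g : G, (χ : G → ℂ) g = (χ : G → ℂ) 1 → g = 1
  faithful' : ∀ g : G, (χ' : G → ℂ) g = (χ' : G → ℂ) 1 → g = 1
  not_linear : (χ : G → ℂ) 1 ≠ 1
  not_linear' : (χ' : G → ℂ) 1 ≠ 1
  vanish : ∀ f : ↥Q → ℂ, Cfsg.IsClassFunction Q f → f 1 = 0 → Cfsg.classInner f (fun _ => 1) = 0 →
    ∀ x : ℤ, Cfsg.classInner f (fun y : ↥Q => (χ : G → ℂ) y) = (x : ℂ) →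
      (Cfsg.classInner (Cfsg.indFun Q f) (Cfsg.indFun Q f)).re ≤ 2 * (L : ℝ) → x = 0

section Inner

variable {G Ω : Type*} [Group G] [MulAction G Ω] [Fintype G] {a : Ω} {t : G} {F : Type} [Field F]
  {C : Coord a t F} {Q : Subgroup G} [Fintype ↥Q]

/-- The two restrictions sum up to the principal and the regular character. -/
theorem inner_add_of_sum {χ χ' : G → ℂ} (h1 : χ 1 + χ' 1 = (Nat.card Q : ℂ) + 1)
    (hQ : ∀ y ∈ Q, y ≠ 1 → χ y + χ' y = 1) (f : ↥Q → ℂ) :
    Cfsg.classInner f (fun y : ↥Q => χ y) + Cfsg.classInner f (fun y : ↥Q => χ' y) =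
      Cfsg.classInner f (fun _ => 1) + f 1 := by
  classical
  rw [← classInner_add_right]
  have e : ((fun y : ↥Q => χ y) + fun y : ↥Q => χ' y) =
      (fun _ => (1 : ℂ)) + fun y : ↥Q => if y = 1 then (Nat.card Q : ℂ) else 0 := funext fun y => by
    by_cases hy : y = 1
    · simp only [Pi.add_apply, hy, if_true, Subgroup.coe_one, h1]
      ring
    · simp only [Pi.add_apply, hy, if_false, add_zero]
      exact hQ y y.2 fun h => hy (Subtype.ext h)
  rw [e, classInner_add_right]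
  congr 1
  simp only [Cfsg.classInner, apply_ite, map_natCast, map_zero, mul_ite, mul_zero, Finset.sum_ite_eq',
    Finset.mem_univ, if_true]
  rw [mul_comm, mul_assoc, mul_inv_cancel₀ (Nat.cast_ne_zero.mpr Nat.card_pos.ne'), mul_one]

/-- Exchange of the two constituents. -/
def Split.swap (S : Split C Q) : Split C Q where
  χ := S.χ'
  χ' := S.χ
  L := S.L
  one_le_L := S.one_le_L
  L_big := S.L_big
  sum_one := by rw [add_comm]; exact S.sum_one
  sum_Q y hy hy1 := by rw [add_comm]; exact S.sum_Q y hy hy1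
  eqn s hs := by rw [add_comm]; exact S.eqn s hs
  faithful := S.faithful'
  faithful' := S.faithful
  not_linear := S.not_linear'
  not_linear' := S.not_linear
  vanish f hf h1 hone x hx hB := by
    have h := inner_add_of_sum S.sum_one S.sum_Q f
    rw [hx, hone, h1, add_zero, add_eq_zero_iff_eq_neg] at h
    have := S.vanish f hf h1 hone (-x) (by rw [h, Int.cast_neg]) hB
    omega

/-- The vanishing criterion from a family of pairs. -/
theorem vanish_of_pairs {ι : Type*} [Fintype ι] [Nonempty ι] (χ : ι ⊕ ι → Cfsg.IrrCharacter G)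
    (hχ : Function.Injective χ) (F₀ : G → ℂ) (h1 : F₀ 1 = 0) (x : ℤ) {d d' : ℂ} (hd : d ≠ d')
    (hdeg : ∀ i, ((χ (Sum.inl i) : G → ℂ) 1) = d ∧ ((χ (Sum.inr i) : G → ℂ) 1) = d')
    (hx : ∀ i, Cfsg.classInner F₀ (χ (Sum.inl i) : G → ℂ) = (x : ℂ) ∧
      Cfsg.classInner F₀ (χ (Sum.inr i) : G → ℂ) = -(x : ℂ))
    (hB : (Cfsg.classInner F₀ F₀).re ≤ 2 * (Fintype.card ι : ℝ)) : x = 0 := by
  classical
  by_contra hx0
  obtain ⟨hle, heq⟩ := bessel_eq χ hχ F₀
  have hsum : ∑ i, Complex.normSq (Cfsg.classInner F₀ (χ i : G → ℂ)) =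
      2 * (Fintype.card ι : ℝ) * (x : ℝ) ^ 2 := by
    rw [Fintype.sum_sum_type]
    simp only [fun i => (hx i).1, fun i => (hx i).2, Complex.normSq_neg, ← Complex.ofReal_intCast,
      Complex.normSq_ofReal, Finset.sum_const, Finset.card_univ, nsmul_eq_mul]
    ring
  rw [hsum] at hle heq
  have hx1 : (1 : ℝ) ≤ (x : ℝ) ^ 2 := by
    have h1' : 1 ≤ |x| := Int.one_le_abs hx0
    have h2' : (1 : ℤ) ≤ x ^ 2 := by nlinarith [sq_abs x]
    exact_mod_cast h2'
  have hL : (0 : ℝ) < Fintype.card ι := Nat.cast_pos.2 Fintype.card_pos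
  have he := congrFun (heq (le_antisymm hle (by nlinarith))) 1
  rw [h1, Finset.sum_apply, Fintype.sum_sum_type] at he
  simp only [Pi.smul_apply, smul_eq_mul, fun i => (hx i).1, fun i => (hx i).2, fun i => (hdeg i).1,
    fun i => (hdeg i).2, Finset.sum_const, Finset.card_univ, nsmul_eq_mul] at he
  have hne : (Fintype.card ι : ℂ) * ((x : ℂ) * (d - d')) ≠ 0 :=
    mul_ne_zero (Nat.cast_ne_zero.2 Fintype.card_pos.ne')
      (mul_ne_zero (Int.cast_ne_zero.2 hx0) (sub_ne_zero.2 hd))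
  exact hne (by linear_combination -he)

end Inner

variable {G Ω : Type*} [Group G] [MulAction G Ω] [Finite G] [FaithfulSMul G Ω] {a : Ω} {t : G}
  {Q : Subgroup G} {F : Type} [Field F] [Fintype F] (C : Coord a t F)
  (hS : Cfsg.IsRankOneSetup G Ω a t Q)
  (h2 : ∃ x y : G, x ≠ 1 ∧ y ≠ 1 ∧ x ≠ y ∧ x * x = 1 ∧ y * y = 1 ∧ x * y = y * x)
include hS h2

/-- The linear character is nontrivial, so the induced one misses the principal character. -/
theorem inner_ind_one [Fintype G] (l : Lam a t Q) (hl : ∃ h : ↥(stabilizer G a), l.hom h ≠ 1) :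
    Cfsg.classInner l.ind (fun _ => 1) = 0 := by
  classical
  haveI : Fintype ↥(stabilizer G a) := Fintype.ofFinite _
  rw [Lam.ind, frobenius_reciprocity _ l.fn (fun _ _ => rfl)]
  simp only [Cfsg.classInner, map_one, mul_one]
  rw [show ∑ h : ↥(stabilizer G a), l.fn h = 0 from sum_hom_units_eq_zero ((Units.coeHom ℂ).comp l.hom)
    fun h => by
      obtain ⟨x, hx⟩ := hl
      exact hx (Units.ext (DFunLike.congr_fun h x :)), mul_zero]

/-- The pair exists. -/
theorem exists_split_chars [Fintype G] [Fintype ↥Q] (hN : NoExt t Q) (hV : Vg a t ≠ ⊥) :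
    Nonempty (Split C Q) := by
  classical
  obtain ⟨_, hΩ⟩ := card_points hS
  haveI := Fintype.ofFinite Ω
  haveI : Fintype ↥((stabilizer G a ⊓ stabilizer G (t • a)) : Subgroup G) := Fintype.ofFinite _
  obtain ⟨l, ⟨h₀, hh₀, hne⟩, hpow⟩ := exists_lam hS h2 C hV
  have hinner : ∀ m : Lam a t Q, Cfsg.classInner m.ind m.ind = 2 := fun m =>
    (m.inner_ind hS m).trans (if_pos fun h _ => rfl)
  obtain ⟨χ, χ', hχne, he⟩ := exists_two_constituents l.ind_isCharacter (hinner l)
  have hsum1 : (χ : G → ℂ) 1 + (χ' : G → ℂ) 1 = (Nat.card Q : ℂ) + 1 := by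
    rw [← Pi.add_apply (f := (χ : G → ℂ)), ← he, l.ind_one hS]
  have hsumQ : ∀ y ∈ Q, y ≠ 1 → (χ : G → ℂ) y + (χ' : G → ℂ) y = 1 := fun y hy hy1 => by
    rw [← Pi.add_apply (f := (χ : G → ℂ)), ← he, l.ind_Q hS hy hy1]
  have hnt : ∀ ψ : Cfsg.IrrCharacter G, ψ = χ ∨ ψ = χ' → (ψ : G → ℂ) ≠ fun _ => 1 := fun ψ hψ hone => by
    have h0 := inner_ind_one hS h2 l ⟨h₀, hne⟩
    rw [← hone, he, classInner_add_left] at h0
    rcases hψ with rfl | rfl
    · rw [classInner_irr_self, classInner_irr_of_ne (Ne.symm hχne), add_zero] at h0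
      exact one_ne_zero h0
    · rw [classInner_irr_self, classInner_irr_of_ne hχne, zero_add] at h0
      exact one_ne_zero h0
  have hf : ∀ g, (χ : G → ℂ) g = (χ : G → ℂ) 1 → g = 1 := fun g =>
    faithful_of_noExt hS h2 hN χ (hnt χ (Or.inl rfl))
  have hf' : ∀ g, (χ' : G → ℂ) g = (χ' : G → ℂ) 1 → g = 1 := fun g =>
    faithful_of_noExt hS h2 hN χ' (hnt χ' (Or.inr rfl))
  obtain ⟨d, -, hd⟩ := IsIrr.exists_degree χ.2
  obtain ⟨d', -, hd'⟩ := IsIrr.exists_degree χ'.2
  have hdd : (χ : G → ℂ) 1 ≠ (χ' : G → ℂ) 1 := fun h => by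
    rw [h] at hsum1
    rw [hd'] at hsum1
    have h2' : d' + d' = Nat.card Q + 1 := by exact_mod_cast hsum1
    have := hS.even_card
    rw [even_iff_two_dvd] at this
    omega
  suffices hfam : ∃ L : ℕ, 1 ≤ L ∧ (∀ p : ℕ, p.Prime → Nat.card C.aut.range = p → p - 1 ≤ L) ∧
      ∃ k : Fin L → ℕ, (∀ i, (k i).Coprime (Nat.card G)) ∧ (∀ i, ∀ y : ↥Q, (y : G) ^ k i = y) ∧
        ∀ i j, (∀ h : ↥(stabilizer G a), (h : G) ∈ stabilizer G (t • a) →
          (l.pow (k i)).hom h = (l.pow (k j)).hom h) → i = j by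
    obtain ⟨L, hL1, hLbig, k, hk, hkQ, hkinj⟩ := hfam
    refine ⟨⟨χ, χ', L, hL1, hLbig, hsum1, hsumQ,
      fun s hs => l.involution_equation hS h2 he hs, hf, hf',
      not_linear hS h2 χ hf, not_linear hS h2 χ' hf', ?_⟩⟩
    intro f hfc hf1 hfone x hx hB
    haveI : Nonempty (Fin L) := ⟨⟨0, hL1⟩⟩
    let fam : Fin L ⊕ Fin L → Cfsg.IrrCharacter G := Sum.elim
      (fun i => ⟨fun g => (χ : G → ℂ) (g ^ k i), isIrrCharacter_pow χ.2 (hk i)⟩)
      (fun i => ⟨fun g => (χ' : G → ℂ) (g ^ k i), isIrrCharacter_pow χ'.2 (hk i)⟩)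
    have hind : ∀ i, (l.pow (k i)).ind =
        (fam (Sum.inl i) : G → ℂ) + (fam (Sum.inr i) : G → ℂ) := fun i => funext fun g => by
      show Cfsg.indFun _ (fun h => ((l.hom ^ k i) h : ℂ)) g = (χ : G → ℂ) (g ^ k i) + (χ' : G → ℂ) (g ^ k i)
      rw [← indFun_apply_pow _ l.hom (hk i), ← Pi.add_apply (f := (χ : G → ℂ)), ← he]
      rfl
    have hpne : ∀ i, fam (Sum.inl i) ≠ fam (Sum.inr i) := fun i h => hdd (by
      have := congrFun (congrArg Subtype.val h) 1
      simpa [fam] using this)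
    have hinj : Function.Injective fam := by
      intro u w huw
      have hcomp : ∀ i, ∀ w' : Fin L ⊕ Fin L, (w' = Sum.inl i ∨ w' = Sum.inr i) →
          Cfsg.classInner (l.pow (k i)).ind (fam w' : G → ℂ) = 1 := fun i w' hw' => by
        rw [hind i, classInner_add_left]
        rcases hw' with rfl | rfl
        · rw [classInner_irr_self, classInner_irr_of_ne (Ne.symm (hpne i)), add_zero]
        · rw [classInner_irr_self, classInner_irr_of_ne (hpne i), zero_add]
      have hsame : ∀ i j, ∀ wi wj, (wi = Sum.inl i ∨ wi = Sum.inr i) → (wj = Sum.inl j ∨ wj = Sum.inr j) →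
          fam wi = fam wj → i = j := fun i j wi wj hwi hwj hw => by
        by_contra hij
        have h0 : Cfsg.classInner (l.pow (k i)).ind (l.pow (k j)).ind = 0 :=
          ((l.pow (k i)).inner_ind hS (l.pow (k j))).trans (if_neg fun h => hij (hkinj i j h))
        have hnn : ∀ w', ∃ n : ℕ, Cfsg.classInner (l.pow (k i)).ind (fam w' : G → ℂ) = n := fun w' =>
          IsChar.classInner_eq_natCast (l.pow (k i)).ind_isCharacter (IsIrr.isCharacter (fam w').2)
        obtain ⟨n₁, hn₁⟩ := hnn (Sum.inl j)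
        obtain ⟨n₂, hn₂⟩ := hnn (Sum.inr j)
        rw [hind j, classInner_add_right, hn₁, hn₂, ← Nat.cast_add, Nat.cast_eq_zero] at h0
        have h1' := hcomp i wi hwi
        rw [hw] at h1'
        rcases hwj with rfl | rfl
        · rw [hn₁, Nat.cast_eq_one] at h1'; omega
        · rw [hn₂, Nat.cast_eq_one] at h1'; omega
      rcases u with i | i <;> rcases w with j | j
      · rw [hsame i j _ _ (Or.inl rfl) (Or.inl rfl) huw]
      · obtain rfl := hsame i j _ _ (Or.inl rfl) (Or.inr rfl) huw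
        exact absurd huw (hpne i)
      · obtain rfl := hsame i j _ _ (Or.inr rfl) (Or.inl rfl) huw
        exact absurd huw.symm (hpne i)
      · rw [hsame i j _ _ (Or.inr rfl) (Or.inr rfl) huw]
    have hres : ∀ (ψ : Cfsg.IrrCharacter G) i, Cfsg.classInner (Cfsg.indFun Q f)
        (fun g => (ψ : G → ℂ) (g ^ k i)) = Cfsg.classInner f (fun y : ↥Q => (ψ : G → ℂ) y) := fun ψ i => by
      rw [frobenius_reciprocity Q f (IsIrr.isClassFunction (isIrrCharacter_pow ψ.2 (hk i)))]
      exact congrArg (Cfsg.classInner f) (funext fun y => by rw [hkQ i y])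
    have hx' : Cfsg.classInner f (fun y : ↥Q => (χ' : G → ℂ) y) = -(x : ℂ) := by
      have h := inner_add_of_sum hsum1 hsumQ f
      rw [hx, hfone, hf1, add_zero, add_comm, add_eq_zero_iff_eq_neg] at h
      exact h
    refine vanish_of_pairs fam hinj (Cfsg.indFun Q f) (by rw [indFun_apply_one, hf1, mul_zero]) x hdd
      (fun i => ⟨by simp [fam], by simp [fam]⟩)
      (fun i => ⟨(hres χ i).trans hx, (hres χ' i).trans hx'⟩) ?_
    rwa [Fintype.card_fin]
  by_cases hA : ∃ p : ℕ, p.Prime ∧ Nat.card C.aut.range = p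
  · obtain ⟨p, hp, hpA⟩ := hA
    haveI := Fact.mk hp
    haveI : Finite ↥C.aut.range := Finite.of_surjective _ C.aut.rangeRestrict_surjective
    have hpN : ¬ p ∣ Nat.card Q := by
      obtain ⟨σ, hσ⟩ := exists_prime_orderOf_dvd_card' (G := ↥C.aut.range) p (hpA ▸ dvd_rfl)
      obtain ⟨h, hh⟩ := σ.2
      obtain ⟨v, hv, hev⟩ := C.aut_eq_Vg hS h2 h.2
      have h1 := C.aut_pow_degree hS h2 hN hv
      rw [← hev, show (⟨(h : G), h.2⟩ : ↥(stabilizer G a)) = h from rfl, hh,
        ← SubmonoidClass.coe_pow, OneMemClass.coe_eq_one] at h1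
      have h3 : p ∣ Nat.card Q + 1 := hσ ▸ orderOf_dvd_of_pow_eq_one h1
      intro h4
      exact hp.ne_one (Nat.dvd_one.1 ((Nat.dvd_add_right h4).1 h3))
    have hGp : Nat.card G ≠ 0 := Nat.card_pos.ne'
    set r := Nat.card G / p ^ (Nat.card G).factorization p with hr
    have hco : Nat.Coprime p r := Nat.coprime_ordCompl hp hGp
    have hQr : Nat.card Q ∣ r := by
      have hdvd : Nat.card Q ∣ p ^ (Nat.card G).factorization p * r := by
        rw [hr, Nat.ordProj_mul_ordCompl_eq_self]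
        exact Subgroup.card_subgroup_dvd_card Q
      exact (Nat.Coprime.pow_right _ ((hp.coprime_iff_not_dvd.2 hpN).symm)).dvd_of_dvd_mul_left hdvd
    refine ⟨p - 1, by have := hp.two_le; omega, fun q _ hqA => by omega,
      fun i => Nat.chineseRemainder hco ((i : ℕ) + 1) 1, fun i => ?_, fun i y => ?_, fun i j hij => ?_⟩
    · have hk1 := (Nat.chineseRemainder hco ((i : ℕ) + 1) 1).2.1
      have hk2 := (Nat.chineseRemainder hco ((i : ℕ) + 1) 1).2.2
      refine Nat.coprime_of_dvd fun q hq hqk hqG => ?_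
      by_cases hqp : q = p
      · subst hqp
        have h0 := (Nat.ModEq.dvd_iff hk1 dvd_rfl).1 hqk
        have := Nat.le_of_dvd (Nat.succ_pos _) h0
        have := i.2
        omega
      · have hqr : q ∣ r := by
          have hdvd : q ∣ p ^ (Nat.card G).factorization p * r := by
            rw [hr, Nat.ordProj_mul_ordCompl_eq_self]; exact hqG
          exact (Nat.Coprime.pow_right _ ((Nat.coprime_primes hq hp).2 hqp)).dvd_of_dvd_mul_left hdvd
        exact hq.ne_one (Nat.dvd_one.1 ((Nat.ModEq.dvd_iff hk2 hqr).1 hqk))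
    · have hk2 := (Nat.chineseRemainder hco ((i : ℕ) + 1) 1).2.2
      have hord : orderOf (y : G) ∣ r := (Subgroup.orderOf_coe y ▸ orderOf_dvd_natCard y).trans hQr
      exact (pow_eq_pow_iff_modEq.2 (hk2.of_dvd hord)).trans (pow_one _)
    · have h0 := hij h₀ hh₀
      have hord : orderOf (l.hom h₀) = p := orderOf_eq_prime
        (by rw [← MonoidHom.pow_apply, hpow p hp hpA, MonoidHom.one_apply]) hne
      have hmod := pow_eq_pow_iff_modEq.1
        (show l.hom h₀ ^ ((Nat.chineseRemainder hco ((i : ℕ) + 1) 1 : ℕ)) =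
          l.hom h₀ ^ ((Nat.chineseRemainder hco ((j : ℕ) + 1) 1 : ℕ)) by
            simpa only [Lam.pow, MonoidHom.pow_apply] using h0)
      rw [hord] at hmod
      have h3 := ((Nat.chineseRemainder hco ((i : ℕ) + 1) 1).2.1.symm.trans hmod).trans
        (Nat.chineseRemainder hco ((j : ℕ) + 1) 1).2.1
      have hi := i.2
      have hj := j.2
      refine Fin.ext ?_
      have := Nat.ModEq.eq_of_lt_of_lt h3 (by omega) (by omega)
      omega
  · refine ⟨1, le_rfl, fun p hp h => absurd ⟨p, hp, h⟩ hA, fun _ => 1, fun _ => Nat.coprime_one_left _,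
      fun _ y => pow_one _, fun i j _ => Subsingleton.elim i j⟩

end CfsgLib.Lie.RankOneClass
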