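import Cfsg.Agent.Lib.Lie.RankOneClass.LinR
import Cfsg.Agent.Lib.Lie.RankOneClass.Split

/-!
Owner: helper5. Multiplicities of the irreducible characters of `Q` in the exceptional characters.
-/

set_option autoImplicit false
set_option linter.unusedSectionVars false

namespace CfsgLib.Lie.RankOneClass

open MulAction CfsgLib.Lie.RankOne CfsgLib.Char
open scoped ComplexConjugate

variable {G Ω : Type*} [Group G] [MulAction G Ω] [Fintype G] [FaithfulSMul G Ω] {a : Ω} {t : G}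
  {Q : Subgroup G} {F : Type} [Field F] {C : Coord a t F} [Fintype ↥Q]

local notation "𝔇" => ((stabilizer G a ⊓ stabilizer G (t • a)) : Subgroup G)
local notation "𝔎" => Cfsg.invertedBy (stabilizer G a ⊓ stabilizer G (t • a)) t

/-- The restriction of the first exceptional character. -/
def Split.res (Sp : Split C Q) : ↥Q → ℂ := fun y => (Sp.χ : G → ℂ) y

theorem Split.res_isChar (Sp : Split C Q) : Cfsg.IsCharacter Q Sp.res :=
  IsChar.restrict Q (IsIrr.isCharacter Sp.χ.2)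

/-- The multiplicity of an irreducible character of `Q`. -/
noncomputable def Split.mult (Sp : Split C Q) (θ : Cfsg.IrrCharacter Q) : ℕ :=
  Classical.choose (IsChar.classInner_eq_natCast (IsIrr.isCharacter θ.2) Sp.res_isChar)

theorem Split.inner_mult (Sp : Split C Q) (θ : Cfsg.IrrCharacter Q) :
    Cfsg.classInner (θ : ↥Q → ℂ) Sp.res = (Sp.mult θ : ℂ) :=
  Classical.choose_spec (IsChar.classInner_eq_natCast (IsIrr.isCharacter θ.2) Sp.res_isChar)

theorem inner_one_of_ne {θ : Cfsg.IrrCharacter Q} (h : θ ≠ trivChar Q) :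
    Cfsg.classInner (θ : ↥Q → ℂ) (fun _ => 1) = 0 :=
  classInner_irr_of_ne (χ := θ) (ψ := trivChar Q) h

theorem inner_one_self : Cfsg.classInner (trivChar Q : ↥Q → ℂ) (fun _ => 1) = 1 :=
  classInner_irr_self (trivChar Q)

theorem Split.mult_add_swap (Sp : Split C Q) {θ : Cfsg.IrrCharacter Q} (hne : θ ≠ trivChar Q) :
    (Sp.mult θ : ℂ) + (Sp.swap.mult θ : ℂ) = (θ : ↥Q → ℂ) 1 := by
  rw [← Sp.inner_mult, ← Sp.swap.inner_mult]
  refine (inner_add_of_sum Sp.sum_one Sp.sum_Q _).trans ?_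
  rw [inner_one_of_ne hne, zero_add]

theorem Split.mult_add_swap_triv (Sp : Split C Q) :
    (Sp.mult (trivChar Q) : ℂ) + (Sp.swap.mult (trivChar Q) : ℂ) = 2 := by
  rw [← Sp.inner_mult, ← Sp.swap.inner_mult]
  refine (inner_add_of_sum Sp.sum_one Sp.sum_Q _).trans ?_
  rw [inner_one_self, trivChar_apply, one_add_one_eq_two]

variable (hS : Cfsg.IsRankOneSetup G Ω a t Q) [Fintype ↥((stabilizer G a ⊓ stabilizer G (t • a)) : Subgroup G)]
  (Sp : Split C Q)

open Classical in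
theorem sum_ite_stab (θ : Cfsg.IrrCharacter Q) :
    ∑ d : 𝔇, (if θ = twI hS d θ then (1 : ℝ) else 0) = (Nat.card (stabQ hS (θ : ↥Q → ℂ)) : ℝ) := by
  rw [Finset.sum_boole, ← Nat.card_eq_finsetCard]
  refine congrArg Nat.cast (Nat.card_congr (Equiv.subtypeEquivRight fun d => ?_))
  simp only [Finset.mem_filter, Finset.mem_univ, true_and, mem_stabQ]
  exact ⟨fun h => (congrArg Subtype.val h).symm, fun h => Subtype.ext h.symm⟩

open Classical in
theorem re_inner_twI (θ θ' : Cfsg.IrrCharacter Q) (d : 𝔇) :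
    (Cfsg.classInner (θ : ↥Q → ℂ) (tw hS d (θ' : ↥Q → ℂ))).re = if θ = twI hS d θ' then 1 else 0 := by
  rw [show tw hS d (θ' : ↥Q → ℂ) = (twI hS d θ' : ↥Q → ℂ) from rfl, classInner_irr]
  split_ifs <;> simp

include hS in
/-- Two characters of equal degree with small stabilisers have equal multiplicities. -/
theorem pair_eq {θ θ' : Cfsg.IrrCharacter Q} (hθ : θ ≠ trivChar Q) (hθ' : θ' ≠ trivChar Q)
    (hdeg : (θ : ↥Q → ℂ) 1 = (θ' : ↥Q → ℂ) 1)
    (hB : Nat.card (stabQ hS (θ : ↥Q → ℂ)) + Nat.card (stabQ hS (θ' : ↥Q → ℂ)) ≤ 2 * Sp.L) :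
    Sp.mult θ = Sp.mult θ' := by
  classical
  set f : ↥Q → ℂ := (θ : ↥Q → ℂ) - (θ' : ↥Q → ℂ) with hf
  have hcf : Cfsg.IsClassFunction Q f := fun g h => by
    simp only [hf, Pi.sub_apply, IsIrr.isClassFunction θ.2 g h, IsIrr.isClassFunction θ'.2 g h]
  have h1 : f 1 = 0 := by rw [hf, Pi.sub_apply, hdeg, sub_self]
  have hone : Cfsg.classInner f (fun _ => 1) = 0 := by
    rw [hf, classInner_sub_left, inner_one_of_ne hθ, inner_one_of_ne hθ', sub_self]
  have hx : Cfsg.classInner f (fun y : ↥Q => (Sp.χ : G → ℂ) y) =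
      (((Sp.mult θ : ℤ) - Sp.mult θ' : ℤ) : ℂ) := by
    rw [Int.cast_sub, Int.cast_natCast, Int.cast_natCast, ← Sp.inner_mult, ← Sp.inner_mult, hf,
      classInner_sub_left]
    rfl
  have h := Sp.vanish f hcf h1 hone _ hx ?_
  · omega
  rw [inner_indFun hS hcf h1, Complex.re_sum]
  refine le_trans (Finset.sum_le_sum (g := fun d : 𝔇 => (if θ = twI hS d θ then (1 : ℝ) else 0) +
    (if θ' = twI hS d θ' then (1 : ℝ) else 0)) fun d _ => ?_) ?_
  · rw [show tw hS d f = tw hS d (θ : ↥Q → ℂ) - tw hS d (θ' : ↥Q → ℂ) from rfl, hf, classInner_sub_left,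
      classInner_sub_right, classInner_sub_right, Complex.sub_re, Complex.sub_re, Complex.sub_re,
      re_inner_twI, re_inner_twI, re_inner_twI, re_inner_twI]
    split_ifs <;> norm_num
  · rw [Finset.sum_add_distrib, sum_ite_stab, sum_ite_stab]
    exact_mod_cast hB

include hS in
/-- Comparison with the average over a family of characters of smaller degree. -/
theorem avg_eq {θ : Cfsg.IrrCharacter Q} (hθ : θ ≠ trivChar Q) (Γ : Finset (Cfsg.IrrCharacter Q))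
    {b e m₀ : ℕ} (hΓ : Γ.Nonempty) (htriv : trivChar Q ∉ Γ)
    (hdeg : ∀ γ ∈ Γ, (γ : ↥Q → ℂ) 1 = (e : ℂ)) (hθdeg : (θ : ↥Q → ℂ) 1 = (b : ℂ) * (e : ℂ))
    (hm : ∀ γ ∈ Γ, Sp.mult γ = m₀) {μ : ℕ}
    (hμ : ∀ γ ∈ Γ, (Finset.univ.filter fun d : 𝔇 => ∃ γ' ∈ Γ, γ = twI hS d γ').card ≤ μ)
    (hB : (Nat.card (stabQ hS (θ : ↥Q → ℂ)) : ℝ) + (b : ℝ) ^ 2 * μ / Γ.card ≤ 2 * (Sp.L : ℝ)) :
    Sp.mult θ = b * m₀ := by
  classical
  have hn : (Γ.card : ℂ) ≠ 0 := Nat.cast_ne_zero.2 (Finset.card_pos.2 hΓ).ne'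
  set c : ℝ := (b : ℝ) / Γ.card with hc
  set f : ↥Q → ℂ := (θ : ↥Q → ℂ) - (c : ℂ) • ∑ γ ∈ Γ, (γ : ↥Q → ℂ) with hf
  have hcc : (c : ℂ) * (Γ.card : ℂ) = (b : ℂ) := by
    rw [hc, Complex.ofReal_div, Complex.ofReal_natCast, Complex.ofReal_natCast, div_mul_cancel₀ _ hn]
  have hcf : Cfsg.IsClassFunction Q f := fun g h => by
    simp only [hf, Pi.sub_apply, Pi.smul_apply, Finset.sum_apply, IsIrr.isClassFunction θ.2 g h,
      fun γ : Cfsg.IrrCharacter Q => IsIrr.isClassFunction γ.2 g h]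
  have h1 : f 1 = 0 := by
    rw [hf, Pi.sub_apply, Pi.smul_apply, Finset.sum_apply, Finset.sum_congr rfl hdeg, Finset.sum_const,
      nsmul_eq_mul, smul_eq_mul, ← mul_assoc, hcc, hθdeg, sub_self]
  have hone : Cfsg.classInner f (fun _ => 1) = 0 := by
    rw [hf, classInner_sub_left, classInner_smul_left, classInner_sum_left, inner_one_of_ne hθ,
      Finset.sum_eq_zero fun (γ : Cfsg.IrrCharacter Q) hγ =>
        inner_one_of_ne fun e' : γ = trivChar Q => htriv (e' ▸ hγ), mul_zero, sub_self]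
  have hx : Cfsg.classInner f (fun y : ↥Q => (Sp.χ : G → ℂ) y) =
      (((Sp.mult θ : ℤ) - (b * m₀ : ℕ) : ℤ) : ℂ) := by
    show Cfsg.classInner f Sp.res = _
    rw [hf, classInner_sub_left, classInner_smul_left, classInner_sum_left, Sp.inner_mult,
      Finset.sum_congr rfl fun γ hγ => (Sp.inner_mult γ).trans (congrArg _ (hm γ hγ)), Finset.sum_const,
      nsmul_eq_mul, ← mul_assoc, hcc]
    push_cast
    rfl
  have h := Sp.vanish f hcf h1 hone _ hx ?_
  · omega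
  have hbound : ∀ d : 𝔇, (Cfsg.classInner f (tw hS d f)).re ≤ (if θ = twI hS d θ then (1 : ℝ) else 0) +
      c ^ 2 * ∑ γ ∈ Γ, (if ∃ γ' ∈ Γ, γ = twI hS d γ' then (1 : ℝ) else 0) := by
    intro d
    have htw : tw hS d f = tw hS d (θ : ↥Q → ℂ) - (c : ℂ) • ∑ γ ∈ Γ, tw hS d (γ : ↥Q → ℂ) := by
      funext y
      simp [hf, tw, Finset.sum_apply]
    have hA : ∀ γ : Cfsg.IrrCharacter Q, 0 ≤ (Cfsg.classInner (θ : ↥Q → ℂ) (tw hS d (γ : ↥Q → ℂ))).re ∧
        0 ≤ (Cfsg.classInner (γ : ↥Q → ℂ) (tw hS d (θ : ↥Q → ℂ))).re := fun γ => by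
      rw [re_inner_twI, re_inner_twI]
      constructor <;> split_ifs <;> norm_num
    have hrow : ∀ γ ∈ Γ, ∑ γ' ∈ Γ, (Cfsg.classInner (γ : ↥Q → ℂ) (tw hS d (γ' : ↥Q → ℂ))).re =
        if ∃ γ' ∈ Γ, γ = twI hS d γ' then (1 : ℝ) else 0 := by
      intro γ hγ
      simp only [re_inner_twI]
      split_ifs with he
      · obtain ⟨γ', hγ', he'⟩ := he
        rw [Finset.sum_eq_single γ' (fun x _ hx' => if_neg fun hh => hx' ?_) (fun h' => absurd hγ' h'),
          if_pos he']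
        have h3 : twI hS d⁻¹ (twI hS d x) = twI hS d⁻¹ (twI hS d γ') := by rw [← hh, ← he']
        rwa [← twI_mul, ← twI_mul, inv_mul_cancel, twI_one, twI_one] at h3
      · exact Finset.sum_eq_zero fun x hx' => if_neg fun hh => he ⟨x, hx', hh⟩
    rw [htw, hf, classInner_sub_left, classInner_sub_right, classInner_sub_right, classInner_smul_left,
      classInner_smul_left, classInner_smul_right, classInner_smul_right, classInner_sum_left,
      classInner_sum_left, classInner_sum_right, Complex.conj_ofReal]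
    simp only [classInner_sum_right, Complex.sub_re, Complex.re_ofReal_mul, Complex.re_sum,
      Finset.mul_sum (a := (c : ℂ))]
    rw [re_inner_twI, Finset.mul_sum]
    have e1 : ∀ γ ∈ Γ, (0 : ℝ) ≤ c * (Cfsg.classInner (θ : ↥Q → ℂ) (tw hS d (γ : ↥Q → ℂ))).re := fun γ _ =>
      mul_nonneg (div_nonneg (Nat.cast_nonneg _) (Nat.cast_nonneg _)) (hA γ).1
    have e2 : ∀ γ ∈ Γ, (0 : ℝ) ≤ c * (Cfsg.classInner (γ : ↥Q → ℂ) (tw hS d (θ : ↥Q → ℂ))).re := fun γ _ =>
      mul_nonneg (div_nonneg (Nat.cast_nonneg _) (Nat.cast_nonneg _)) (hA γ).2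
    have e3 : ∑ γ ∈ Γ, ∑ γ' ∈ Γ, c * (c * (Cfsg.classInner (γ : ↥Q → ℂ) (tw hS d (γ' : ↥Q → ℂ))).re) =
        ∑ γ ∈ Γ, c ^ 2 * (if ∃ γ' ∈ Γ, γ = twI hS d γ' then (1 : ℝ) else 0) :=
      Finset.sum_congr rfl fun γ hγ => by rw [← Finset.mul_sum, ← Finset.mul_sum, hrow γ hγ]; ring
    have := Finset.sum_nonneg e1
    have := Finset.sum_nonneg e2
    linarith
  rw [inner_indFun hS hcf h1, Complex.re_sum]
  refine le_trans (Finset.sum_le_sum fun d _ => hbound d) ?_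
  rw [Finset.sum_add_distrib, sum_ite_stab, ← Finset.mul_sum, Finset.sum_comm]
  refine le_trans (add_le_add le_rfl ?_) hB
  calc c ^ 2 * ∑ γ ∈ Γ, ∑ d : 𝔇, (if ∃ γ' ∈ Γ, γ = twI hS d γ' then (1 : ℝ) else 0)
      ≤ c ^ 2 * ∑ _γ ∈ Γ, (μ : ℝ) := by
        refine mul_le_mul_of_nonneg_left (Finset.sum_le_sum fun γ hγ => ?_) (sq_nonneg c)
        rw [Finset.sum_boole]
        exact_mod_cast hμ γ hγ
    _ = (b : ℝ) ^ 2 * μ / Γ.card := by
        have hn' : (Γ.card : ℝ) ≠ 0 := Nat.cast_ne_zero.2 (Finset.card_pos.2 hΓ).ne'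
        rw [Finset.sum_const, nsmul_eq_mul, hc]
        field_simp

end CfsgLib.Lie.RankOneClass
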