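import Cfsg.Agent.Lib.Lie.RankOneClass.Comp
import Cfsg.Agent.Lib.CharDegree.Basic
import Cfsg.Agent.S0205

/-!
Owner: helper5. The odd part of `Q` is trivial.
-/

set_option autoImplicit false
set_option linter.unusedSectionVars false

namespace CfsgLib.Lie.RankOneClass

open MulAction CfsgLib.Lie.RankOne CfsgLib.Char CfsgLib.OddTransitive.RankOne
open scoped ComplexConjugate

variable {G Ω : Type*} [Group G] [MulAction G Ω] [Fintype G] [FaithfulSMul G Ω] {a : Ω} {t : G}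
  {Q : Subgroup G} {F : Type} [Field F] [Fintype F] {C : Coord a t F} [Fintype ↥Q]

local notation "𝔇" => ((stabilizer G a ⊓ stabilizer G (t • a)) : Subgroup G)
local notation "𝔎" => Cfsg.invertedBy (stabilizer G a ⊓ stabilizer G (t • a)) t
local notation "𝔍" => Cfsg.involutionsIn (stabilizer G a : Set G)

variable (hS : Cfsg.IsRankOneSetup G Ω a t Q)
  (h2 : ∃ x y : G, x ≠ 1 ∧ y ≠ 1 ∧ x ≠ y ∧ x * x = 1 ∧ y * y = 1 ∧ x * y = y * x)
  (Sp : Split C Q) {P : QDec Q} [Fintype P.S] [Fintype P.O]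
  (Rl : Rel C P) (hN : NoExt t Q) (hCS : CentShape a t Q)

include hS h2 hN hCS C in
/-- Twice `q - 1` characters of the odd part with the same degree. -/
theorem exists_orbit {η : Cfsg.IrrCharacter P.O} (hη : η ≠ trivChar P.O) :
    ∃ T : Finset (Cfsg.IrrCharacter P.O), T.card = 2 * (qq G a - 1) ∧
      ∀ η' ∈ T, η' ≠ trivChar P.O ∧ (η' : P.O → ℂ) 1 = (η : P.O → ℂ) 1 := by
  classical
  haveI := Fintype.ofFinite 𝔎
  obtain ⟨K, hK, -, -⟩ := exists_cyclic hS h2
  let g : 𝔎 → Cfsg.IrrCharacter P.O := fun k => twO hS P ⟨k, k.2.1⟩ η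
  have hgd : ∀ k k' : 𝔎, ∀ ε : Cfsg.IrrCharacter P.O,
      twO hS P ⟨k, k.2.1⟩ η = twO hS P ⟨k', k'.2.1⟩ ε →
      twO hS P ((⟨k', k'.2.1⟩ : 𝔇)⁻¹ * ⟨k, k.2.1⟩) η = ε := fun k k' ε h => by
    rw [twO_mul, h, ← twO_mul, inv_mul_cancel, twO_one]
  have hfree : ∀ k k' : 𝔎, (⟨k', k'.2.1⟩ : 𝔇)⁻¹ * ⟨k, k.2.1⟩ ∈ stabO hS P η → k = k' := by
    intro k k' h
    have hdK : (((⟨k', k'.2.1⟩ : 𝔇)⁻¹ * ⟨k, k.2.1⟩ : 𝔇) : G) ∈ 𝔎 := by
      have hm : ∀ x : G, x ∈ K ↔ x ∈ 𝔎 := fun x => Set.ext_iff.1 hK x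
      exact (hm _).1 (mul_mem (inv_mem ((hm _).2 k'.2)) ((hm _).2 k.2))
    have h1 : (⟨k', k'.2.1⟩ : 𝔇)⁻¹ * ⟨k, k.2.1⟩ = 1 := by
      rcases stabO_cases hS P h2 C hN hCS hη with hb | ⟨p, -, -, -, -, haut⟩
      · rw [hb, Subgroup.mem_bot] at h
        exact h
      · by_contra hne
        exact haut _ h hne (C.aut_K hS hdK)
    rw [inv_mul_eq_one] at h1
    exact (Subtype.ext (congrArg (fun z : 𝔇 => (z : G)) h1) : k' = k).symm
  have hinj : Function.Injective g := fun k k' h => hfree k k' (hgd k k' η h)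
  have hinjc : Function.Injective fun k => conjIrr (g k) := fun k k' h => hinj (by
    rw [← conjIrr_conjIrr (g k), show conjIrr (g k) = conjIrr (g k') from h, conjIrr_conjIrr])
  refine ⟨Finset.univ.image g ∪ Finset.univ.image (fun k => conjIrr (g k)), ?_, ?_⟩
  · rw [Finset.card_union_of_disjoint, Finset.card_image_of_injective _ hinj,
      Finset.card_image_of_injective _ hinjc, Finset.card_univ,
      ← Nat.card_eq_fintype_card (α := 𝔎), card_K hS, qq, Nat.add_sub_cancel, two_mul]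
    rw [Finset.disjoint_left]
    intro x hx hx'
    obtain ⟨k, -, rfl⟩ := Finset.mem_image.1 hx
    obtain ⟨k', -, hk'⟩ := Finset.mem_image.1 hx'
    have h1 := hgd k k' (conjIrr η) (by rw [twO_conjIrr]; exact hk'.symm)
    set d : 𝔇 := (⟨k', k'.2.1⟩ : 𝔇)⁻¹ * ⟨k, k.2.1⟩
    have hsq : d ^ 2 ∈ stabO hS P η := by
      rw [mem_stabO, pow_two, twO_mul, h1, twO_conjIrr, h1, conjIrr_conjIrr]
    have hodd : Odd (orderOf d) := by
      rw [← Subgroup.orderOf_coe]
      exact D_odd hS d.2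
    obtain ⟨i, hi⟩ := hodd
    have h4 : d = (d ^ 2) ^ (i + 1) := by
      rw [← pow_mul, show 2 * (i + 1) = orderOf d + 1 by omega, pow_succ, pow_orderOf_eq_one, one_mul]
    have hd : twO hS P d η = η := (mem_stabO hS P).1 (h4 ▸ pow_mem hsq _)
    refine hη (real_irr_eq_one_of_odd P.odd η fun o => ?_)
    have h5 := congrFun (congrArg Subtype.val (hd.symm.trans h1)) o
    rw [conjIrr_apply] at h5
    exact Complex.conj_eq_iff_im.1 h5.symm
  · intro η' hη'
    have htriv : ∀ k, g k ≠ trivChar P.O := fun k h => hη (by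
      have h1 : twO hS P (⟨k, k.2.1⟩ : 𝔇)⁻¹ (g k) = η := by
        show twO hS P _ (twO hS P _ η) = η
        rw [← twO_mul, inv_mul_cancel, twO_one]
      rw [← h1, h]
      exact Subtype.ext rfl)
    have hdeg : ∀ k, (g k : P.O → ℂ) 1 = (η : P.O → ℂ) 1 := fun k => by
      show (η : P.O → ℂ) (conjO hS P _ 1) = _
      rw [map_one]
    rcases Finset.mem_union.1 hη' with h | h <;> obtain ⟨k, -, rfl⟩ := Finset.mem_image.1 h
    · exact ⟨htriv k, hdeg k⟩
    · refine ⟨fun h => htriv k ?_, ?_⟩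
      · rw [← conjIrr_conjIrr (g k), h]
        exact Subtype.ext (funext fun o => by simp)
      · rw [conjIrr_apply, hdeg]
        obtain ⟨e, -, he⟩ := IsIrr.exists_degree η.2
        rw [he, Complex.conj_natCast]

include hS h2 Rl hN hCS Sp

/-- The odd part is trivial when the two-part has the shape of a Suzuki group. -/
theorem card_O_eq_one (hS3 : Nat.card P.S = qq G a ^ 2 ∨ Nat.card P.S = qq G a ^ 3) :
    Nat.card P.O = 1 := by
  classical
  by_contra hO
  haveI := Fintype.ofFinite (Cfsg.IrrCharacter P.S)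
  haveI := Fintype.ofFinite (Cfsg.IrrCharacter P.O)
  -- a nontrivial linear character
  haveI : Group.IsSolvable P.O := Cfsg.Agent.S0205.result P.odd
  haveI : Nontrivial P.O := Finite.one_lt_card_iff_nontrivial.1 (by
    have := Nat.card_pos (α := P.O); omega)
  obtain ⟨o₁, ho₁⟩ : ∃ o : P.O, o ∉ commutator P.O := by
    by_contra h
    push Not at h
    exact (IsSolvable.commutator_lt_top_of_nontrivial (G := P.O)).ne (eq_top_iff.2 fun x _ => h x)
  obtain ⟨φ, hφ⟩ := CommGroup.exists_apply_ne_one_of_hasEnoughRootsOfUnity (Abelianization P.O) ℂ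
    (a := Abelianization.of o₁) fun h => ho₁ ((QuotientGroup.eq_one_iff o₁).1 h)
  set η₁ : Cfsg.IrrCharacter P.O :=
    ⟨fun o => ((φ.comp Abelianization.of) o : ℂ), isIrrCharacter_linear _⟩
  have hη₁ : η₁ ≠ trivChar P.O := fun h => hφ (Units.ext (congrFun (congrArg Subtype.val h) o₁))
  have hdeg₁ : (η₁ : P.O → ℂ) 1 = 1 := by
    show ((φ.comp Abelianization.of) 1 : ℂ) = 1
    rw [map_one, Units.val_one]
  -- the sum over the nontrivial characters
  set E : Split C Q → ℕ := fun S' => ∑ η ∈ Finset.univ.erase (trivChar P.O),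
    S'.mEta η * Classical.choose (IsIrr.exists_degree η.2) with hE
  have hEbound : ∀ (S' : Split C Q) (η : Cfsg.IrrCharacter P.O), η ≠ trivChar P.O →
      ∀ e : ℕ, (η : P.O → ℂ) 1 = e → 2 * (qq G a - 1) * (S'.mEta η * e) ≤ E S' := by
    intro S' η hη e he
    obtain ⟨T, hT, hTm⟩ := exists_orbit hS h2 hN hCS (C := C) hη
    calc 2 * (qq G a - 1) * (S'.mEta η * e) = ∑ _η' ∈ T, S'.mEta η * e := by
          rw [Finset.sum_const, hT, smul_eq_mul]
      _ = ∑ η' ∈ T, S'.mEta η' * Classical.choose (IsIrr.exists_degree η'.2) := by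
          refine Finset.sum_congr rfl fun η' hη' => ?_
          obtain ⟨h1, h2'⟩ := hTm η' hη'
          rw [S'.mEta_eq hS h2 Rl hN hCS h1 hη h2']
          have h3 := (Classical.choose_spec (IsIrr.exists_degree η'.2)).2
          exact congrArg _ (Nat.cast_injective (he.symm.trans (h2'.symm.trans h3)))
      _ ≤ E S' := Finset.sum_le_sum_of_subset fun η' hη' =>
          Finset.mem_erase.2 ⟨(hTm η' hη').1, Finset.mem_univ _⟩
  have hval : ∀ S' : Split C Q, (S'.χ : G → ℂ) 1 = S'.psi (P := P) 1 + (Nat.card P.S : ℂ) * (E S' : ℂ) := by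
    intro S'
    rw [S'.value_one hS h2 Rl hN hCS]
    congr 2
    rw [hE, Nat.cast_sum]
    refine Finset.sum_congr rfl fun η _ => ?_
    rw [Nat.cast_mul, ← (Classical.choose_spec (IsIrr.exists_degree η.2)).2]
  have hmsum : ∀ η : Cfsg.IrrCharacter P.O, η ≠ trivChar P.O →
      (Sp.mEta η : ℂ) + (Sp.swap.mEta η : ℂ) = (η : P.O → ℂ) 1 := fun η hη => by
    rw [Split.mEta, Split.mEta, Sp.mult_add_swap fun h => hη (P.irrPr_triv _ η h), deg_irrPr,
      trivChar_apply, one_mul]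
  -- choose the side of the linear characters
  suffices main : ∀ S' : Split C Q, S'.mEta η₁ = 1 →
      (∀ η : Cfsg.IrrCharacter P.O, η ≠ trivChar P.O →
        (S'.mEta η : ℂ) + (S'.swap.mEta η : ℂ) = (η : P.O → ℂ) 1) → False by
    have h := hmsum η₁ hη₁
    rw [hdeg₁] at h
    have h' : Sp.mEta η₁ + Sp.swap.mEta η₁ = 1 := by exact_mod_cast h
    rcases (show Sp.mEta η₁ = 1 ∨ Sp.swap.mEta η₁ = 1 by omega) with h1 | h1
    · exact main Sp h1 hmsum
    · exact main Sp.swap h1 fun η hη => by rw [add_comm]; exact hmsum η hη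
  intro S' hm1 hms
  have hE1 : 2 * (qq G a - 1) ≤ E S' := by
    have := hEbound S' η₁ hη₁ 1 (by rw [hdeg₁, Nat.cast_one])
    rwa [hm1, one_mul, mul_one] at this
  have hE2 : 6 * (qq G a - 1) ≤ E S'.swap := by
    by_cases hall : ∀ η : Cfsg.IrrCharacter P.O, η ≠ trivChar P.O → S'.swap.mEta η = 0
    · exfalso
      refine ho₁ ?_
      suffices ho : o₁ = 1 by rw [ho]; exact one_mem _
      refine Subtype.ext (S'.swap.faithful (o₁ : G) ?_)
      have key : ∀ o : P.O, S'.swap.res (P.mulEquiv (1, o)) = ∑ α : Cfsg.IrrCharacter P.S,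
          (S'.swap.mult (P.irrPr α (trivChar P.O)) : ℂ) * (α : P.S → ℂ) 1 := fun o => by
        rw [S'.swap.expand (P := P), P.prS_mul, P.prO_mul,
          ← Finset.add_sum_erase _ _ (Finset.mem_univ (trivChar P.O)),
          Finset.sum_eq_zero (s := Finset.univ.erase (trivChar P.O)) fun η hη =>
            Finset.sum_eq_zero fun α _ => by
              rw [S'.swap.mult_eq_mEta hS h2 Rl hN hCS (Finset.ne_of_mem_erase hη),
                hall η (Finset.ne_of_mem_erase hη), Nat.cast_zero, zero_mul, zero_mul],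
          add_zero]
        exact Finset.sum_congr rfl fun α _ => by rw [trivChar_apply, mul_one]
      have h1 := (key o₁).trans (key 1).symm
      have e1 : ((P.mulEquiv (1, o₁) : ↥Q) : G) = o₁ := by
        show ((1 : P.S) : G) * o₁ = o₁
        rw [Subgroup.coe_one, one_mul]
      have e2 : ((P.mulEquiv (1, 1) : ↥Q) : G) = 1 := by
        show ((1 : P.S) : G) * ((1 : P.O) : G) = 1
        rw [Subgroup.coe_one, Subgroup.coe_one, one_mul]
      show (S'.swap.χ : G → ℂ) o₁ = _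
      rw [← e1, ← e2]
      exact h1
    · push Not at hall
      obtain ⟨η, hη, hm⟩ := hall
      obtain ⟨e, he0, he⟩ := IsIrr.exists_degree η.2
      have hne1 : e ≠ 1 := by
        rintro rfl
        have h := hms η hη
        rw [he, S'.mEta_eq hS h2 Rl hN hCS hη hη₁ (by rw [he, hdeg₁, Nat.cast_one]), hm1] at h
        have h' : 1 + S'.swap.mEta η = 1 := by exact_mod_cast h
        omega
      have hdeg : Cfsg.charDegree (η : P.O → ℂ) = e := by
        have h1 := CfsgLib.CharDegree.cast_irrDegree η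
        rw [he] at h1
        exact_mod_cast h1
      have hodd : Odd e := P.odd.of_dvd_nat (hdeg ▸ CfsgLib.CharDegree.charDegree_dvd_card η)
      have he3 : 3 ≤ e := by
        obtain ⟨i, hi⟩ := hodd
        omega
      have := hEbound S'.swap η hη e he
      have h3 : 2 * (qq G a - 1) * 3 ≤ 2 * (qq G a - 1) * (S'.swap.mEta η * e) :=
        Nat.mul_le_mul_left _ (le_trans (by omega) (Nat.le_mul_of_pos_left e (Nat.pos_of_ne_zero hm)))
      omega
  obtain ⟨c, hc⟩ := S'.exists_c hS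
  obtain ⟨c', hc'⟩ := S'.swap.exists_c hS
  have hcc := S'.c_add_swap hS hc hc'
  obtain ⟨d, hd⟩ : ∃ d : ℕ, (S'.χ : G → ℂ) 1 = d := IsChar.exists_degree (IsIrr.isCharacter S'.χ.2)
  obtain ⟨d', hd'⟩ : ∃ d : ℕ, (S'.swap.χ : G → ℂ) 1 = d :=
    IsChar.exists_degree (IsIrr.isCharacter S'.swap.χ.2)
  obtain ⟨heq, -, hd2, hd2'⟩ := S'.eqn_real hS hc hc' hd hd'
  obtain ⟨ψ₁, L₀, T₀, hψ, hLT, hq⟩ := S'.numbers hS h2 Rl hN hCS hc
  obtain ⟨ψ₁', L₀', T₀', hψ', hLT', hq'⟩ := S'.swap.numbers hS h2 Rl hN hCS hc'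
  have hψsum := S'.psi_add_swap (P := P) hS h2 Rl hN hCS 1
  rw [hψ, hψ', if_pos rfl] at hψsum
  have hψsum' : ψ₁ + ψ₁' = 1 + Nat.card P.S := by exact_mod_cast hψsum
  have hdE : Nat.card P.S * E S' ≤ d := by
    have h := hval S'
    rw [hd, hψ] at h
    have h' : d = ψ₁ + Nat.card P.S * E S' := by exact_mod_cast h
    omega
  have hdE' : Nat.card P.S * E S'.swap ≤ d' := by
    have h := hval S'.swap
    rw [hd', hψ'] at h
    have h' : d' = ψ₁' + Nat.card P.S * E S'.swap := by exact_mod_cast h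
    omega
  obtain ⟨n, hn, hqn⟩ := exists_pow_two hS h2
  set q := qq G a with hqdef
  have hq4 : 4 ≤ q := by rw [hqn]; exact le_trans (by norm_num) (Nat.pow_le_pow_right (by norm_num) hn)
  obtain ⟨U, hU, hUq⟩ : ∃ U : ℕ, Nat.card P.S = q * U ∧ (U = q ∨ U = q * q) := by
    rcases hS3 with h | h
    · exact ⟨q, by rw [h, pow_two], Or.inl rfl⟩
    · exact ⟨q * q, by rw [h]; ring, Or.inr rfl⟩
  have hLsum : (L₀ : ℤ) + L₀' = U + 1 := by
    have : (q : ℤ) * ((L₀ : ℤ) + L₀') = q * (U + 1) := by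
      have h1 : ((ψ₁ : ℤ) + ψ₁') = 1 + q * U := by
        rw [hU] at hψsum'; exact_mod_cast hψsum'
      have h3 : ((q : ℤ) - 1) * c + ((q : ℤ) - 1) * c' = (q : ℤ) - 1 := by rw [← mul_add, hcc, mul_one]
      linarith
    exact mul_left_cancel₀ (by exact_mod_cast (show q ≠ 0 by omega)) this
  have hcU : -(U : ℤ) ≤ c ∧ c ≤ U + 1 := by constructor <;> omega
  -- reduce to real numbers
  have hd0 : (0 : ℝ) < d := by exact_mod_cast (show 0 < d by omega)
  have hd0' : (0 : ℝ) < d' := by exact_mod_cast (show 0 < d' by omega)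
  set X : ℝ := (Nat.card P.S : ℝ) * ((q : ℝ) - 1) with hX
  have hq1 : ((q - 1 : ℕ) : ℝ) = (q : ℝ) - 1 := by rw [Nat.cast_sub (by omega), Nat.cast_one]
  have hXd : 2 * X ≤ d := by
    have h : Nat.card P.S * (2 * (q - 1)) ≤ d := le_trans (Nat.mul_le_mul_left _ hE1) hdE
    have h' : ((Nat.card P.S * (2 * (q - 1)) : ℕ) : ℝ) ≤ (d : ℝ) := by exact_mod_cast h
    rw [Nat.cast_mul, Nat.cast_mul, hq1] at h'
    push_cast at h'
    rw [hX]; linarith
  have hXd' : 6 * X ≤ d' := by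
    have h : Nat.card P.S * (6 * (q - 1)) ≤ d' := le_trans (Nat.mul_le_mul_left _ hE2) hdE'
    have h' : ((Nat.card P.S * (6 * (q - 1)) : ℕ) : ℝ) ≤ (d' : ℝ) := by exact_mod_cast h
    rw [Nat.cast_mul, Nat.cast_mul, hq1] at h'
    push_cast at h'
    rw [hX]; linarith
  have hqR : (4 : ℝ) ≤ q := by exact_mod_cast hq4
  have hUR : (1 : ℝ) ≤ U ∧ (U : ℝ) ≤ (q : ℝ) ^ 2 := by
    rcases hUq with h | h <;> rw [h] <;> push_cast <;> constructor <;> nlinarith
  have hXeq : X = (q : ℝ) * U * ((q : ℝ) - 1) := by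
    rw [hX, hU]; push_cast; ring
  have hX0 : 0 < X := by
    rw [hXeq]
    exact mul_pos (mul_pos (by linarith) (by linarith)) (by linarith)
  have hcR : -(U : ℝ) ≤ c ∧ (c : ℝ) ≤ U + 1 := by
    constructor
    · exact_mod_cast hcU.1
    · exact_mod_cast hcU.2
  have hc'R : (c' : ℝ) = 1 - c := by
    have : (c : ℝ) + c' = 1 := by exact_mod_cast hcc
    linarith
  have hb : (c : ℝ) ^ 2 / d + (c' : ℝ) ^ 2 / d' ≤ (3 * (c : ℝ) ^ 2 + (c' : ℝ) ^ 2) / (6 * X) := by
    have h1 : (c : ℝ) ^ 2 / d ≤ (c : ℝ) ^ 2 / (2 * X) := by gcongr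
    have h1' : (c' : ℝ) ^ 2 / d' ≤ (c' : ℝ) ^ 2 / (6 * X) := by gcongr
    have h3 : (3 * (c : ℝ) ^ 2 + (c' : ℝ) ^ 2) / (6 * X) = (c : ℝ) ^ 2 / (2 * X) + (c' : ℝ) ^ 2 / (6 * X) := by
      field_simp
      ring
    linarith
  rw [heq, le_div_iff₀ (by linarith), one_mul, hc'R] at hb
  -- the quadratic in `c` is largest at an end
  have h4 : 3 * (c : ℝ) ^ 2 + (1 - (c : ℝ)) ^ 2 ≤ 3 * ((U : ℝ) + 1) ^ 2 + (U : ℝ) ^ 2 := by
    nlinarith [mul_nonneg (sub_nonneg.2 hcR.2) (show (0 : ℝ) ≤ c + U by linarith)]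
  have h5 : 3 * ((U : ℝ) + 1) ^ 2 + (U : ℝ) ^ 2 < 6 * X := by
    rw [hXeq]
    nlinarith [mul_le_mul_of_nonneg_left hUR.2 (show (0 : ℝ) ≤ U by linarith),
      mul_le_mul_of_nonneg_left hqR (show (0 : ℝ) ≤ (q : ℝ) * U by nlinarith)]
  linarith

end CfsgLib.Lie.RankOneClass
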