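import Cfsg.Agent.Lib.Lie.RankOneClass.Basic
import Cfsg.Agent.Lib.Char.Induced

/-!
Owner: helper5. Induction of class functions from the regular normal subgroup of the point stabiliser.
-/

set_option autoImplicit false
set_option linter.unusedSectionVars false

namespace CfsgLib.Lie.RankOneClass

open MulAction CfsgLib.Lie.RankOne CfsgLib.Char
open scoped ComplexConjugate

section General

variable {X : Type*} [Group X] [Fintype X]

/-- The norm of a function is a nonnegative real, zero only for the zero function. -/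
theorem classInner_self_re (f : X → ℂ) :
    0 ≤ (Cfsg.classInner f f).re ∧ ((Cfsg.classInner f f).re = 0 → f = 0) := by
  have h : Cfsg.classInner f f = (((Nat.card X : ℝ)⁻¹ * ∑ g, Complex.normSq (f g) : ℝ) : ℂ) := by
    simp [Cfsg.classInner, Complex.mul_conj]
  have hpos : (0 : ℝ) < (Nat.card X : ℝ)⁻¹ := inv_pos.2 (Nat.cast_pos.2 Nat.card_pos)
  rw [h, Complex.ofReal_re]
  have hsum : (0 : ℝ) ≤ ∑ g, Complex.normSq (f g) := Finset.sum_nonneg fun g _ => Complex.normSq_nonneg _
  refine ⟨mul_nonneg hpos.le hsum, fun h0 => funext fun g => ?_⟩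
  have h1 := (mul_eq_zero.1 h0).resolve_left hpos.ne'
  exact Complex.normSq_eq_zero.1
    ((Finset.sum_eq_zero_iff_of_nonneg fun g _ => Complex.normSq_nonneg _).1 h1 g (Finset.mem_univ _))

/-- Bessel's inequality, with the case of equality. -/
theorem bessel_eq {ι : Type*} [Fintype ι] (χ : ι → Cfsg.IrrCharacter X) (hχ : Function.Injective χ)
    (f : X → ℂ) :
    ∑ i, Complex.normSq (Cfsg.classInner f (χ i : X → ℂ)) ≤ (Cfsg.classInner f f).re ∧
      (∑ i, Complex.normSq (Cfsg.classInner f (χ i : X → ℂ)) = (Cfsg.classInner f f).re →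
        f = ∑ i, Cfsg.classInner f (χ i : X → ℂ) • (χ i : X → ℂ)) := by
  classical
  set r := f - ∑ i, Cfsg.classInner f (χ i : X → ℂ) • (χ i : X → ℂ) with hr
  have hperp : ∀ j, Cfsg.classInner r (χ j : X → ℂ) = 0 := fun j => by
    rw [hr, classInner_sub_left, classInner_sum_left, Finset.sum_eq_single j
      (fun i _ hne => by rw [classInner_smul_left, classInner_irr_of_ne (fun e => hne (hχ e)), mul_zero])
      (fun h => absurd (Finset.mem_univ j) h), classInner_smul_left, classInner_irr_self, mul_one, sub_self]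
  have key : Cfsg.classInner r r =
      Cfsg.classInner f f - ((∑ i, Complex.normSq (Cfsg.classInner f (χ i : X → ℂ)) : ℝ) : ℂ) := by
    conv_lhs => arg 2; rw [hr]
    rw [classInner_sub_right, classInner_sum_right,
      Finset.sum_eq_zero (fun i _ => by rw [classInner_smul_right, hperp i, mul_zero]), sub_zero, hr,
      classInner_sub_left, classInner_sum_left, Complex.ofReal_sum]
    congr 1
    refine Finset.sum_congr rfl fun i _ => ?_
    rw [classInner_smul_left, ← classInner_conj_symm (φ := f), Complex.mul_conj]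
  obtain ⟨h0, h1⟩ := classInner_self_re r
  rw [key, Complex.sub_re, Complex.ofReal_re] at h0 h1
  exact ⟨by linarith, fun he => sub_eq_zero.1 (h1 (by rw [he, sub_self]))⟩

end General

variable {G Ω : Type*} [Group G] [MulAction G Ω] [Finite G] [FaithfulSMul G Ω] {a : Ω} {t : G}
  {Q : Subgroup G}

local notation "𝔇" => ((stabilizer G a ⊓ stabilizer G (t • a)) : Subgroup G)

variable (hS : Cfsg.IsRankOneSetup G Ω a t Q)

/-- Conjugation of `Q` by an element of the two-point stabiliser. -/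
def conjQ (d : 𝔇) : ↥Q →* ↥Q where
  toFun y := ⟨(d : G)⁻¹ * y * d, by
    have := hS.conj_mem (d : G)⁻¹ (inv_mem (Subgroup.mem_inf.1 d.2).1) y y.2
    rwa [inv_inv] at this⟩
  map_one' := Subtype.ext (by
    show (d : G)⁻¹ * ((1 : ↥Q) : G) * d = _
    rw [Subgroup.coe_one, mul_one, inv_mul_cancel])
  map_mul' y y' := Subtype.ext (by
    show (d : G)⁻¹ * ((y * y' : ↥Q) : G) * d = _
    rw [Subgroup.coe_mul, Subgroup.coe_mul]
    show _ = (d : G)⁻¹ * y * d * ((d : G)⁻¹ * y' * d)
    group)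

/-- The conjugate of a function on `Q`. -/
def tw (d : 𝔇) (f : ↥Q → ℂ) : ↥Q → ℂ := fun y => f (conjQ hS d y)

theorem tw_one (f : ↥Q → ℂ) : tw hS 1 f = f :=
  funext fun y => congrArg f (Subtype.ext (show ((1 : 𝔇) : G)⁻¹ * y * (1 : 𝔇) = y by simp))

theorem tw_mul (d e : 𝔇) (f : ↥Q → ℂ) : tw hS (d * e) f = tw hS d (tw hS e f) :=
  funext fun y => congrArg f (Subtype.ext (show ((d * e : 𝔇) : G)⁻¹ * y * (d * e : 𝔇) =
    (e : G)⁻¹ * ((d : G)⁻¹ * y * d) * e by rw [Subgroup.coe_mul]; group))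

theorem tw_isClassFunction (d : 𝔇) {f : ↥Q → ℂ} (hf : Cfsg.IsClassFunction Q f) :
    Cfsg.IsClassFunction Q (tw hS d f) := fun g h => by
  show f (conjQ hS d (h * g * h⁻¹)) = f (conjQ hS d g)
  rw [map_mul, map_mul, map_inv, hf]

variable [Fintype G] [Fintype ↥Q]

/-- Restriction of an induced class function vanishing at one. -/
theorem res_indFun [Fintype 𝔇] {f : ↥Q → ℂ} (hf : Cfsg.IsClassFunction Q f) (h1 : f 1 = 0) (y : ↥Q) :
    Cfsg.indFun Q f (y : G) = ∑ d : 𝔇, tw hS d f y := by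
  classical
  by_cases hy : y = 1
  · subst hy
    rw [Subgroup.coe_one, indFun_apply_one, h1, mul_zero]
    exact (Finset.sum_eq_zero fun d _ => (congrArg f (map_one (conjQ hS d))).trans h1).symm
  have hy1 : (y : G) ≠ 1 := fun h => hy (Subtype.ext h)
  let e : ↥Q × 𝔇 → G := fun p => p.1 * p.2
  have he : Function.Injective e := fun p p' h => by
    have h' : (p'.1 : G)⁻¹ * p.1 = p'.2 * (p.2 : G)⁻¹ := by
      have h0 : (p.1 : G) * p.2 = p'.1 * p'.2 := h
      rw [eq_mul_inv_iff_mul_eq, mul_assoc, h0, inv_mul_cancel_left]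
    have h3 := eq_one_of_fix_ta hS (mul_mem (inv_mem p'.1.2) p.1.2) (by
      rw [h']; exact (Subgroup.mem_inf.1 (mul_mem p'.2.2 (inv_mem p.2.2))).2)
    have h4 : p.1 = p'.1 := Subtype.ext (inv_mul_eq_one.1 h3).symm
    refine Prod.ext h4 (Subtype.ext ?_)
    have h0 : (p.1 : G) * p.2 = p'.1 * p'.2 := h
    rw [h4] at h0
    exact mul_left_cancel h0
  rw [Cfsg.indFun, ← Fintype.sum_of_injective e he (fun p => tw hS p.2 f y)
    (fun x => Cfsg.extendByZero Q f (x⁻¹ * y * x)) (fun x hx => ?_) (fun p => ?_),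
    Fintype.sum_prod_type]
  · dsimp only
    rw [Finset.sum_const, Finset.card_univ, nsmul_eq_mul, ← Nat.card_eq_fintype_card,
      inv_mul_cancel_left₀ (Nat.cast_ne_zero.mpr Nat.card_pos.ne')]
  · refine extendByZero_of_notMem Q f fun hm => hx ?_
    have hst : x ∈ stabilizer G a := by
      have h := mem_stab_of_conj hS (g := x⁻¹) y.2 hy1 (by rwa [inv_inv])
      simpa using inv_mem h
    obtain ⟨z, hz, d, hd, rfl⟩ := stab_eq_mul hS hst
    exact ⟨(⟨z, hz⟩, ⟨d, hd⟩), rfl⟩
  · show f (conjQ hS p.2 y) = _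
    have hQ : ((p.1 : G) * p.2)⁻¹ * y * (p.1 * p.2) ∈ Q := by
      have := hS.conj_mem ((p.1 : G) * p.2)⁻¹
        (inv_mem (mul_mem (hS.le p.1.2) (Subgroup.mem_inf.1 p.2.2).1)) y y.2
      rwa [inv_inv] at this
    rw [extendByZero_of_mem Q f hQ, ← hf (conjQ hS p.2 y) (conjQ hS p.2 p.1)⁻¹]
    refine congrArg f (Subtype.ext ?_)
    rw [inv_inv, ← map_inv, ← map_mul, ← map_mul]
    show (p.2 : G)⁻¹ * ((p.1⁻¹ * y * p.1 : ↥Q) : G) * p.2 = _
    rw [Subgroup.coe_mul, Subgroup.coe_mul, Subgroup.coe_inv]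
    group

/-- The inner product of two induced class functions vanishing at one. -/
theorem inner_indFun [Fintype 𝔇] {f g : ↥Q → ℂ} (hg : Cfsg.IsClassFunction Q g) (h1 : g 1 = 0) :
    Cfsg.classInner (Cfsg.indFun Q f) (Cfsg.indFun Q g) =
      ∑ d : 𝔇, Cfsg.classInner f (tw hS d g) := by
  rw [frobenius_reciprocity Q f (isClassFunction_indFun Q g), ← classInner_sum_right]
  refine congrArg (Cfsg.classInner f) (funext fun y => ?_)
  rw [res_indFun hS hg h1 y, Finset.sum_apply]

end CfsgLib.Lie.RankOneClass
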