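import Cfsg.Agent.Lib.Lie.RankOneClass.Struct
import Cfsg.Agent.Lib.Lie.RankOneClass.QInd
import Cfsg.Agent.Lib.Char.BrauerPerm

/-!
Owner: helper5. Characters of `Q` as products, and the action of the two-point stabiliser on them.
-/

set_option autoImplicit false
set_option linter.unusedSectionVars false

namespace CfsgLib.Lie.RankOneClass

open MulAction CfsgLib.Lie.RankOne CfsgLib.Char
open scoped ComplexConjugate

section Fixed

variable {G : Type*} [Group G] [Finite G]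

/-- An automorphism of prime order prime to the group order fixing a nontrivial irreducible character
fixes a nontrivial element. -/
theorem exists_fixed_of_fixed_irr (R : Subgroup G) {d : G} {r : ℕ} (hr : r.Prime) (hd : orderOf d = r)
    (hn : ∀ y ∈ R, d * y * d⁻¹ ∈ R) (hn' : ∀ y ∈ R, d⁻¹ * y * d ∈ R) (hco : ¬ r ∣ Nat.card R)
    (η : Cfsg.IrrCharacter R) (hne : η ≠ trivChar R)
    (hfix : ∀ y : R, (η : R → ℂ) ⟨d * y * d⁻¹, hn y y.2⟩ = (η : R → ℂ) y) :
    ∃ y ∈ R, y ≠ 1 ∧ d * y = y * d := by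
  classical
  haveI := Fact.mk hr
  let α : R ≃* R :=
    { toFun := fun y => ⟨d * y * d⁻¹, hn y y.2⟩
      invFun := fun y => ⟨d⁻¹ * y * d, hn' y y.2⟩
      left_inv := fun y => Subtype.ext (show d⁻¹ * (d * y * d⁻¹) * d = y by group)
      right_inv := fun y => Subtype.ext (show d * (d⁻¹ * y * d) * d⁻¹ = y by group)
      map_mul' := fun y z => Subtype.ext (show d * ((y * z : R) : G) * d⁻¹ = d * y * d⁻¹ * (d * z * d⁻¹) by
        rw [Subgroup.coe_mul]; group) }
  have h := card_fixed_classes_eq_card_fixed_irr α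
  haveI : Finite (ConjClasses R) := Finite.of_surjective _ ConjClasses.mk_surjective
  haveI : Finite {χ : Cfsg.IrrCharacter R // (χ : R → ℂ) ∘ α = (χ : R → ℂ)} := Subtype.finite
  have h2 : 1 < Nat.card {χ : Cfsg.IrrCharacter R // (χ : R → ℂ) ∘ α = (χ : R → ℂ)} := by
    rw [Finite.one_lt_card_iff_nontrivial]
    exact ⟨⟨⟨η, funext fun y => hfix y⟩, ⟨trivChar R, rfl⟩, fun e => hne (congrArg Subtype.val e)⟩⟩
  rw [← h, Finite.one_lt_card_iff_nontrivial] at h2
  obtain ⟨⟨C, hC⟩, hC1⟩ := exists_ne (⟨ConjClasses.mk 1, by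
    show ConjClasses.mk (α 1) = _
    rw [map_one]⟩ : {C : ConjClasses R // ConjClasses.map α.toMonoidHom C = C})
  obtain ⟨y₀, rfl⟩ := ConjClasses.mk_surjective C
  haveI : Fintype (ConjClasses.mk y₀).carrier := Fintype.ofFinite _
  have hmem : ∀ y ∈ (ConjClasses.mk y₀).carrier, α y ∈ (ConjClasses.mk y₀).carrier := fun y hy => by
    rw [ConjClasses.mem_carrier_iff_mk_eq] at hy ⊢
    conv_rhs => rw [← hC, ← hy]
    rfl
  let σ : Equiv.Perm (ConjClasses.mk y₀).carrier := Equiv.ofBijective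
    (fun y => ⟨α y, hmem y y.2⟩)
    (Finite.injective_iff_bijective.1 fun y z e => Subtype.ext (α.injective (congrArg Subtype.val e :)))
  have hσk : ∀ (k : ℕ) (y : (ConjClasses.mk y₀).carrier),
      (((σ ^ k) y : R) : G) = d ^ k * ((y : R) : G) * (d ^ k)⁻¹ := by
    intro k
    induction k with
    | zero => simp
    | succ k ih =>
      intro y
      rw [pow_succ', Equiv.Perm.mul_apply]
      show d * (((σ ^ k) y : R) : G) * d⁻¹ = _
      rw [ih, pow_succ']
      group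
  have hσ : σ ^ r ^ 1 = 1 := by
    refine Equiv.ext fun y => Subtype.ext (Subtype.ext ?_)
    rw [pow_one, hσk, ← hd, pow_orderOf_eq_one, Equiv.Perm.one_apply]
    group
  have hcard : ¬ r ∣ Fintype.card (ConjClasses.mk y₀).carrier := by
    intro hdiv
    refine hco (dvd_trans hdiv ?_)
    rw [← Nat.card_eq_fintype_card, card_carrier_eq_index]
    exact Subgroup.index_dvd_card _
  obtain ⟨y, hy⟩ := Equiv.Perm.exists_fixed_point_of_prime (p := r) (n := 1) hcard hσ
  refine ⟨((y : R) : G), (y : R).2, fun e => hC1 (Subtype.ext ?_), ?_⟩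
  · show ConjClasses.mk y₀ = ConjClasses.mk 1
    rw [← ConjClasses.mem_carrier_iff_mk_eq.1 y.2, show (y : R) = 1 from Subtype.ext e]
  · have h3 : d * ((y : R) : G) * d⁻¹ = ((y : R) : G) :=
      congrArg (fun z : (ConjClasses.mk y₀).carrier => ((z : R) : G)) hy
    exact mul_inv_eq_iff_eq_mul.1 h3

end Fixed

namespace QDec

variable {G : Type*} [Group G] [Finite G] {Q : Subgroup G} (P : QDec Q)

/-- The product map. -/
def mulHom : P.S × P.O →* ↥Q where
  toFun p := ⟨(p.1 : G) * p.2, mul_mem (P.S_le p.1.2) (P.O_le p.2.2)⟩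
  map_one' := Subtype.ext (show ((1 : P.S) : G) * ((1 : P.O) : G) = _ by simp)
  map_mul' p p' := Subtype.ext (by
    show ((p.1 * p'.1 : P.S) : G) * ((p.2 * p'.2 : P.O) : G) = (p.1 : G) * p.2 * (p'.1 * p'.2)
    rw [Subgroup.coe_mul, Subgroup.coe_mul]
    calc (p.1 : G) * p'.1 * ((p.2 : G) * p'.2) = p.1 * (p'.1 * p.2) * p'.2 := by group
      _ = p.1 * (p.2 * p'.1) * p'.2 := by rw [P.comm _ p'.1.2 _ p.2.2]
      _ = _ := by group)

theorem mulHom_bijective : Function.Bijective P.mulHom := by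
  refine ⟨fun p p' h => ?_, fun y => ?_⟩
  · obtain ⟨h1, h2⟩ := P.unique p.1.2 p'.1.2 p.2.2 p'.2.2 (congrArg Subtype.val h :)
    exact Prod.ext (Subtype.ext h1) (Subtype.ext h2)
  · obtain ⟨s, hs, o, ho, he⟩ := P.prod y y.2
    exact ⟨(⟨s, hs⟩, ⟨o, ho⟩), Subtype.ext he.symm⟩

/-- `Q` is the product of its parts. -/
noncomputable def mulEquiv : P.S × P.O ≃* ↥Q := MulEquiv.ofBijective P.mulHom P.mulHom_bijective

/-- The projection onto the two-part. -/
noncomputable def prS : ↥Q →* P.S := (MonoidHom.fst _ _).comp P.mulEquiv.symm.toMonoidHom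

/-- The projection onto the odd part. -/
noncomputable def prO : ↥Q →* P.O := (MonoidHom.snd _ _).comp P.mulEquiv.symm.toMonoidHom

theorem prS_mul (p : P.S × P.O) : P.prS (P.mulEquiv p) = p.1 :=
  congrArg Prod.fst (P.mulEquiv.symm_apply_apply p)

theorem prO_mul (p : P.S × P.O) : P.prO (P.mulEquiv p) = p.2 :=
  congrArg Prod.snd (P.mulEquiv.symm_apply_apply p)

/-- The product of functions on the parts. -/
noncomputable def pr (α : P.S → ℂ) (η : P.O → ℂ) : ↥Q → ℂ := fun y => α (P.prS y) * η (P.prO y)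

theorem pr_one (α : P.S → ℂ) (η : P.O → ℂ) : P.pr α η 1 = α 1 * η 1 := by
  rw [pr, map_one, map_one]

variable [Fintype ↥Q] [Fintype P.S] [Fintype P.O]

theorem inner_pr (α α' : P.S → ℂ) (η η' : P.O → ℂ) :
    Cfsg.classInner (P.pr α η) (P.pr α' η') = Cfsg.classInner α α' * Cfsg.classInner η η' := by
  simp only [Cfsg.classInner]
  rw [← P.mulEquiv.toEquiv.sum_comp, Fintype.sum_prod_type, ← Nat.card_congr P.mulEquiv.toEquiv,
    Nat.card_prod, Nat.cast_mul, mul_inv, mul_mul_mul_comm, Finset.sum_mul_sum]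
  congr 1
  refine Finset.sum_congr rfl fun s _ => Finset.sum_congr rfl fun o _ => ?_
  show P.pr α η (P.mulEquiv (s, o)) * conj (P.pr α' η' (P.mulEquiv (s, o))) = _
  rw [pr, pr, P.prS_mul, P.prO_mul, map_mul]
  ring

theorem isIrr_pr (α : Cfsg.IrrCharacter P.S) (η : Cfsg.IrrCharacter P.O) :
    Cfsg.IsIrrCharacter Q (P.pr α η) := by
  refine IsChar.isIrr_of_classInner_eq_one
    (IsChar.mul (IsChar.comp P.prS (IsIrr.isCharacter α.2)) (IsChar.comp P.prO (IsIrr.isCharacter η.2))) ?_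
  show Cfsg.classInner (P.pr α η) (P.pr α η) = 1
  rw [P.inner_pr, classInner_irr_self, classInner_irr_self, one_mul]

/-- The product of irreducible characters. -/
noncomputable def irrPr (α : Cfsg.IrrCharacter P.S) (η : Cfsg.IrrCharacter P.O) :
    Cfsg.IrrCharacter Q := ⟨P.pr α η, P.isIrr_pr α η⟩

theorem irrPr_inj {α α' : Cfsg.IrrCharacter P.S} {η η' : Cfsg.IrrCharacter P.O}
    (h : P.irrPr α η = P.irrPr α' η') : α = α' ∧ η = η' := by
  classical
  have h1 := classInner_irr (P.irrPr α η) (P.irrPr α' η')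
  rw [if_pos h] at h1
  have h2 := (P.inner_pr (α : P.S → ℂ) α' (η : P.O → ℂ) η').symm.trans h1
  rw [classInner_irr, classInner_irr] at h2
  split_ifs at h2 with ha he
  · exact ⟨ha, he⟩
  · simp at h2
  · simp at h2
  · simp at h2

theorem irrPr_triv (α : Cfsg.IrrCharacter P.S) (η : Cfsg.IrrCharacter P.O)
    (h : P.irrPr α η = trivChar Q) : η = trivChar P.O := by
  refine (P.irrPr_inj (α' := trivChar P.S) (η' := trivChar P.O) (h.trans ?_)).2
  exact Subtype.ext (funext fun y => (one_mul (1 : ℂ)).symm)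

end QDec

variable {G Ω : Type*} [Group G] [MulAction G Ω] [Finite G] [FaithfulSMul G Ω] {a : Ω} {t : G}
  {Q : Subgroup G}

local notation "𝔇" => ((stabilizer G a ⊓ stabilizer G (t • a)) : Subgroup G)
local notation "𝔎" => Cfsg.invertedBy (stabilizer G a ⊓ stabilizer G (t • a)) t
local notation "𝔍" => Cfsg.involutionsIn (stabilizer G a : Set G)

variable (hS : Cfsg.IsRankOneSetup G Ω a t Q)

theorem conjQ_surjective (d : 𝔇) : Function.Surjective (conjQ hS d) := fun y =>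
  ⟨conjQ hS d⁻¹ y, Subtype.ext (show (d : G)⁻¹ * (((d⁻¹ : 𝔇) : G)⁻¹ * y * (d⁻¹ : 𝔇)) * d = y by
    rw [Subgroup.coe_inv]; group)⟩

/-- The conjugate of an irreducible character of `Q`. -/
noncomputable def twI (d : 𝔇) (θ : Cfsg.IrrCharacter Q) : Cfsg.IrrCharacter Q :=
  ⟨tw hS d θ, IsIrr.comp_surjective (conjQ hS d) (conjQ_surjective hS d) θ.2⟩

theorem twI_one (θ : Cfsg.IrrCharacter Q) : twI hS 1 θ = θ := Subtype.ext (tw_one hS θ)

theorem twI_mul (d e : 𝔇) (θ : Cfsg.IrrCharacter Q) : twI hS (d * e) θ = twI hS d (twI hS e θ) :=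
  Subtype.ext (tw_mul hS d e θ)

/-- The stabiliser of a function on `Q`. -/
def stabQ (f : ↥Q → ℂ) : Subgroup 𝔇 where
  carrier := {d | tw hS d f = f}
  one_mem' := tw_one hS f
  mul_mem' {d e} hd he := by
    show tw hS (d * e) f = f
    rw [tw_mul, show tw hS e f = f from he, show tw hS d f = f from hd]
  inv_mem' {d} hd := by
    show tw hS d⁻¹ f = f
    conv_lhs => rw [← show tw hS d f = f from hd]
    rw [← tw_mul, inv_mul_cancel, tw_one]

theorem mem_stabQ {f : ↥Q → ℂ} {d : 𝔇} : d ∈ stabQ hS f ↔ tw hS d f = f := Iff.rfl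

section Decomp

variable (P : QDec Q)

/-- Conjugation of the two-part. -/
def conjS (d : 𝔇) : P.S →* P.S where
  toFun s := ⟨(d : G)⁻¹ * s * d, by
    have := P.conj_S (d := (d : G)⁻¹) (fun y hy => Q_conj hS (inv_mem d.2) hy) s.2
    rwa [inv_inv] at this⟩
  map_one' := Subtype.ext (show (d : G)⁻¹ * ((1 : P.S) : G) * d = _ by simp)
  map_mul' s s' := Subtype.ext (show (d : G)⁻¹ * ((s * s' : P.S) : G) * d =
    (d : G)⁻¹ * s * d * ((d : G)⁻¹ * s' * d) by rw [Subgroup.coe_mul]; group)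

/-- Conjugation of the odd part. -/
def conjO (d : 𝔇) : P.O →* P.O where
  toFun s := ⟨(d : G)⁻¹ * s * d, by
    have := P.conj_O (d := (d : G)⁻¹) (fun y hy => Q_conj hS (inv_mem d.2) hy) s.2
    rwa [inv_inv] at this⟩
  map_one' := Subtype.ext (show (d : G)⁻¹ * ((1 : P.O) : G) * d = _ by simp)
  map_mul' s s' := Subtype.ext (show (d : G)⁻¹ * ((s * s' : P.O) : G) * d =
    (d : G)⁻¹ * s * d * ((d : G)⁻¹ * s' * d) by rw [Subgroup.coe_mul]; group)

theorem conjS_surjective (d : 𝔇) : Function.Surjective (conjS hS P d) := fun y =>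
  ⟨conjS hS P d⁻¹ y, Subtype.ext (show (d : G)⁻¹ * (((d⁻¹ : 𝔇) : G)⁻¹ * y * (d⁻¹ : 𝔇)) * d = y by
    rw [Subgroup.coe_inv]; group)⟩

theorem conjO_surjective (d : 𝔇) : Function.Surjective (conjO hS P d) := fun y =>
  ⟨conjO hS P d⁻¹ y, Subtype.ext (show (d : G)⁻¹ * (((d⁻¹ : 𝔇) : G)⁻¹ * y * (d⁻¹ : 𝔇)) * d = y by
    rw [Subgroup.coe_inv]; group)⟩

/-- The conjugate of an irreducible character of the two-part. -/
noncomputable def twS (d : 𝔇) (α : Cfsg.IrrCharacter P.S) : Cfsg.IrrCharacter P.S :=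
  ⟨fun s => (α : P.S → ℂ) (conjS hS P d s), IsIrr.comp_surjective _ (conjS_surjective hS P d) α.2⟩

/-- The conjugate of an irreducible character of the odd part. -/
noncomputable def twO (d : 𝔇) (η : Cfsg.IrrCharacter P.O) : Cfsg.IrrCharacter P.O :=
  ⟨fun s => (η : P.O → ℂ) (conjO hS P d s), IsIrr.comp_surjective _ (conjO_surjective hS P d) η.2⟩

theorem twS_mul (d e : 𝔇) (α : Cfsg.IrrCharacter P.S) :
    twS hS P (d * e) α = twS hS P d (twS hS P e α) :=
  Subtype.ext (funext fun s => congrArg (α : P.S → ℂ) (Subtype.ext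
    (show ((d * e : 𝔇) : G)⁻¹ * s * (d * e : 𝔇) = (e : G)⁻¹ * ((d : G)⁻¹ * s * d) * e by
      rw [Subgroup.coe_mul]; group)))

theorem twS_one (α : Cfsg.IrrCharacter P.S) : twS hS P 1 α = α :=
  Subtype.ext (funext fun s => congrArg (α : P.S → ℂ) (Subtype.ext
    (show ((1 : 𝔇) : G)⁻¹ * s * (1 : 𝔇) = (s : G) by simp)))

theorem twO_mul (d e : 𝔇) (η : Cfsg.IrrCharacter P.O) :
    twO hS P (d * e) η = twO hS P d (twO hS P e η) :=
  Subtype.ext (funext fun s => congrArg (η : P.O → ℂ) (Subtype.ext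
    (show ((d * e : 𝔇) : G)⁻¹ * s * (d * e : 𝔇) = (e : G)⁻¹ * ((d : G)⁻¹ * s * d) * e by
      rw [Subgroup.coe_mul]; group)))

theorem twO_one (η : Cfsg.IrrCharacter P.O) : twO hS P 1 η = η :=
  Subtype.ext (funext fun s => congrArg (η : P.O → ℂ) (Subtype.ext
    (show ((1 : 𝔇) : G)⁻¹ * s * (1 : 𝔇) = (s : G) by simp)))

/-- The stabiliser of an irreducible character of the odd part. -/
noncomputable def stabO (η : Cfsg.IrrCharacter P.O) : Subgroup 𝔇 where
  carrier := {d | twO hS P d η = η}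
  one_mem' := twO_one hS P η
  mul_mem' {d e} hd he := by
    show twO hS P (d * e) η = η
    rw [twO_mul, show twO hS P e η = η from he, show twO hS P d η = η from hd]
  inv_mem' {d} hd := by
    show twO hS P d⁻¹ η = η
    conv_lhs => rw [← show twO hS P d η = η from hd]
    rw [← twO_mul, inv_mul_cancel, twO_one]

theorem mem_stabO {η : Cfsg.IrrCharacter P.O} {d : 𝔇} : d ∈ stabO hS P η ↔ twO hS P d η = η := Iff.rfl

theorem parts_conjQ (d : 𝔇) (y : ↥Q) :
    P.prS (conjQ hS d y) = conjS hS P d (P.prS y) ∧ P.prO (conjQ hS d y) = conjO hS P d (P.prO y) := by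
  obtain ⟨p, rfl⟩ := P.mulEquiv.surjective y
  have e : conjQ hS d (P.mulEquiv p) = P.mulEquiv (conjS hS P d p.1, conjO hS P d p.2) :=
    Subtype.ext (show (d : G)⁻¹ * ((p.1 : G) * p.2) * d =
      (d : G)⁻¹ * p.1 * d * ((d : G)⁻¹ * p.2 * d) by group)
  rw [e, P.prS_mul, P.prO_mul, P.prS_mul, P.prO_mul]
  exact ⟨rfl, rfl⟩

variable [Fintype ↥Q] [Fintype P.S] [Fintype P.O]

theorem twI_irrPr (d : 𝔇) (α : Cfsg.IrrCharacter P.S) (η : Cfsg.IrrCharacter P.O) :
    twI hS d (P.irrPr α η) = P.irrPr (twS hS P d α) (twO hS P d η) := by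
  refine Subtype.ext (funext fun y => ?_)
  obtain ⟨h1, h2⟩ := parts_conjQ hS P d y
  show (α : P.S → ℂ) (P.prS (conjQ hS d y)) * (η : P.O → ℂ) (P.prO (conjQ hS d y)) = _
  rw [h1, h2]
  rfl

theorem stabQ_pr (d : 𝔇) (α : Cfsg.IrrCharacter P.S) (η : Cfsg.IrrCharacter P.O) :
    d ∈ stabQ hS (P.irrPr α η : ↥Q → ℂ) ↔ twS hS P d α = α ∧ d ∈ stabO hS P η := by
  rw [mem_stabQ, mem_stabO]
  constructor
  · intro h
    exact P.irrPr_inj ((twI_irrPr hS P d α η).symm.trans (Subtype.ext h))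
  · rintro ⟨h1, h2⟩
    have h := twI_irrPr hS P d α η
    rw [h1, h2] at h
    exact congrArg Subtype.val h

end Decomp

section Stab

variable (P : QDec Q) (h2 : ∃ x y : G, x ≠ 1 ∧ y ≠ 1 ∧ x ≠ y ∧ x * x = 1 ∧ y * y = 1 ∧ x * y = y * x)
  {F : Type} [Field F] [Fintype F] (C : Coord a t F) (hN : NoExt t Q) (hCS : CentShape a t Q)
include h2 hN hCS

/-- An element of prime order fixing a nontrivial irreducible character of the odd part. -/
theorem of_fix_O {η : Cfsg.IrrCharacter P.O} (hη : η ≠ trivChar P.O) {d : 𝔇} {r : ℕ} (hr : r.Prime)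
    (hd : orderOf d = r) (hfix : twO hS P d η = η) :
    C.aut ⟨d, (Subgroup.mem_inf.1 d.2).1⟩ ≠ 1 ∧ qq G a = 2 ^ r ∧ Nat.card C.aut.range = r ∧
      ∃ k ∈ 𝔇, k * (d : G) * k⁻¹ ∈ Vg a t ∧ qx a (k * (d : G) * k⁻¹) = 2 := by
  have hdo : orderOf (d : G) = r := by rw [Subgroup.orderOf_coe, hd]
  have hco : ¬ r ∣ Nat.card P.O := fun h => hr.ne_one (Nat.eq_one_of_dvd_coprimes
    (coprime_D_Q hS h2 hCS C hN) (hd ▸ orderOf_dvd_natCard d)
    (h.trans (Subgroup.card_dvd_of_le P.O_le)))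
  obtain ⟨y, hy, hy1, hc⟩ := exists_fixed_of_fixed_irr P.O hr hdo
    (fun y hy => P.conj_O (fun z hz => Q_conj hS d.2 hz) hy)
    (fun y hy => by
      have := P.conj_O (d := (d : G)⁻¹) (fun z hz => Q_conj hS (inv_mem d.2) hz) hy
      rwa [inv_inv] at this) hco η hη (fun y => by
      have h := congrFun (congrArg Subtype.val hfix) ⟨(d : G) * y * (d : G)⁻¹,
        P.conj_O (fun z hz => Q_conj hS d.2 hz) y.2⟩
      refine h.symm.trans (congrArg (η : P.O → ℂ) (Subtype.ext ?_))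
      show (d : G)⁻¹ * ((d : G) * y * (d : G)⁻¹) * d = y
      group)
  exact of_commute_odd hS h2 hCS C hN d.2 hr hdo (P.O_le hy) hy1
    (P.odd.of_dvd_nat (P.O.orderOf_dvd_natCard hy)) hc

/-- The stabiliser of a nontrivial irreducible character of the odd part. -/
theorem stabO_cases {η : Cfsg.IrrCharacter P.O} (hη : η ≠ trivChar P.O) :
    stabO hS P η = ⊥ ∨ ∃ p : ℕ, p.Prime ∧ qq G a = 2 ^ p ∧ Nat.card C.aut.range = p ∧
      Nat.card (stabO hS P η) = p ∧
      ∀ d ∈ stabO hS P η, d ≠ 1 → C.aut ⟨d, (Subgroup.mem_inf.1 d.2).1⟩ ≠ 1 := by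
  classical
  by_cases hb : stabO hS P η = ⊥
  · exact Or.inl hb
  right
  let φ : 𝔇 →* (F ≃+* F) := C.aut.comp (Subgroup.inclusion inf_le_left)
  have hprime : ∀ d ∈ stabO hS P η, d ≠ 1 → φ d ≠ 1 := by
    intro d hd hd1 h0
    obtain ⟨r, hr, m, hm⟩ := Nat.exists_prime_and_dvd (orderOf_eq_one_iff.not.2 hd1)
    have hm0 : m ≠ 0 := fun h => (orderOf_pos d).ne' (by rw [hm, h, mul_zero])
    have hord : orderOf (d ^ m) = r := by
      rw [orderOf_pow_of_dvd hm0 ⟨r, by rw [hm, mul_comm]⟩, hm, Nat.mul_div_cancel _ (Nat.pos_of_ne_zero hm0)]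
    have h := (of_fix_O hS P h2 C hN hCS hη hr hord (pow_mem hd m)).1
    refine h (Eq.trans ?_ (show φ (d ^ m) = 1 by rw [map_pow, h0, one_pow]))
    rfl
  obtain ⟨d, hd, hd1⟩ := (stabO hS P η).bot_or_exists_ne_one.resolve_left hb
  obtain ⟨r, hr, m, hm⟩ := Nat.exists_prime_and_dvd (orderOf_eq_one_iff.not.2 hd1)
  have hm0 : m ≠ 0 := fun h => (orderOf_pos d).ne' (by rw [hm, h, mul_zero])
  have hord : orderOf (d ^ m) = r := by
    rw [orderOf_pow_of_dvd hm0 ⟨r, by rw [hm, mul_comm]⟩, hm, Nat.mul_div_cancel _ (Nat.pos_of_ne_zero hm0)]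
  obtain ⟨-, hq, hA, -⟩ := of_fix_O hS P h2 C hN hCS hη hr hord (pow_mem hd m)
  haveI : Finite ↥C.aut.range := Finite.of_surjective _ C.aut.rangeRestrict_surjective
  let ψ : ↥(stabO hS P η) →* ↥C.aut.range :=
    (φ.comp (stabO hS P η).subtype).codRestrict _ fun e => ⟨_, rfl⟩
  have hψ : Function.Injective ψ := (injective_iff_map_eq_one ψ).2 fun e he => by
    by_contra hne
    exact hprime e e.2 (fun h => hne (Subtype.ext h)) (congrArg Subtype.val he)
  have hdvd : Nat.card (stabO hS P η) ∣ r := hA ▸ Subgroup.card_dvd_of_injective ψ hψ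
  refine ⟨r, hr, hq, hA, ?_, fun e he hne => hprime e he hne⟩
  rcases (Nat.dvd_prime hr).1 hdvd with h | h
  · exact absurd (Subgroup.eq_bot_of_card_eq _ h) hb
  · exact h

end Stab

end CfsgLib.Lie.RankOneClass
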