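import Cfsg.Agent.Lib.Lie.RankOneClass.Eta

/-!
Owner: helper5. The values of the exceptional characters on the two-part of `Q`.
-/

set_option autoImplicit false
set_option linter.unusedSectionVars false

namespace CfsgLib.Lie.RankOneClass

open MulAction CfsgLib.Lie.RankOne CfsgLib.Char
open scoped ComplexConjugate

section Surj

variable {G : Type*} [Group G] [Finite G] {Q : Subgroup G} (P : QDec Q) [Fintype ↥Q] [Fintype P.S] [Fintype P.O]

/-- Every irreducible character of `Q` is a product. -/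
theorem irrPr_surjective (θ : Cfsg.IrrCharacter Q) : ∃ α η, P.irrPr α η = θ := by
  classical
  haveI := Fintype.ofFinite (Cfsg.IrrCharacter Q)
  haveI := Fintype.ofFinite (Cfsg.IrrCharacter P.S)
  haveI := Fintype.ofFinite (Cfsg.IrrCharacter P.O)
  by_contra hcon
  push Not at hcon
  let f : Cfsg.IrrCharacter P.S × Cfsg.IrrCharacter P.O → Cfsg.IrrCharacter Q := fun p => P.irrPr p.1 p.2
  have hf : Function.Injective f := fun p p' h => Prod.ext (P.irrPr_inj h).1 (P.irrPr_inj h).2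
  have hθ : θ ∉ Finset.univ.image f := fun h => by
    obtain ⟨p, -, hp⟩ := Finset.mem_image.1 h
    exact hcon p.1 p.2 hp
  have h1 : ∑ x ∈ Finset.univ.image f, (x : ↥Q → ℂ) 1 ^ 2 = (Nat.card Q : ℂ) := by
    rw [Finset.sum_image fun p _ p' _ h => hf h, Fintype.sum_prod_type,
      ← Nat.card_congr P.mulEquiv.toEquiv, Nat.card_prod, Nat.cast_mul, ← sum_sq_degree (G := P.S),
      ← sum_sq_degree (G := P.O), Finset.sum_mul_sum]
    refine Finset.sum_congr rfl fun α _ => Finset.sum_congr rfl fun η _ => ?_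
    show P.pr α η 1 ^ 2 = _
    rw [P.pr_one, mul_pow]
  have h2 : ∑ x ∈ (Finset.univ.image f)ᶜ, (x : ↥Q → ℂ) 1 ^ 2 = 0 := by
    have h := Finset.sum_add_sum_compl (Finset.univ.image f) fun x : Cfsg.IrrCharacter Q => (x : ↥Q → ℂ) 1 ^ 2
    rw [h1, sum_sq_degree] at h
    exact add_eq_left.1 h
  have h3 : ∀ x : Cfsg.IrrCharacter Q, ∃ n : ℕ, 0 < n ∧ (x : ↥Q → ℂ) 1 ^ 2 = ((n ^ 2 : ℕ) : ℂ) := fun x => by
    obtain ⟨n, hn, he⟩ := IsIrr.exists_degree x.2
    exact ⟨n, hn, by rw [he, Nat.cast_pow]⟩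
  choose n hn he using h3
  rw [Finset.sum_congr rfl fun x _ => he x, ← Nat.cast_sum, Nat.cast_eq_zero] at h2
  have h4 := Finset.sum_eq_zero_iff.1 h2 θ (Finset.mem_compl.2 hθ)
  have := Nat.pow_pos (n := 2) (hn θ)
  omega

end Surj

variable {G Ω : Type*} [Group G] [MulAction G Ω] [Fintype G] [FaithfulSMul G Ω] {a : Ω} {t : G}
  {Q : Subgroup G} {F : Type} [Field F] [Fintype F] {C : Coord a t F} [Fintype ↥Q]
  (Sp : Split C Q) {P : QDec Q} [Fintype P.S] [Fintype P.O]

local notation "𝔇" => ((stabilizer G a ⊓ stabilizer G (t • a)) : Subgroup G)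
local notation "𝔎" => Cfsg.invertedBy (stabilizer G a ⊓ stabilizer G (t • a)) t
local notation "𝔍" => Cfsg.involutionsIn (stabilizer G a : Set G)

/-- The multiplicity attached to a character of the odd part. -/
noncomputable def Split.mEta (η : Cfsg.IrrCharacter P.O) : ℕ := Sp.mult (P.irrPr (trivChar P.S) η)

/-- The component over the trivial character of the odd part. -/
noncomputable def Split.psi [Fintype (Cfsg.IrrCharacter P.S)] (s : P.S) : ℂ :=
  ∑ α : Cfsg.IrrCharacter P.S, (Sp.mult (P.irrPr α (trivChar P.O)) : ℂ) * (α : P.S → ℂ) s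

open Classical in
/-- The expansion of the restriction to `Q`. -/
theorem Split.expand [Fintype (Cfsg.IrrCharacter P.S)] [Fintype (Cfsg.IrrCharacter P.O)] (y : ↥Q) :
    Sp.res y = ∑ η : Cfsg.IrrCharacter P.O, ∑ α : Cfsg.IrrCharacter P.S,
      (Sp.mult (P.irrPr α η) : ℂ) * ((α : P.S → ℂ) (P.prS y) * (η : P.O → ℂ) (P.prO y)) := by
  haveI := Fintype.ofFinite (Cfsg.IrrCharacter Q)
  rw [classFunction_apply_eq_sum (IsChar.isClassFunction Sp.res_isChar) y, Finset.sum_comm,
    ← Fintype.sum_prod_type']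
  refine (Fintype.sum_bijective (fun p : Cfsg.IrrCharacter P.S × Cfsg.IrrCharacter P.O => P.irrPr p.1 p.2)
    ⟨fun p p' h => Prod.ext (P.irrPr_inj h).1 (P.irrPr_inj h).2, fun θ => ?_⟩ _ _ fun p => ?_).symm
  · obtain ⟨α, η, h⟩ := irrPr_surjective P θ
    exact ⟨(α, η), h⟩
  · rw [← classInner_conj_symm, Sp.inner_mult, Complex.conj_natCast]
    rfl

variable (hS : Cfsg.IsRankOneSetup G Ω a t Q)
  (h2 : ∃ x y : G, x ≠ 1 ∧ y ≠ 1 ∧ x ≠ y ∧ x * x = 1 ∧ y * y = 1 ∧ x * y = y * x)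
  (Rl : Rel C P) (hN : NoExt t Q) (hCS : CentShape a t Q)
include hS h2 Rl hN hCS

theorem Split.mult_eq_mEta {η : Cfsg.IrrCharacter P.O} (hη : η ≠ trivChar P.O)
    (α : Cfsg.IrrCharacter P.S) :
    (Sp.mult (P.irrPr α η) : ℂ) = (Sp.mEta η : ℂ) * (α : P.S → ℂ) 1 := by
  haveI : Fintype ↥((stabilizer G a ⊓ stabilizer G (t • a)) : Subgroup G) := Fintype.ofFinite _
  obtain ⟨α₀, -, h⟩ := mult_eta hS h2 Sp Rl hN hCS hη
  have h1 := h (trivChar P.S)
  rw [trivChar_apply, mul_one] at h1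
  rw [h α, Split.mEta, h1]

/-- Nontrivial characters of the odd part of equal degree have equal multiplicities. -/
theorem Split.mEta_eq {η η' : Cfsg.IrrCharacter P.O} (hη : η ≠ trivChar P.O) (hη' : η' ≠ trivChar P.O)
    (hdeg : (η : P.O → ℂ) 1 = (η' : P.O → ℂ) 1) : Sp.mEta η = Sp.mEta η' := by
  haveI : Fintype ↥((stabilizer G a ⊓ stabilizer G (t • a)) : Subgroup G) := Fintype.ofFinite _
  obtain ⟨α₀, hs, h⟩ := mult_eta hS h2 Sp Rl hN hCS hη
  obtain ⟨α₁, hs', h'⟩ := mult_eta hS h2 Sp Rl hN hCS hη'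
  have he := pair_eq hS Sp (irrPr_ne_triv hη (Rel.linIrr α₀)) (irrPr_ne_triv hη' (Rel.linIrr α₁))
    (by rw [deg_irrPr, deg_irrPr, deg_linIrr, deg_linIrr, hdeg]) (by
      rw [hs, hs', Subgroup.card_bot]
      have := Sp.one_le_L
      omega)
  have h1 := Sp.mult_eq_mEta hS h2 Rl hN hCS hη (Rel.linIrr α₀)
  have h1' := Sp.mult_eq_mEta hS h2 Rl hN hCS hη' (Rel.linIrr α₁)
  rw [deg_linIrr, mul_one] at h1 h1'
  have h1n : Sp.mult (P.irrPr (Rel.linIrr α₀) η) = Sp.mEta η := by exact_mod_cast h1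
  have h1n' : Sp.mult (P.irrPr (Rel.linIrr α₁) η') = Sp.mEta η' := by exact_mod_cast h1'
  omega

open Classical in
/-- The value on a nontrivial element of the two-part. -/
theorem Split.value_S [Fintype (Cfsg.IrrCharacter P.S)] {s : P.S} (hs : s ≠ 1) :
    (Sp.χ : G → ℂ) (s : G) = Sp.psi s := by
  haveI := Fintype.ofFinite (Cfsg.IrrCharacter P.O)
  have h := Sp.expand (P := P) ⟨s, P.S_le s.2⟩
  have e : (⟨(s : G), P.S_le s.2⟩ : ↥Q) = P.mulEquiv (s, 1) :=
    Subtype.ext (show (s : G) = (s : G) * ((1 : P.O) : G) by rw [Subgroup.coe_one, mul_one])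
  show Sp.res ⟨s, P.S_le s.2⟩ = _
  rw [h, e, P.prS_mul, P.prO_mul, ← Finset.add_sum_erase _ _ (Finset.mem_univ (trivChar P.O))]
  rw [Finset.sum_eq_zero (s := Finset.univ.erase (trivChar P.O)) (fun η hη => ?_), add_zero]
  · exact Finset.sum_congr rfl fun α _ => by rw [trivChar_apply, mul_one]
  · simp only [Sp.mult_eq_mEta hS h2 Rl hN hCS (Finset.ne_of_mem_erase hη)]
    rw [Finset.sum_congr rfl (g := fun α : Cfsg.IrrCharacter P.S =>
      ((Sp.mEta η : ℂ) * (η : P.O → ℂ) 1) * ((α : P.S → ℂ) 1 * (α : P.S → ℂ) s)) fun α _ => by ring,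
      ← Finset.mul_sum, sum_degree_mul_apply_of_ne_one hs, mul_zero]

open Classical in
/-- The degree. -/
theorem Split.value_one [Fintype (Cfsg.IrrCharacter P.S)] [Fintype (Cfsg.IrrCharacter P.O)] :
    (Sp.χ : G → ℂ) 1 = Sp.psi (P := P) 1 + (Nat.card P.S : ℂ) *
      ∑ η ∈ Finset.univ.erase (trivChar P.O), (Sp.mEta η : ℂ) * (η : P.O → ℂ) 1 := by
  have h := Sp.expand (P := P) 1
  rw [map_one, map_one, ← Finset.add_sum_erase _ _ (Finset.mem_univ (trivChar P.O))] at h
  show Sp.res 1 = _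
  rw [h, Finset.mul_sum]
  congr 1
  · exact Finset.sum_congr rfl fun α _ => by rw [trivChar_apply, mul_one]
  · refine Finset.sum_congr rfl fun η hη => ?_
    simp only [Sp.mult_eq_mEta hS h2 Rl hN hCS (Finset.ne_of_mem_erase hη)]
    rw [← sum_sq_degree (G := P.S), Finset.sum_mul]
    exact Finset.sum_congr rfl fun α _ => by ring

open Classical in
/-- The two components over the trivial character sum up to the trivial plus the regular character. -/
theorem Split.psi_add_swap [Fintype (Cfsg.IrrCharacter P.S)] (s : P.S) :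
    Sp.psi s + Sp.swap.psi s = 1 + if s = 1 then (Nat.card P.S : ℂ) else 0 := by
  have hm : ∀ α : Cfsg.IrrCharacter P.S, ((Sp.mult (P.irrPr α (trivChar P.O)) : ℂ) +
      (Sp.swap.mult (P.irrPr α (trivChar P.O)) : ℂ)) =
      (α : P.S → ℂ) 1 + if α = trivChar P.S then 1 else 0 := fun α => by
    by_cases hα : α = trivChar P.S
    · subst hα
      have he : P.irrPr (trivChar P.S) (trivChar P.O) = trivChar Q :=
        Subtype.ext (funext fun y => one_mul (1 : ℂ))
      rw [he, Sp.mult_add_swap_triv, if_pos rfl, trivChar_apply, one_add_one_eq_two]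
    · rw [if_neg hα, add_zero, Sp.mult_add_swap, deg_irrPr, trivChar_apply, mul_one]
      intro h
      refine hα (P.irrPr_inj (α' := trivChar P.S) (η' := trivChar P.O) (h.trans ?_)).1
      exact Subtype.ext (funext fun y => (one_mul (1 : ℂ)).symm)
  rw [Split.psi, Split.psi, ← Finset.sum_add_distrib]
  simp only [← add_mul, hm]
  rw [Finset.sum_congr rfl fun (α : Cfsg.IrrCharacter P.S) _ => add_mul ((α : P.S → ℂ) 1) _ _,
    Finset.sum_add_distrib, add_comm (∑ α : Cfsg.IrrCharacter P.S, (α : P.S → ℂ) 1 * _)]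
  congr 1
  · simp only [ite_mul, one_mul, zero_mul, Finset.sum_ite_eq', Finset.mem_univ, if_true, trivChar_apply]
  · split_ifs with hs
    · rw [hs, ← sum_sq_degree (G := P.S)]
      exact Finset.sum_congr rfl fun α _ => (sq _).symm
    · exact sum_degree_mul_apply_of_ne_one hs

end CfsgLib.Lie.RankOneClass
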